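import Groth.Agent.Lib.Flat55.FlatFunLimit
import Groth.Agent.Lib.Flat55.FlatDimLimit

/-!
# Inverse images of finitely presented modules
-/

set_option autoImplicit false

universe u

open CategoryTheory CategoryTheory.Limits AlgebraicGeometry Opposite TensorProduct
open Groth.Agent.Lib Groth.Agent.Lib.QCoh Groth.Agent.Lib.QCoh.Tilde Groth.Agent.Lib.QCoh.Pullback

namespace Groth.Agent.H46.FibreProf.PullFP

/-- The inverse image of a finitely presented module is finitely presented. -/
theorem isFP_pullback {X Z : Scheme.{u}} (h : Z ⟶ X) (F : X.Modules) [F.IsQuasicoherent]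
    (hF : CohB1.IsFP F) : CohB1.IsFP ((Scheme.Modules.pullback h).obj F) := by
  refine Kaehler.LocalPres.isFP_of_cover fun z => ?_
  obtain ⟨U, hU, hxU, -⟩ := exists_isAffineOpen_mem_and_subset (U := ⊤) (x := h z) trivial
  obtain ⟨W, hW, hzW, hWU⟩ := exists_isAffineOpen_mem_and_subset (U := h ⁻¹ᵁ U) (x := z) hxU
  have := isQCoh_pullback hU.fromSpec F
  obtain ⟨e₀⟩ := DescAlg.FPPush.exists_specΓ_equiv hU F
  let φ := h.appLE U W hWU
  let N := (ModuleCat.extendScalars φ.hom).obj (ModuleCat.of Γ(X, U) Γ(F, U))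
  let e : (Scheme.Modules.pullback (hW.fromSpec ≫ h)).obj F ≅ (tilde.functor _).obj N :=
    (Scheme.Modules.pullbackCongr (IsAffineOpen.SpecMap_appLE_fromSpec _ hU hW hWU).symm).app F ≪≫
      ((Scheme.Modules.pullbackComp (Spec.map φ) hU.fromSpec).app F).symm ≪≫
      (Scheme.Modules.pullback (Spec.map φ)).mapIso
        ((isoTildeSections _).symm ≪≫ (tilde.functor _).mapIso
          ((specΓ _).mapIso ((Scheme.Modules.restrictFunctorIsoPullback hU.fromSpec).app F).symm ≪≫ e₀)) ≪≫
      (pullbackTildeIso φ).app _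
  have : Module.FinitePresentation Γ(X, U) Γ(F, U) := DescAlg.FPPush.finitePresentation_sections hU F hF
  letI : Algebra Γ(X, U) Γ(Z, W) := φ.hom.toAlgebra
  have : Module.FinitePresentation Γ(Z, W) N :=
    inferInstanceAs (Module.FinitePresentation Γ(Z, W) (Γ(Z, W) ⊗[Γ(X, U)] Γ(F, U)))
  exact ⟨W, hW, hzW, N, this, ⟨(Scheme.Modules.restrictFunctorIsoPullback hW.fromSpec).app _ ≪≫
    (Scheme.Modules.pullbackComp hW.fromSpec h).app F ≪≫ e⟩⟩

end Groth.Agent.H46.FibreProf.PullFP
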