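import Groth.Agent.Lib.DMod.LocLoc
import Groth.Agent.Lib.StalkLoc.Basic
import Groth.Agent.Lib.Modules.Support
import Groth.Agent.Lib.Depth.Basic

/-!
# Localizations of stalks of quasi-coherent modules are stalks at generizations
-/

set_option autoImplicit false
set_option linter.style.haveILetI false

universe u

open CategoryTheory AlgebraicGeometry IsLocalRing

namespace Groth.Agent.H46.FibreProf.LocStalk

open Groth.Agent.Lib

/-- Depth and dimension of a localized module in any model. -/
theorem depth_supportDim_eq {Γ : Type u} [CommRing Γ] (q : Ideal Γ) [q.IsPrime] (S : Type u)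
    [CommRing S] [IsLocalRing S] [Algebra Γ S] [IsLocalization.AtPrime S q] {M : Type u}
    [AddCommGroup M] [Module Γ M] (N : Type u) [AddCommGroup N] [Module Γ N] [Module S N]
    [IsScalarTower Γ S N] (g : M →ₗ[Γ] N) [IsLocalizedModule q.primeCompl g] :
    LocCoh.depth S N =
        LocCoh.depth (Localization.AtPrime q) (LocalizedModule q.primeCompl M) ∧
      Module.supportDim S N =
        Module.supportDim (Localization.AtPrime q) (LocalizedModule q.primeCompl M) := by
  let ε : Localization.AtPrime q ≃ₐ[Γ] S := IsLocalization.algEquiv q.primeCompl _ _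
  letI : Algebra (Localization.AtPrime q) S := ε.toRingHom.toAlgebra
  letI : Module (Localization.AtPrime q) N := Module.compHom _ ε.toRingHom
  haveI : IsScalarTower (Localization.AtPrime q) S N :=
    IsScalarTower.of_algebraMap_smul fun _ _ => rfl
  haveI : IsScalarTower Γ (Localization.AtPrime q) N :=
    IsScalarTower.of_algebraMap_smul fun r m => by
      show ε (algebraMap Γ (Localization.AtPrime q) r) • m = r • m
      rw [ε.commutes]
      exact algebraMap_smul _ r m
  let e : LocalizedModule q.primeCompl M ≃ₗ[Localization.AtPrime q] N :=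
    (IsLocalizedModule.iso q.primeCompl g).extendScalarsOfIsLocalization q.primeCompl _
  have hb : Function.Bijective (algebraMap (Localization.AtPrime q) S) := ε.bijective
  rw [DMod.LocLoc.depth_eq hb N, DMod.LocLoc.supportDim_eq hb N]
  exact ⟨(Depth.Basic.depth_congr e).symm, (Module.supportDim_eq_of_equiv e).symm⟩

section loc

variable {Γ O : Type u} [CommRing Γ] [CommRing O] [Algebra Γ O] (p : Ideal Γ) [p.IsPrime]
  [IsLocalization.AtPrime O p] {M N : Type u} [AddCommGroup M] [Module Γ M] [AddCommGroup N]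
  [Module Γ N] [Module O N] [IsScalarTower Γ O N] (g : M →ₗ[Γ] N) [IsLocalizedModule p.primeCompl g]
  (P : Ideal O) [P.IsPrime]

include p in
/-- A localization of a localization. -/
theorem isLocalizedModule_comp :
    IsLocalizedModule (P.comap (algebraMap Γ O)).primeCompl
      (((LocalizedModule.mkLinearMap P.primeCompl N).restrictScalars Γ) ∘ₗ g) := by
  let f₂ := LocalizedModule.mkLinearMap P.primeCompl N
  let f : M →ₗ[Γ] LocalizedModule P.primeCompl N := (f₂.restrictScalars Γ) ∘ₗ g
  let q := P.comap (algebraMap Γ O)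
  have hu : ∀ v : p.primeCompl, algebraMap Γ O (v : Γ) ∉ P := fun v hv =>
    (‹P.IsPrime›).ne_top (P.eq_top_of_isUnit_mem hv (IsLocalization.map_units O v))
  refine ⟨fun t => ?_, fun n => ?_, fun {m₁ m₂} hm => ?_⟩
  · rw [Module.End.isUnit_iff]
    have h1 := (Module.End.isUnit_iff _).1
      (IsLocalizedModule.map_units f₂ (⟨algebraMap Γ O t, t.2⟩ : P.primeCompl))
    convert h1 using 1
    ext z
    simp [Module.algebraMap_end_apply, algebraMap_smul]
  · obtain ⟨⟨y, t⟩, hyt⟩ := IsLocalizedModule.surj P.primeCompl f₂ n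
    obtain ⟨⟨m, s⟩, hms⟩ := IsLocalizedModule.surj p.primeCompl g y
    obtain ⟨⟨t₀, u⟩, htu⟩ := IsLocalization.surj p.primeCompl (t : O)
    dsimp only at hms htu hyt
    refine ⟨((u : Γ) • m, ⟨s * t₀, fun hc => ?_⟩), ?_⟩
    · rcases (show q.IsPrime from inferInstance).mem_or_mem hc with hc | hc
      · exact hu s hc
      · change algebraMap Γ O t₀ ∈ P at hc
        rw [← htu] at hc
        exact ((‹P.IsPrime›).mem_or_mem hc).elim t.2 (hu u)
    · change ((s : Γ) * t₀) • n = f₂ (g ((u : Γ) • m))
      rw [mul_smul, map_smul, LinearMap.map_smul_of_tower, ← hms, Submonoid.smul_def,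
        LinearMap.map_smul_of_tower, ← hyt, Submonoid.smul_def, ← algebraMap_smul O t₀ n, ← htu,
        mul_comm, mul_smul, algebraMap_smul]
      exact smul_comm _ _ _
  · change f₂ (g m₁) = f₂ (g m₂) at hm
    obtain ⟨t, ht⟩ := (IsLocalizedModule.eq_iff_exists P.primeCompl f₂).1 hm
    obtain ⟨⟨t₀, u⟩, htu⟩ := IsLocalization.surj p.primeCompl (t : O)
    dsimp only at htu
    have h2 : g (t₀ • m₁) = g (t₀ • m₂) := by
      rw [map_smul, map_smul, ← algebraMap_smul O t₀, ← algebraMap_smul O t₀, ← htu, mul_comm,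
        mul_smul, mul_smul]
      exact congrArg _ ht
    obtain ⟨v, hv⟩ := (IsLocalizedModule.eq_iff_exists p.primeCompl g).1 h2
    refine ⟨⟨v * t₀, fun hc => ?_⟩, ?_⟩
    · rcases (show q.IsPrime from inferInstance).mem_or_mem hc with hc | hc
      · exact hu v hc
      · change algebraMap Γ O t₀ ∈ P at hc
        rw [← htu] at hc
        exact ((‹P.IsPrime›).mem_or_mem hc).elim t.2 (hu u)
    · simp only [Submonoid.smul_def] at hv ⊢
      rw [mul_smul, mul_smul]
      exact hv

end loc

variable {X : Scheme.{u}} (M : X.Modules) [M.IsQuasicoherent]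

/-- Depth and dimension of a localization of a stalk are those of the stalk at the generization. -/
theorem depth_supportDim_stalk (x : X) (P : PrimeSpectrum (X.presheaf.stalk x)) :
    LocCoh.depth (Localization.AtPrime P.asIdeal)
        (LocalizedModule P.asIdeal.primeCompl (M.presheaf.stalk x)) =
      LocCoh.depth (X.presheaf.stalk (X.fromSpecStalk x P))
        (M.presheaf.stalk (X.fromSpecStalk x P)) ∧
    Module.supportDim (Localization.AtPrime P.asIdeal)
        (LocalizedModule P.asIdeal.primeCompl (M.presheaf.stalk x)) =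
      Module.supportDim (X.presheaf.stalk (X.fromSpecStalk x P))
        (M.presheaf.stalk (X.fromSpecStalk x P)) := by
  obtain ⟨U, hU, hx, -⟩ := exists_isAffineOpen_mem_and_subset (x := x) (U := ⊤) trivial
  let Γ' := Γ(X, U)
  letI := TopCat.Presheaf.algebra_section_stalk X.presheaf (⟨x, hx⟩ : U)
  haveI := hU.isLocalization_stalk ⟨x, hx⟩
  letI := StalkLoc.Basic.moduleSections M hx
  haveI := StalkLoc.Basic.isScalarTower_sections M hx
  haveI := StalkLoc.Basic.isLocalizedModule_germ (M := M) hU hx
  have he : X.fromSpecStalk x P = hU.fromSpec (P.comap (algebraMap Γ(X, U) (X.presheaf.stalk x))) := by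
    rw [← hU.fromSpecStalk_eq_fromSpecStalk hx]
    rfl
  have hz : X.fromSpecStalk x P ∈ U := by
    rw [he, ← SetLike.mem_coe, ← hU.range_fromSpec]; exact ⟨_, rfl⟩
  have hq : (hU.primeIdealOf ⟨_, hz⟩).asIdeal =
      P.asIdeal.comap (algebraMap Γ(X, U) (X.presheaf.stalk x)) := congrArg PrimeSpectrum.asIdeal
    (hU.fromSpec.isOpenEmbedding.injective ((hU.fromSpec_primeIdealOf ⟨_, hz⟩).trans he))
  let q := P.asIdeal.comap (algebraMap Γ(X, U) (X.presheaf.stalk x))
  -- the left-hand side
  haveI : IsLocalization.AtPrime (Localization.AtPrime P.asIdeal) q :=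
    IsLocalization.isLocalization_isLocalization_atPrime_isLocalization
      (hU.primeIdealOf ⟨x, hx⟩).asIdeal.primeCompl (Localization.AtPrime P.asIdeal) P.asIdeal
  haveI := isLocalizedModule_comp (hU.primeIdealOf ⟨x, hx⟩).asIdeal (StalkLoc.Basic.germₗ M hx) P.asIdeal
  have h1 := depth_supportDim_eq q (Localization.AtPrime P.asIdeal)
    (LocalizedModule P.asIdeal.primeCompl (M.presheaf.stalk x))
    (((LocalizedModule.mkLinearMap P.asIdeal.primeCompl (M.presheaf.stalk x)).restrictScalars Γ') ∘ₗ
      StalkLoc.Basic.germₗ M hx)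
  -- the right-hand side
  let z := X.fromSpecStalk x P
  letI := TopCat.Presheaf.algebra_section_stalk X.presheaf (⟨z, hz⟩ : U)
  haveI : IsLocalization.AtPrime (X.presheaf.stalk z) q := by
    show IsLocalization q.primeCompl _
    rw [show q.primeCompl = (hU.primeIdealOf ⟨_, hz⟩).asIdeal.primeCompl from
      SetLike.ext fun r => not_congr (SetLike.ext_iff.1 hq r).symm]
    exact hU.isLocalization_stalk ⟨z, hz⟩
  letI := StalkLoc.Basic.moduleSections M hz
  haveI := StalkLoc.Basic.isScalarTower_sections M hz
  haveI : IsLocalizedModule q.primeCompl (StalkLoc.Basic.germₗ M hz) := by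
    rw [show q.primeCompl = (hU.primeIdealOf ⟨_, hz⟩).asIdeal.primeCompl from
      SetLike.ext fun r => not_congr (SetLike.ext_iff.1 hq r).symm]
    exact StalkLoc.Basic.isLocalizedModule_germ (M := M) hU hz
  have h2 := depth_supportDim_eq q (X.presheaf.stalk z) (M.presheaf.stalk z)
    (StalkLoc.Basic.germₗ M hz)
  exact ⟨h1.1.trans h2.1.symm, h1.2.trans h2.2.symm⟩

end Groth.Agent.H46.FibreProf.LocStalk
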