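import Groth.Agent.H46.FibreProf.Open
import Groth.Agent.Lib.BettiExact.TorComp
import Groth.Agent.Lib.TensorMod.FPConv
import Groth.Agent.H19.FlatLocus.Main

/-!
# The structure module in the fibre conditions; dimensions of closures and equidimensionality
-/

set_option autoImplicit false
set_option linter.style.haveILetI false

universe u

open CategoryTheory AlgebraicGeometry IsLocalRing TensorProduct
open Groth.Agent.H46.FibreTrdeg Groth.Agent.H46.DimData Groth.Agent.H46.FibreProf.Basic
open Groth.Agent.H46.FibreProf.Open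

namespace Groth.Agent.H46.FibreProf.Unit

open Groth.Agent.Lib

variable {X S : Scheme.{u}} (f : X ⟶ S)

theorem isFP_structureModule (X : Scheme.{u}) : CohB1.IsFP (Coh.structureModule X) :=
  TensorMod.FPConv.isFP_of_isFinLocFree fun _ => ⟨⊤, 1, trivial,
    ⟨(Scheme.Modules.restrictFunctor _).mapIso (TensorMod.LocFree.freeModOneIso X).symm ≪≫
      TensorMod.LocFree.restrictFreeModIso _ 1⟩⟩

theorem isFlatOverAt_structureModule (x : X) :
    FlatMod.IsFlatOverAt f (Coh.structureModule X) x ↔ (f.stalkMap x).hom.Flat := by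
  letI : Algebra (S.presheaf.stalk (f x)) (X.presheaf.stalk x) := (f.stalkMap x).hom.toAlgebra
  letI : Module (S.presheaf.stalk (f x)) ((Coh.structureModule X).presheaf.stalk x) :=
    FlatMod.moduleStalkOver f _ x
  haveI : IsScalarTower (S.presheaf.stalk (f x)) (X.presheaf.stalk x)
      ((Coh.structureModule X).presheaf.stalk x) := IsScalarTower.of_algebraMap_smul fun _ _ => rfl
  let e := (BettiExact.TorComp.stalkUnitEquiv X x).restrictScalars (S.presheaf.stalk (f x))
  exact ⟨fun h => @Module.Flat.of_linearEquiv _ _ _ _ _ _ _ _ h e.symm,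
    fun h => @Module.Flat.of_linearEquiv _ _ _ _ _ _ _ _ h e⟩

/-- The flat locus. -/
noncomputable def flatLocus [LocallyOfFinitePresentation f] : X.Opens :=
  ⟨{x | (f.stalkMap x).hom.Flat}, H19.FlatLocus.Scheme.isOpen_flat_stalkMap (f := f)⟩

theorem flat_on_flatLocus [LocallyOfFinitePresentation f] :
    ∀ x ∈ flatLocus f, FlatMod.IsFlatOverAt f (Coh.structureModule X) x :=
  fun x hx => (isFlatOverAt_structureModule f x).2 hx

/-- The fibre of the structure module is the structure module of the fibre. -/
theorem stalk_equiv (y : S) (a : f.fiber y) :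
    Nonempty ((fm f (Coh.structureModule X) y).presheaf.stalk a ≃ₗ[(f.fiber y).presheaf.stalk a]
      (f.fiber y).presheaf.stalk a) := by
  letI : Algebra (X.presheaf.stalk (f.fiberι y a)) ((f.fiber y).presheaf.stalk a) :=
    ((f.fiberι y).stalkMap a).hom.toAlgebra
  let O := (f.fiber y).presheaf.stalk a
  let Ox := X.presheaf.stalk (f.fiberι y a)
  let e₂ : O ⊗[Ox] (Coh.structureModule X).presheaf.stalk (f.fiberι y a) ≃ₗ[O]
      (fm f (Coh.structureModule X) y).presheaf.stalk a :=
    (asIso ((DerivedOX.PullbackStalk.comparison (f.fiberι y) a).app (Coh.structureModule X))).toLinearEquiv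
  exact ⟨e₂.symm ≪≫ₗ AlgebraTensorModule.congr (LinearEquiv.refl O O)
    (BettiExact.TorComp.stalkUnitEquiv X (f.fiberι y a)) ≪≫ₗ AlgebraTensorModule.rid Ox O O⟩

theorem hasSk_congr {R : Type u} [CommRing R] {M N : Type u} [AddCommGroup M] [AddCommGroup N]
    [Module R M] [Module R N] (e : M ≃ₗ[R] N) {k : ℕ} (h : LocCoh.HasSk k R M) :
    LocCoh.HasSk k R N := by
  intro p hp
  let e' : LocalizedModule p.primeCompl M ≃ₗ[Localization.AtPrime p] LocalizedModule p.primeCompl N :=
    IsLocalizedModule.mapEquiv p.primeCompl (LocalizedModule.mkLinearMap p.primeCompl M)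
      (LocalizedModule.mkLinearMap p.primeCompl N) (Localization.AtPrime p) e
  rw [← Module.supportDim_eq_of_equiv e', ← Depth.Basic.depth_congr e']
  exact h p

section conds

variable [LocallyOfFiniteType f] [(Coh.structureModule X).IsQuasicoherent]
  [SheafOfModules.IsFiniteType (R := X.ringCatSheaf) (Coh.structureModule X)] (y : S) (a : f.fiber y)

theorem hasSk_iff [LocallyOfFinitePresentation f] (k : ℕ) :
    LocCoh.HasSk k ((f.fiber y).presheaf.stalk a) ((f.fiber y).presheaf.stalk a) ↔
      Sk f (Coh.structureModule X) k (f.fiberι y a) := by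
  obtain ⟨e⟩ := stalk_equiv f y a
  rw [← Open.hasSk_iff]
  exact ⟨hasSk_congr e.symm, hasSk_congr e⟩

theorem cop_iff (k : ℕ) :
    ringKrullDim ((f.fiber y).presheaf.stalk a) ≤
      ((LocCoh.depth ((f.fiber y).presheaf.stalk a) ((f.fiber y).presheaf.stalk a) : ℕ∞) :
        WithBot ℕ∞) + k ↔ Cop f (Coh.structureModule X) k (f.fiberι y a) := by
  obtain ⟨e⟩ := stalk_equiv f y a
  rw [← Basic.cop_iff, Module.supportDim_eq_of_equiv e, Depth.Basic.depth_congr e,
    Module.supportDim_self_eq_ringKrullDim]

end conds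

end Groth.Agent.H46.FibreProf.Unit
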