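import Groth.Agent.H22.FibrePD
import Groth.Agent.H20.PDDepth
import Groth.Agent.Lib.DMod.GorFibrePrime
import Groth.Agent.Lib.Depth.CM
import Groth.Agent.Lib.JacCrit.FlatRegular

/-!
# Lower semicontinuity of the depth in the fibres of affine space
-/

set_option autoImplicit false
set_option linter.style.haveILetI false

universe u

open CategoryTheory IsLocalRing TensorProduct
open Groth.Agent.H22.FibrePD

namespace Groth.Agent.H46.FibreProf.Alg

/-- The closed fibre of a localized polynomial ring is regular of dimension at most `n`. -/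
theorem fibre_regular {R : Type u} [CommRing R] {n : ℕ} (Q : Ideal (MvPolynomial (Fin n) R)) [Q.IsPrime] :
    IsRegularLocalRing (Localization.AtPrime Q ⧸
        ((Q.comap (algebraMap R (MvPolynomial (Fin n) R))).map (algebraMap R (MvPolynomial (Fin n) R))).map (algebraMap (MvPolynomial (Fin n) R) (Localization.AtPrime Q))) ∧
      ringKrullDim (Localization.AtPrime Q ⧸
        ((Q.comap (algebraMap R (MvPolynomial (Fin n) R))).map (algebraMap R (MvPolynomial (Fin n) R))).map (algebraMap (MvPolynomial (Fin n) R) (Localization.AtPrime Q))) ≤ n := by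
  let p := Q.comap (algebraMap R (MvPolynomial (Fin n) R))
  let x : (PrimeSpectrum.comap (algebraMap R (MvPolynomial (Fin n) R))) ⁻¹' {(⟨p, inferInstance⟩ : PrimeSpectrum R)} :=
    ⟨⟨Q, inferInstance⟩, rfl⟩
  let qF := (PrimeSpectrum.preimageEquivFiber R (MvPolynomial (Fin n) R) ⟨p, inferInstance⟩ x).asIdeal
  have hQ : qF.comap (Algebra.TensorProduct.includeRight : (MvPolynomial (Fin n) R) →ₐ[R] p.Fiber (MvPolynomial (Fin n) R)) = Q :=
    congrArg (fun y => y.1.asIdeal)
      ((PrimeSpectrum.preimageEquivFiber R (MvPolynomial (Fin n) R) ⟨p, inferInstance⟩).symm_apply_apply x)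
  have hn : ringKrullDim (p.Fiber (MvPolynomial (Fin n) R)) ≤ n := by
    let e : p.Fiber (MvPolynomial (Fin n) R) ≃+* MvPolynomial (Fin n) p.ResidueField :=
      (MvPolynomial.algebraTensorAlgEquiv R p.ResidueField).toRingEquiv
    rw [ringKrullDim_eq_of_ringEquiv e, MvPolynomial.ringKrullDim_of_isNoetherianRing,
      ringKrullDim_eq_zero_of_field, zero_add, Nat.card_fin]
  have : IsNoetherianRing (p.Fiber (MvPolynomial (Fin n) R)) := Algebra.FiniteType.isNoetherianRing p.ResidueField _
  have : Algebra.IsSmoothAt p.ResidueField qF :=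
    Algebra.FormallySmooth.comp p.ResidueField (p.Fiber (MvPolynomial (Fin n) R)) (Localization.AtPrime qF)
  have hreg := Lib.ModelFibre.RegPoint.isRegularLocalRing_of_isSmoothAt (k := p.ResidueField) qF
  have key : ∀ (Q' : Ideal (MvPolynomial (Fin n) R)) [Q'.IsPrime], Q' = Q →
      Nonempty ((Localization.AtPrime Q' ⧸ (p.map (algebraMap R (MvPolynomial (Fin n) R))).map
          (algebraMap (MvPolynomial (Fin n) R) (Localization.AtPrime Q'))) ≃+*
        (Localization.AtPrime Q ⧸ (p.map (algebraMap R (MvPolynomial (Fin n) R))).map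
          (algebraMap (MvPolynomial (Fin n) R) (Localization.AtPrime Q)))) := by
    intro Q' _ h
    subst h
    exact ⟨RingEquiv.refl _⟩
  obtain ⟨e'⟩ := key _ hQ
  let e := (Ideal.Fiber.algEquivAux₂ p qF).toRingEquiv.trans e'
  refine ⟨IsRegularLocalRing.of_ringEquiv (R := Localization.AtPrime qF) e, ?_⟩
  rw [← ringKrullDim_eq_of_ringEquiv e]
  refine (IsLocalization.AtPrime.ringKrullDim_eq_height qF (Localization.AtPrime qF)).trans_le ?_
  exact (Ideal.height_le_ringKrullDim_of_ne_top (Ideal.IsPrime.ne_top inferInstance)).trans hn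

variable (A : Type u) [CommRing A] (N : ℕ)

/-- The local rings of the fibres of affine space are regular. -/
theorem isRegularLocalRing_fq (P : PrimeSpectrum (MvPolynomial (Fin N) A)) :
    IsRegularLocalRing (Fq A (MvPolynomial (Fin N) A) P) := by
  haveI := (fibre_regular (R := A) (n := N) P.asIdeal).1
  have h : ((P.asIdeal.comap (algebraMap A (MvPolynomial (Fin N) A))).map
      (algebraMap A (MvPolynomial (Fin N) A))).map
        (algebraMap (MvPolynomial (Fin N) A) (Localization.AtPrime P.asIdeal)) =
      J A (MvPolynomial (Fin N) A) P := by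
    rw [J, Ideal.map_map, ← IsScalarTower.algebraMap_eq]
  exact IsRegularLocalRing.of_ringEquiv (Ideal.quotEquivOfEq h)

variable (M : Type u) [AddCommGroup M] [Module (MvPolynomial (Fin N) A) M] [Module A M]
  [IsScalarTower A (MvPolynomial (Fin N) A) M] [Module.FinitePresentation (MvPolynomial (Fin N) A) M]
  [Module.Flat A M]

/-- The set where the depth of the fibre module is within `c` of the dimension of the ambient fibre
ring is open. -/
theorem isOpen_le_depth_add (c : ℕ) :
    IsOpen {P : PrimeSpectrum (MvPolynomial (Fin N) A) |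
      haveI := isRegularLocalRing_fq A N P
      ringKrullDim (Fq A (MvPolynomial (Fin N) A) P) ≤
        ((LocCoh.depth (Fq A (MvPolynomial (Fin N) A) P) (FM A (MvPolynomial (Fin N) A) M P) + c : ℕ∞) :
          WithBot ℕ∞)} := by
  convert isOpen_lt_succ A (MvPolynomial (Fin N) A) c M using 1
  ext P
  haveI := isRegularLocalRing_fq A N P
  haveI : Module.Finite (Fq A (MvPolynomial (Fin N) A) P) (FM A (MvPolynomial (Fin N) A) M P) :=
    inferInstance
  simp only [Set.mem_ofPred_eq]
  rcases subsingleton_or_nontrivial (FM A (MvPolynomial (Fin N) A) M P) with hs | hs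
  · refine iff_of_true ?_ ?_
    · rw [show LocCoh.depth (Fq A (MvPolynomial (Fin N) A) P) (FM A (MvPolynomial (Fin N) A) M P) = ⊤
        from if_pos (Subsingleton.elim _ _)]
      simp
    · haveI : HasProjectiveDimensionLT (ModuleCat.of (Fq A (MvPolynomial (Fin N) A) P)
          (FM A (MvPolynomial (Fin N) A) M P)) 0 := by
        rw [hasProjectiveDimensionLT_zero_iff_isZero, ModuleCat.isZero_iff_subsingleton]
        exact hs
      exact hasProjectiveDimensionLT_of_ge _ 0 (c + 1) (Nat.zero_le _)
  · rw [← IsRegularLocalRing.spanFinrank_maximalIdeal (R := Fq A (MvPolynomial (Fin N) A) P)]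
    exact WithBot.coe_le_coe.trans (H20.PDDepth.pdle_iff_le_depth_add
      (FM A (MvPolynomial (Fin N) A) M P) c).symm

/-- The depth of a nonzero fibre module is at most the dimension of the fibre ring. -/
theorem depth_le_dim (P : PrimeSpectrum (MvPolynomial (Fin N) A))
    [Nontrivial (FM A (MvPolynomial (Fin N) A) M P)] :
    haveI := isRegularLocalRing_fq A N P
    ((LocCoh.depth (Fq A (MvPolynomial (Fin N) A) P) (FM A (MvPolynomial (Fin N) A) M P) : ℕ∞) :
      WithBot ℕ∞) ≤ ringKrullDim (Fq A (MvPolynomial (Fin N) A) P) := by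
  haveI := isRegularLocalRing_fq A N P
  exact (Lib.Depth.Assoc.depth_le_supportDim _).trans (Module.supportDim_le_ringKrullDim _ _)

end Groth.Agent.H46.FibreProf.Alg
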