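import Groth.Agent.H46.FibreProf.Open

/-!
# Depth along a closed subset in the fibres (EGA IV 12.3 / SGA 2)
-/

set_option autoImplicit false
set_option linter.style.haveILetI false

universe u

open CategoryTheory AlgebraicGeometry IsLocalRing
open Groth.Agent.H46.FibreTrdeg Groth.Agent.H46.DimData Groth.Agent.H46.FibreProf.Basic
open Groth.Agent.H46.FibreProf.Open

namespace Groth.Agent.H46.FibreProf.Along

open Groth.Agent.Lib

variable {X S : Scheme.{u}} (f : X ⟶ S)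

theorem le_fiberDepthAlong_iff (F : X.Modules) (Y : Set X) (x : X) (n : ℕ∞) :
    n ≤ CInt.fiberDepthAlong f F Y x ↔ ∀ z ∈ Y, FG f x z → n ≤ CInt.fiberDepth f F z := by
  simp only [CInt.fiberDepthAlong, le_iInf_iff]
  exact ⟨fun h z hz hzx => h ⟨z, hz, hzx.2, hzx.1⟩, fun h z => h z.1 z.2.1 ⟨z.2.2.2, z.2.2.1⟩⟩

theorem isOpen_le_along [LocallyOfFinitePresentation f] (F : X.Modules) (hfp : CohB1.IsFP F)
    (U₀ : X.Opens) (hflat : ∀ x ∈ U₀, FlatMod.IsFlatOverAt f F x) {Y : Set X} (hY : IsClosed Y) (n : ℕ) :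
    IsOpen {x | x ∈ U₀ ∧ ∀ z ∈ Y, FG f x z → (n : ℕ∞) ≤ CInt.fiberDepth f F z} := by
  rw [isOpen_iff_forall_mem_open]
  rintro x₀ ⟨hx₀, h₀⟩
  let T : ℕ → Set X := fun j => Y ∩ {x | x ∈ U₀ ∧ ((j + 1 : ℕ) : ℕ∞) ≤ psi f F x}ᶜ
  have hT : ∀ j, IsClosed (T j) := fun j =>
    hY.inter (isOpen_le_psi f F hfp U₀ hflat _).isClosed_compl
  let e := fe f x₀
  refine ⟨(U₀ : Set X) ∩ {x | ∀ w, FG f x w → trd f w ≤ e} ∩
    ⋂ j ∈ Finset.range (e + n), {x | ∀ w ∈ T j, FG f x w → trd f w + n ≤ j}, ?_,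
    (U₀.2.inter (isOpen_trd_le f e)).inter
      (isOpen_biInter_finset fun j _ => isOpen_trd_add_le f (hT j) n j),
    ⟨hx₀, exists_trd_bound f x₀⟩, ?_⟩
  · rintro x ⟨⟨hx, he⟩, hj⟩
    refine ⟨hx, fun z hz hzx => not_lt.1 fun hd => ?_⟩
    obtain ⟨d, hd'⟩ := ENat.ne_top_iff_exists.1 (ne_top_of_lt hd)
    have hdn : d < n := by rw [← hd'] at hd; exact_mod_cast hd
    have := Set.mem_iInter₂.1 hj (d + trd f z) (Finset.mem_range.2 (by have := he z hzx; omega)) z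
      ⟨hz, by
        rintro ⟨-, h⟩
        rw [psi, ← hd'] at h
        have : d + trd f z + 1 ≤ d + trd f z := by exact_mod_cast h
        omega⟩ hzx
    omega
  · refine Set.mem_iInter₂.2 fun j _ w hwT hw => ?_
    have h1 : ¬ ((j + 1 : ℕ) : ℕ∞) ≤ psi f F w := fun h => hwT.2 ⟨hw.2.mem_open U₀.2 hx₀, h⟩
    obtain ⟨p, hp⟩ := ENat.ne_top_iff_exists.1 (ne_top_of_lt (not_le.1 h1))
    have h4 : (n : ℕ∞) + trd f w ≤ psi f F w := add_le_add (h₀ w hwT.1 hw) le_rfl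
    rw [← hp] at h1 h4
    have h5 : n + trd f w ≤ p := by exact_mod_cast h4
    have h6 : ¬ j + 1 ≤ p := fun h => h1 (by exact_mod_cast h)
    omega

end Groth.Agent.H46.FibreProf.Along
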