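import Groth.Agent.H46.FibreProf.Cons2

/-!
# The depth along a constructible closed subset in the fibres is a constructible function
-/

set_option autoImplicit false
set_option linter.style.haveILetI false

universe u

open CategoryTheory AlgebraicGeometry IsLocalRing Topology
open Groth.Agent.H46.FibreTrdeg Groth.Agent.H46.DimData Groth.Agent.H46.FibreProf.Basic
open Groth.Agent.H46.FibreProf.Open

namespace Groth.Agent.H46.FibreProf.AlongCons

open Groth.Agent.Lib
open Groth.Agent.Lib.ProCons45.Basic (isLocallyConstructible_compl)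

variable {X S : Scheme.{u}}

/-- Locally constructible sets meet affine opens in compact sets. -/
theorem isCompact_inter {s : Set X} (hs : IsLocallyConstructible s) {U : X.Opens}
    (hU : IsAffineOpen U) : IsCompact ((U : Set X) ∩ s) := by
  have h := (H14.IsoNat.TrivLocus.isCompact_of_isConstructible
    (Cons.isConstructible_chart hs hU)).image hU.fromSpec.continuous
  have e : hU.fromSpec '' (hU.fromSpec ⁻¹' s) = (U : Set X) ∩ s := by
    ext x
    constructor
    · rintro ⟨q, hq, rfl⟩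
      exact ⟨hU.range_fromSpec.subset (Set.mem_range_self q), hq⟩
    · rintro ⟨hxU, hxs⟩
      obtain ⟨q, rfl⟩ := hU.range_fromSpec.ge hxU
      exact ⟨q, hxs, rfl⟩
  exact e ▸ h

theorem isRetrocompact_of_isLocallyConstructible {s : Set X} (hs : IsLocallyConstructible s) :
    IsRetrocompact s := by
  intro W hW hWo
  obtain ⟨t, htW, hcov⟩ : ∃ t : Finset X.affineOpens,
      (∀ U ∈ t, (U.1 : Set X) ⊆ W) ∧ W ⊆ ⋃ U ∈ t, (U.1 : Set X) := by
    classical
    obtain ⟨t, ht⟩ := hW.elim_finite_subcover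
      (fun U : {U : X.affineOpens // (U.1 : Set X) ⊆ W} => (U.1.1 : Set X)) (fun U => U.1.1.2)
      (fun x hx => by
        obtain ⟨U, hU, hxU, hUW⟩ := exists_isAffineOpen_mem_and_subset (X := X) (x := x) (U := ⟨W, hWo⟩) hx
        exact Set.mem_iUnion.2 ⟨⟨⟨U, hU⟩, hUW⟩, hxU⟩)
    refine ⟨t.image Subtype.val, ?_, fun x hx => ?_⟩
    · intro U hU
      obtain ⟨U', -, rfl⟩ := Finset.mem_image.1 hU
      exact U'.2
    · obtain ⟨U, hU, hxU⟩ := Set.mem_iUnion₂.1 (ht hx)
      exact Set.mem_iUnion₂.2 ⟨U.1, Finset.mem_image_of_mem _ hU, hxU⟩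
  have e : s ∩ W = ⋃ U ∈ t, ((U.1 : Set X) ∩ s) := by
    ext x
    simp only [Set.mem_inter_iff, Set.mem_iUnion, exists_prop]
    exact ⟨fun h => by
      obtain ⟨U, hU, hxU⟩ := Set.mem_iUnion₂.1 (hcov h.2)
      exact ⟨U, hU, hxU, h.1⟩, fun ⟨U, hU, hxU, hxs⟩ => ⟨hxs, htW U hU hxU⟩⟩
  rw [e]
  exact t.isCompact_biUnion fun U _ => isCompact_inter hs U.2

variable (f : X ⟶ S) [LocallyOfFinitePresentation f] (F : X.Modules)

/-- Finite fibre depths are bounded by the dimension. -/
theorem fiberDepth_le [F.IsQuasicoherent] [SheafOfModules.IsFiniteType (R := X.ringCatSheaf) F]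
    (z : X) {e : ℕ} (he : ∀ w, FG f z w → trd f w ≤ e) (h : CInt.fiberDepth f F z ≠ ⊤) :
    CInt.fiberDepth f F z ≤ e := by
  haveI := QFin.isLocallyNoetherian_fiber f (f z)
  haveI := finite_stalk_fm f F (f z) (f.asFiber z)
  have hS : z ∈ CohB1.support F := by_contra fun hn => h ((fiberDepth_eq_top_iff f F z).2 hn)
  haveI : Nontrivial ((fm f F (f z)).presheaf.stalk (f.asFiber z)) := by
    rw [Basic.nontrivial_iff, f.fiberι_asFiber]; exact hS
  have h1 := (Depth.Assoc.depth_le_supportDim ((fm f F (f z)).presheaf.stalk (f.asFiber z))).trans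
    ((supportDim_le_iff f F (f z) (f.asFiber z) e).2 fun w _ hw => by
      have := he w (by rwa [f.fiberι_asFiber] at hw)
      omega)
  rw [Chart.fiberDepth_eq f F (f z) (f.asFiber z), f.fiberι_asFiber] at h1
  exact WithBot.coe_le_coe.1 h1

theorem locallyConstructibleFun (hfp : CohB1.IsFP F) (hflat : FlatMod.IsFlatOver f F)
    {Y : Set X} (hY : IsClosed Y) (hYc : IsLocallyConstructible Y) (y₀ : Y) :
    ∃ V : TopologicalSpace.Opens Y, y₀ ∈ V ∧
      ((fun y : Y => CInt.fiberDepthAlong f F Y y.1) '' (V : Set Y)).Finite ∧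
      ∀ t : ℕ∞, IsConstructible {v : ↥V | CInt.fiberDepthAlong f F Y v.1.1 = t} := by
  classical
  haveI := hfp
  haveI := H26.FreeCrit.isQuasicoherent_of_isFP hfp
  obtain ⟨U, hU, hyU, -⟩ := exists_isAffineOpen_mem_and_subset (X := X) (x := y₀.1) (U := ⊤) trivial
  obtain ⟨e, he⟩ := Cons.exists_bound_on f U hU
  let d : X → ℕ∞ := CInt.fiberDepthAlong f F Y
  let s : ℕ → Set X := fun n => {x | (n : ℕ∞) ≤ d x}
  have hs : ∀ n, IsLocallyConstructible (s n) := fun n => by
    convert Cons.isLocallyConstructible_le_along f F hfp hflat hY hYc n using 1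
    ext x
    exact Along.le_fiberDepthAlong_iff f F Y x n
  have hbig : ∀ x ∈ U, ((e + 1 : ℕ) : ℕ∞) ≤ d x → d x = ⊤ := fun x hx h => by
    refine top_le_iff.1 ((Along.le_fiberDepthAlong_iff f F Y x ⊤).2 fun z hz hzx => ?_)
    by_contra hne
    have h1 := ((Along.le_fiberDepthAlong_iff f F Y x _).1 h z hz hzx).trans
      (fiberDepth_le f F z (fun w hw => he x hx w ⟨hw.1.trans hzx.1, hw.2.trans hzx.2⟩)
        (fun h' => hne h'.ge))
    have : e + 1 ≤ e := by exact_mod_cast h1
    omega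
  let V : TopologicalSpace.Opens Y := ⟨Subtype.val ⁻¹' (U : Set X), U.2.preimage continuous_subtype_val⟩
  refine ⟨V, hyU, ?_, fun t => ?_⟩
  · refine Set.Finite.subset
      (((Finset.range (e + 1)).image (fun n : ℕ => (n : ℕ∞)) ∪ {⊤}).finite_toSet) ?_
    rintro _ ⟨y, hy, rfl⟩
    show d y.1 ∈ _
    simp only [Finset.coe_union, Finset.coe_image, Finset.coe_range, Finset.coe_singleton,
      Set.mem_union, Set.mem_image, Set.mem_Iio, Set.mem_singleton_iff]
    by_cases h : ((e + 1 : ℕ) : ℕ∞) ≤ d y.1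
    · exact Or.inr (hbig _ hy h)
    · obtain ⟨p, hp⟩ := ENat.ne_top_iff_exists.1 (ne_top_of_lt (not_le.1 h))
      exact Or.inl ⟨p, by rw [← hp] at h; exact lt_of_not_ge fun hh => h (by exact_mod_cast hh), hp⟩
  · obtain ⟨L, hL, hLe⟩ : ∃ L : Set X, IsLocallyConstructible L ∧ ∀ x ∈ U, (d x = t ↔ x ∈ L) := by
      cases t using ENat.recTopCoe with
      | top =>
        refine ⟨s (e + 1), hs _, fun x hx => ⟨fun h => ?_, hbig x hx⟩⟩
        show _ ≤ d x
        rw [h]; exact le_top
      | coe m =>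
        refine ⟨s m ∩ (s (m + 1))ᶜ, (hs m).inter (isLocallyConstructible_compl (hs _)), fun x hx => ?_⟩
        show d x = m ↔ (m : ℕ∞) ≤ d x ∧ ¬ ((m + 1 : ℕ) : ℕ∞) ≤ d x
        constructor
        · intro h
          rw [h]
          exact ⟨le_rfl, fun h' => by
            have : m + 1 ≤ m := by exact_mod_cast h'
            omega⟩
        · rintro ⟨h1, h2⟩
          obtain ⟨p, hp⟩ := ENat.ne_top_iff_exists.1 (ne_top_of_lt (not_le.1 h2))
          rw [← hp] at h1 h2 ⊢
          have h3 : m ≤ p := by exact_mod_cast h1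
          have h4 : ¬ m + 1 ≤ p := fun h => h2 (by exact_mod_cast h)
          exact_mod_cast (by omega : p = m)
    haveI : CompactSpace (U : Set X) := isCompact_iff_compactSpace.mp hU.isCompact
    haveI : IsAffine (U : Scheme.{u}) := hU
    have hLU : IsConstructible (Subtype.val ⁻¹' L : Set (U : Scheme.{u})) :=
      (H47.ConsPreimage.isLocallyConstructible_preimage U.ι hL).isConstructible
    let j : ↥V → ↥(U : Scheme.{u}) := fun v => ⟨v.1.1, v.2⟩
    have hjc : Continuous j :=
      (continuous_subtype_val.comp continuous_subtype_val).subtype_mk _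
    have hj : IsClosedEmbedding j := by
      refine ⟨IsEmbedding.of_comp hjc continuous_subtype_val
        (show IsEmbedding (fun v : ↥V => v.1.1) from IsEmbedding.subtypeVal.comp IsEmbedding.subtypeVal), ?_⟩
      have : Set.range j = Subtype.val ⁻¹' Y := by
        ext u
        exact ⟨fun ⟨v, hv⟩ => hv ▸ v.1.2, fun hu => ⟨⟨⟨u.1, hu⟩, u.2⟩, rfl⟩⟩
      rw [this]
      exact hY.preimage continuous_subtype_val
    have hcpt : IsCompact (Set.range j)ᶜ := by
      rw [U.ι.isEmbedding.isInducing.isCompact_iff]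
      have : U.ι '' (Set.range j)ᶜ = (U : Set X) ∩ Yᶜ := by
        ext x
        constructor
        · rintro ⟨u, hu, rfl⟩
          exact ⟨u.2, fun hy => hu ⟨⟨⟨u.1, hy⟩, u.2⟩, rfl⟩⟩
        · rintro ⟨hxU, hxY⟩
          exact ⟨⟨x, hxU⟩, fun ⟨v, hv⟩ => hxY (by have e : v.1.1 = x := congrArg Subtype.val hv; rw [← e]; exact v.1.2), rfl⟩
      rw [this]
      exact isCompact_inter (isLocallyConstructible_compl hYc) hU
    convert hLU.preimage_of_isClosedEmbedding hj hcpt using 1
    ext v
    exact hLe _ v.2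

end Groth.Agent.H46.FibreProf.AlongCons
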