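import Groth.Agent.H46.FibreProf.Open

/-!
# Dimensions of closures, equidimensional modules and proper morphisms
-/

set_option autoImplicit false
set_option linter.style.haveILetI false

universe u

open CategoryTheory AlgebraicGeometry IsLocalRing
open Groth.Agent.H46.FibreTrdeg Groth.Agent.H46.DimData Groth.Agent.H46.FibreProf.Basic
open Groth.Agent.H46.FibreProf.Open

namespace Groth.Agent.H46.FibreProf.Equidim

open Groth.Agent.Lib

variable {X S : Scheme.{u}} (f : X ⟶ S) [LocallyOfFiniteType f]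

theorem dim_closure (y : S) (a : f.fiber y) :
    topologicalKrullDim ↥(closure ({a} : Set ↥(f.fiber y))) = (trd f (f.fiberι y a) : WithBot ℕ∞) := by
  rw [Lib.Cyc.FieldDim.topologicalKrullDim_closure (K := S.residueField y) (f.fiberToSpecResidueField y) a,
    fdelta_fiber, Int.toNat_natCast]

/-- An open condition on the points gives one on the base for a closed map. -/
theorem isOpen_forall_fiber [IsProper f] {P : X → Prop} (hP : IsOpen {x | P x}) :
    IsOpen {y : S | ∀ a : ↥(f.fiber y), P (f.fiberι y a)} := by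
  convert (f.isClosedMap _ hP.isClosed_compl).isOpen_compl using 1
  ext y
  constructor
  · rintro h ⟨x, hx, rfl⟩
    have := h (f.asFiber x)
    rw [f.fiberι_asFiber] at this
    exact hx this
  · intro h a
    by_contra ha
    exact h ⟨_, ha, Lib.Cyc.FieldDim.apply_fiberι f y a⟩

/-- `w` is a maximal point of the support in the fibre. -/
def IsMaxSupp (F : X.Modules) (w : X) : Prop :=
  w ∈ CohB1.support F ∧ ∀ w' ∈ CohB1.support F, FG f w w' → w' = w

variable (F : X.Modules) [F.IsQuasicoherent] [SheafOfModules.IsFiniteType (R := X.ringCatSheaf) F]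

omit [F.IsQuasicoherent] [SheafOfModules.IsFiniteType (R := X.ringCatSheaf) F] in
theorem exists_isMaxSupp {x : X} (hx : x ∈ CohB1.support F) :
    ∃ θ, IsMaxSupp f F θ ∧ FG f x θ := by
  classical
  let A := {n | ∃ w ∈ CohB1.support F, FG f x w ∧ trd f w = n}
  have hA : ∀ n ∈ A, n ≤ fe f x := by
    rintro n ⟨w, -, hw, rfl⟩
    exact exists_trd_bound f x w hw
  obtain ⟨θ, hθ, hθx, he⟩ := Nat.sSup_mem (s := A) ⟨_, x, hx, fg_self f x, rfl⟩ ⟨_, hA⟩
  refine ⟨θ, ⟨hθ, fun w hw hwθ => ?_⟩, hθx⟩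
  refine eq_of_trd_le f hwθ.2 hwθ.1 ?_
  rw [he]
  exact le_csSup ⟨_, hA⟩ ⟨w, hw, ⟨hwθ.1.trans hθx.1, hwθ.2.trans hθx.2⟩, rfl⟩

/-- The module stalk in the fibre is equidimensional iff the maximal points of the support through
the point have the same transcendence degree. -/
theorem isEquidimModule_iff (y : S) (a : f.fiber y) :
    EGA4.IsEquidimModule ((f.fiber y).presheaf.stalk a) ((fm f F y).presheaf.stalk a) ↔
      ∀ w w', FG f (f.fiberι y a) w → FG f (f.fiberι y a) w' → IsMaxSupp f F w → IsMaxSupp f F w' →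
        trd f w = trd f w' := by
  haveI := QFin.isLocallyNoetherian_fiber f y
  haveI := isQuasicoherent_fm f F y
  haveI := finite_stalk_fm f F y a
  let R := (f.fiber y).presheaf.stalk a
  let M := (fm f F y).presheaf.stalk a
  have hsupp : ∀ P : PrimeSpectrum R, (Module.annihilator R M ≤ P.asIdeal ↔
      f.fiberι y ((f.fiber y).fromSpecStalk a P) ∈ CohB1.support F) := by
    intro P
    have h1 := GoodJac.mem_support_stalk_iff (fm f F y) a P
    rw [support_fm] at h1
    rw [← Module.mem_support_iff_of_finite]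
    exact h1
  have hmin : ∀ P : PrimeSpectrum R, (P.asIdeal ∈ (Module.annihilator R M).minimalPrimes ↔
      IsMaxSupp f F (f.fiberι y ((f.fiber y).fromSpecStalk a P))) := by
    intro P
    constructor
    · intro hP
      refine ⟨(hsupp P).1 hP.1.2, fun w hw hwP => ?_⟩
      obtain ⟨b, rfl, hb⟩ := fg_exists f hwP
      let Q := Lib.Cyc.DimFun.genPrime a b (hb.trans (Lib.Cyc.DimFun.fromSpecStalk_specializes_self a P))
      have hQP : Q ≤ P := by
        rw [← Lib.Cyc.DimFun.fromSpecStalk_specializes_iff, Lib.Cyc.DimFun.fromSpecStalk_genPrime]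
        exact hb
      have hQa : Module.annihilator R M ≤ Q.asIdeal :=
        (hsupp Q).2 (by rw [Lib.Cyc.DimFun.fromSpecStalk_genPrime]; exact hw)
      rw [← PrimeSpectrum.ext (le_antisymm hQP (hP.2 ⟨Q.2, hQa⟩ hQP)),
        Lib.Cyc.DimFun.fromSpecStalk_genPrime]
    · intro hP
      refine ⟨⟨P.2, (hsupp P).2 hP.1⟩, fun Q hQ hQP => ?_⟩
      let Q' : PrimeSpectrum R := ⟨Q, hQ.1⟩
      have h1 := hP.2 _ ((hsupp Q').1 hQ.2) ((fg_fiberι f).2
        ((Lib.Cyc.DimFun.fromSpecStalk_specializes_iff a Q' P).2 hQP))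
      have : Q' = P := ((f.fiber y).fromSpecStalk a).isEmbedding.injective
        ((f.fiberι y).isEmbedding.injective h1)
      exact this ▸ le_rfl
  have hdim : ∀ P : PrimeSpectrum R, ∃ q : ℕ, ringKrullDim (R ⧸ P.asIdeal) = (q : WithBot ℕ∞) ∧
      q + trd f (f.fiberι y a) = trd f (f.fiberι y ((f.fiber y).fromSpecStalk a P)) := by
    intro P
    have hb := Lib.Cyc.DimFun.fromSpecStalk_specializes_self a P
    refine ⟨qd hb, ?_, qd_fiber f hb⟩
    rw [← ringKrullDim_locQuot hb]
    exact ringKrullDim_eq_of_ringEquiv (Ideal.quotEquivOfEq (OpenDim.ker_specMap_eq a P).symm)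
  have hgen : ∀ w, FG f (f.fiberι y a) w → ∃ P : PrimeSpectrum R,
      f.fiberι y ((f.fiber y).fromSpecStalk a P) = w := by
    intro w hw
    obtain ⟨b, rfl, hb⟩ := fg_exists f hw
    exact ⟨Lib.Cyc.DimFun.genPrime a b hb, by rw [Lib.Cyc.DimFun.fromSpecStalk_genPrime]⟩
  constructor
  · intro h w w' hw hw' hm hm'
    obtain ⟨P, rfl⟩ := hgen w hw
    obtain ⟨P', rfl⟩ := hgen w' hw'
    obtain ⟨q, hq, hq1⟩ := hdim P
    obtain ⟨q', hq', hq1'⟩ := hdim P'
    have e := (h _ ((hmin P).2 hm)).trans (h _ ((hmin P').2 hm')).symm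
    rw [hq, hq', Nat.cast_inj] at e
    omega
  · intro h p hp
    let P : PrimeSpectrum R := ⟨p, hp.1.1⟩
    obtain ⟨q, hq, hq1⟩ := hdim P
    rw [show ringKrullDim (R ⧸ p) = (q : WithBot ℕ∞) from hq]
    have hmax := (hmin P).1 hp
    have hfg : FG f (f.fiberι y a) (f.fiberι y ((f.fiber y).fromSpecStalk a P)) :=
      (fg_fiberι f).2 (Lib.Cyc.DimFun.fromSpecStalk_specializes_self a P)
    refine le_antisymm (hq ▸ Depth.Assoc.ringKrullDim_quotient_le_supportDim M
      (Module.associatedPrimes.minimalPrimes_annihilator_subset_associatedPrimes R M hp)) ?_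
    rw [supportDim_le_iff]
    intro w hw hwa
    obtain ⟨θ, hθ, hθw⟩ := exists_isMaxSupp f F hw
    have h2 := h θ _ ⟨hθw.1.trans hwa.1, hθw.2.trans hwa.2⟩ hfg hθ hmax
    have h3 := trd_le f hθw.2 hθw.1
    omega

/-- For `(S₁)` modules the maximal points of the support are the points of depth zero. -/
theorem isMaxSupp_iff [LocallyOfFinitePresentation f] {x w : X} (h : Sk f F 1 x) (hw : FG f x w) :
    IsMaxSupp f F w ↔ CInt.fiberDepth f F w = 0 := by
  constructor
  · rintro ⟨hS, hmax⟩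
    obtain ⟨w', hw', h0⟩ := exists_ass f F hS
    have := hmax w' (by_contra fun hn => by
      rw [(fiberDepth_eq_top_iff f F w').2 hn] at h0
      exact ENat.top_ne_zero h0) hw'
    rwa [this] at h0
  · intro h0
    refine ⟨by_contra fun hn => by
      rw [(fiberDepth_eq_top_iff f F w).2 hn] at h0
      exact ENat.top_ne_zero h0, fun w' hw'S hw' => ?_⟩
    obtain ⟨w'', hw'', h0''⟩ := exists_ass f F hw'S
    have := (sk_one_iff f F x).1 h w hw h0 w'' ⟨hw''.1.trans hw'.1, hw''.2.trans hw'.2⟩ h0''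
    subst this
    exact eq_of_trd_le f hw'.2 hw'.1 (trd_le f hw''.2 hw''.1)

omit [LocallyOfFiniteType f] [F.IsQuasicoherent] [SheafOfModules.IsFiniteType (R := X.ringCatSheaf) F] in
theorem sk_mono {k k' : ℕ} (h : k' ≤ k) {x : X} (hs : Sk f F k x) : Sk f F k' x :=
  fun w hw hd => hs w hw (lt_of_lt_of_le hd (by exact_mod_cast h))

/-- Equidimensional and `(S_k)`, `k ≥ 1`. -/
theorem isOpen_equidim_sk [LocallyOfFinitePresentation f] (hfp : CohB1.IsFP F)
    (hflat : FlatMod.IsFlatOver f F) (k : ℕ) (hk : 1 ≤ k) :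
    IsOpen {x : X | (∀ w w', FG f x w → FG f x w' → IsMaxSupp f F w → IsMaxSupp f F w' →
      trd f w = trd f w') ∧ Sk f F k x} := by
  have h1 : ∀ Φ : Set ℕ, IsOpen {x : X | Sk f F k x ∧ AssDims f F Φ x} := fun Φ => by
    convert (isOpen_sk f F hfp ⊤ (fun x _ => hflat x) k).inter
      (isOpen_assDims f F hfp ⊤ (fun x _ => hflat x) Φ) using 1
    ext x; simp
  convert isOpen_iUnion fun d : ℕ => h1 {d} using 1
  ext x
  simp only [Set.mem_iUnion, Set.mem_setOf_eq]
  constructor
  · rintro ⟨he, hs⟩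
    by_cases hx : x ∈ CohB1.support F
    · obtain ⟨θ, hθ, hθx⟩ := exists_isMaxSupp f F hx
      exact ⟨trd f θ, hs, fun w hw h0 => Set.mem_singleton_iff.2
        (he w θ hw hθx ((isMaxSupp_iff f F (sk_mono f F hk hs) hw).2 h0) hθ)⟩
    · refine ⟨0, hs, fun w hw h0 => absurd (hw.2.mem_closed (Basic.isClosed_support F) ?_) hx⟩
      by_contra hn
      rw [(fiberDepth_eq_top_iff f F w).2 hn] at h0
      exact ENat.top_ne_zero h0
  · rintro ⟨d, hs, hd⟩
    refine ⟨fun w w' hw hw' hm hm' => ?_, hs⟩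
    rw [Set.mem_singleton_iff.1 (hd w hw ((isMaxSupp_iff f F (sk_mono f F hk hs) hw).1 hm)),
      Set.mem_singleton_iff.1 (hd w' hw' ((isMaxSupp_iff f F (sk_mono f F hk hs) hw').1 hm'))]

end Groth.Agent.H46.FibreProf.Equidim
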