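import Groth.Agent.H46.FibreProf.StrataCons
import Groth.Agent.H46.FibreProf.Equidim

/-!
# The dimensions of the associated cycles of the fibres are constructible (EGA IV 9.8.3)
-/

set_option autoImplicit false
set_option linter.style.haveILetI false

universe u

open CategoryTheory AlgebraicGeometry IsLocalRing Topology
open Groth.Agent.H46.FibreTrdeg Groth.Agent.H46.DimData Groth.Agent.H46.FibreProf.Basic
open Groth.Agent.H46.FibreProf.Open Groth.Agent.H46.FibreProf.Strata

namespace Groth.Agent.H46.FibreProf.AssCons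

open Groth.Agent.Lib
open Groth.Agent.Lib.ProCons45.Basic (isLocallyConstructible_compl)

theorem assDims_iff {X S X' T : Scheme.{u}} {f : X ⟶ S} {p : X' ⟶ X} {f' : X' ⟶ T} (hc : Cmp f f' p)
    (F : X.Modules) (Φ : Set ℕ) (x' : X') :
    AssDims f' ((Scheme.Modules.pullback p).obj F) Φ x' ↔ AssDims f F Φ (p x') := by
  constructor
  · intro h w hw h0
    obtain ⟨w', hw', rfl⟩ := (hc.fg x' w).1 hw
    rw [← hc.trd w']
    exact h w' hw' (by rwa [hc.depth])
  · intro h w' hw' h0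
    rw [hc.trd w']
    exact h _ ((hc.fg x' _).2 ⟨w', hw', rfl⟩) (by rwa [hc.depth] at h0)

variable {X S : Scheme.{u}} (f : X ⟶ S) [LocallyOfFinitePresentation f] (F : X.Modules)
  (hfp : CohB1.IsFP F)

include hfp

theorem isLocallyConstructible_assDims_of_flat (hflat : FlatMod.IsFlatOver f F) (Φ : Set ℕ) :
    IsLocallyConstructible {x : X | AssDims f F Φ x} := by
  haveI := hfp
  refine Cons.isLocallyConstructible_of_local fun x₀ U hU hxU => ?_
  obtain ⟨e, he⟩ := Cons.exists_bound_on f U hU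
  let T : ℕ → Set X := fun d => {x | ((d + 1 : ℕ) : ℕ∞) ≤ psi f F x}ᶜ
  have hT : ∀ d, IsClosed (T d) := fun d => by
    have h1 := isOpen_le_psi f F hfp ⊤ (fun x _ => hflat x) (d + 1)
    simp only [TopologicalSpace.Opens.mem_top, true_and] at h1
    exact h1.isClosed_compl
  refine ⟨⋂ d : {d : Fin (e + 1) // (d : ℕ) ∉ Φ}, {x | ∀ w ∈ T d.1, FG f x w → trd f w + 1 ≤ (d.1 : ℕ)},
    IsLocallyConstructible.iInter fun d => Cons.isLocallyConstructible_trd_add_le f (hT _)
      (isLocallyConstructible_compl (Cons.isLocallyConstructible_le_psi f F hfp hflat _)) 1 _,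
    fun x hx => ?_⟩
  simp only [Set.mem_iInter]
  constructor
  · rintro h ⟨d, hd⟩ w hwT hw
    have h1 : ¬ (((d : ℕ) + 1 : ℕ) : ℕ∞) ≤ psi f F w := hwT
    obtain ⟨p, hp⟩ := ENat.ne_top_iff_exists.1 (ne_top_of_lt (not_le.1 h1))
    have hp1 : ¬ (d : ℕ) + 1 ≤ p := fun h => h1 (by rw [← hp]; exact_mod_cast h)
    obtain ⟨δ, hδ⟩ := ENat.ne_top_iff_exists.1 (show CInt.fiberDepth f F w ≠ ⊤ from fun h => by
      rw [psi, h, top_add] at hp; exact ENat.natCast_ne_top p hp)
    rw [psi, ← hδ] at hp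
    have hp2 : p = δ + trd f w := by exact_mod_cast hp
    show trd f w + 1 ≤ (d : ℕ)
    by_contra hlt
    have hd' : trd f w = d := by omega
    exact hd (hd' ▸ h w hw (by rw [← hδ, show δ = 0 by omega]; rfl))
  · intro hd w hw h0
    by_contra hΦ
    have hb := he x hx w hw
    have := hd ⟨⟨trd f w, by omega⟩, hΦ⟩ w (fun h => by
      simp only [Set.mem_setOf_eq, psi, h0, zero_add] at h
      have : trd f w + 1 ≤ trd f w := by exact_mod_cast h
      omega) hw
    simp only at this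
    omega

theorem isLocallyConstructible_assDims (Φ : Set ℕ) :
    IsLocallyConstructible {x : X | AssDims f F Φ x} := by
  haveI := hfp
  haveI := H26.FreeCrit.isQuasicoherent_of_isFP hfp
  refine StrataCons.isLocallyConstructible_of_flat f F hfp _ ?_
  intro X₁ S₁ f₁ p₁ X₂ S₂ f₂ p₂ _ _ hc₁ hc₂ h1 h2 hflat
  convert isLocallyConstructible_assDims_of_flat f₂ _ h2 hflat Φ using 1
  ext z
  show AssDims f F Φ ((p₂ ≫ p₁) z) ↔ _
  rw [Scheme.Hom.comp_apply, ← assDims_iff hc₁, ← assDims_iff hc₂]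
  rfl

omit hfp

/-- Some associated cycle of the fibre over `s` has dimension `d`. -/
def HasAss (d : ℕ) (s : S) : Prop := ∃ θ, f θ = s ∧ CInt.fiberDepth f F θ = 0 ∧ trd f θ = d

include hfp

theorem isLocallyConstructible_hasAss [QuasiCompact f] (d : ℕ) :
    IsLocallyConstructible {s : S | HasAss f F d s} := by
  convert f.isLocallyConstructible_image
    (isLocallyConstructible_compl (isLocallyConstructible_assDims f F hfp {d}ᶜ)) using 1
  ext s
  constructor
  · rintro ⟨θ, rfl, h0, hd⟩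
    exact ⟨θ, fun h => h θ (fg_self f θ) h0 hd, rfl⟩
  · rintro ⟨x, hx, rfl⟩
    have hx' : ¬ AssDims f F {d}ᶜ x := hx
    simp only [AssDims, Set.mem_compl_iff, Set.mem_singleton_iff, not_forall, not_not] at hx'
    obtain ⟨w, hw, h0, hd⟩ := hx'
    exact ⟨w, hw.1, h0, hd⟩

omit hfp

theorem exists_bound_over [QuasiCompact f] (V : S.Opens) (hV : IsAffineOpen V) :
    ∃ e : ℕ, ∀ w, f w ∈ V → trd f w ≤ e := by
  have hc : IsCompact (f ⁻¹' (V : Set S)) := QuasiCompact.isCompact_preimage _ V.2 hV.isCompact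
  obtain ⟨e, he⟩ := hc.elim_directed_cover (fun e : ℕ => {x : X | ∀ w, FG f x w → trd f w ≤ e})
    (fun e => isOpen_trd_le f e) (fun x _ => Set.mem_iUnion.2 ⟨_, exists_trd_bound f x⟩)
    (fun a b => ⟨max a b, fun x hx w hw => (hx w hw).trans (le_max_left _ _),
      fun x hx w hw => (hx w hw).trans (le_max_right _ _)⟩)
  exact ⟨e, fun w hw => he hw w (fg_self f w)⟩

include hfp

theorem isLocallyConstructible_hasAss_eq [QuasiCompact f] (Φ : Finset ℕ) :
    IsLocallyConstructible {s : S | ∀ d, HasAss f F d s ↔ d ∈ Φ} := by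
  refine Cons.isLocallyConstructible_of_local fun s₀ V hV hsV => ?_
  obtain ⟨e, he⟩ := exists_bound_over f V hV
  have hc := isLocallyConstructible_hasAss f F hfp
  refine ⟨(⋂ d : ↥Φ, {s | HasAss f F d s}) ∩
      ⋂ d : {d : Fin (e + 1) // (d : ℕ) ∉ Φ}, {s | HasAss f F (d.1 : ℕ) s}ᶜ,
    (IsLocallyConstructible.iInter fun d : ↥Φ => hc _).inter
      (IsLocallyConstructible.iInter fun d => isLocallyConstructible_compl (hc _)), fun s hs => ?_⟩
  simp only [Set.mem_inter_iff, Set.mem_iInter, Set.mem_compl_iff, Set.mem_setOf_eq]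
  constructor
  · exact fun h => ⟨fun d => (h d.1).2 d.2, fun d hd => d.2 ((h _).1 hd)⟩
  · rintro ⟨h1, h2⟩ d
    refine ⟨fun ⟨θ, hθs, h0, hd⟩ => by_contra fun hΦ => ?_, fun hd => h1 ⟨d, hd⟩⟩
    have := he θ (hθs ▸ hs)
    exact h2 ⟨⟨d, by omega⟩, hΦ⟩ ⟨θ, hθs, h0, hd⟩

end Groth.Agent.H46.FibreProf.AssCons
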