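import Groth.Agent.H46.FibreProf.Chart
import Groth.Agent.H46.GoodJac
import Groth.Agent.H46.OpenDim
import Groth.Agent.H46.QFin
import Groth.Agent.Lib.Depth.Assoc
import Groth.Agent.Lib.Modules.SupportOps
import Groth.Agent.Lib.Modules.GenStalk
import Groth.Agent.Lib.DMod.LocLoc
import Groth.Agent.Lib.StalkLoc.AssStalk
import Groth.Agent.Lib.Cyc.FP.Stalk
import Groth.Prelude.Def_EGA4b

/-!
# Supports, associated points and Serre conditions of fibre modules read in the total space
-/

set_option autoImplicit false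
set_option linter.style.haveILetI false

universe u

open CategoryTheory AlgebraicGeometry IsLocalRing
open Groth.Agent.H46.FibreTrdeg Groth.Agent.H46.DimData

namespace Groth.Agent.H46.FibreProf.Basic

open Groth.Agent.Lib

variable {X S : Scheme.{u}} (f : X ⟶ S) [LocallyOfFiniteType f] (F : X.Modules)
  [F.IsQuasicoherent] [SheafOfModules.IsFiniteType (R := X.ringCatSheaf) F]

/-- The restriction of `F` to a fibre. -/
noncomputable abbrev fm (y : S) : (f.fiber y).Modules :=
  (Scheme.Modules.pullback (f.fiberι y)).obj F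

/-- `w` is a generization of `x` in its fibre. -/
def FG (x w : X) : Prop := f w = f x ∧ w ⤳ x

omit [LocallyOfFiniteType f] in
theorem fg_self (x : X) : FG f x x := ⟨rfl, specializes_rfl⟩

omit [LocallyOfFiniteType f] in
theorem fg_fiberι {y : S} {a b : f.fiber y} :
    FG f (f.fiberι y a) (f.fiberι y b) ↔ b ⤳ a := by
  rw [FG, Lib.Cyc.FieldDim.fiber_specializes_iff f y b a, Lib.Cyc.FieldDim.apply_fiberι,
    Lib.Cyc.FieldDim.apply_fiberι]
  simp

theorem fg_exists {y : S} {a : f.fiber y} {w : X} (h : FG f (f.fiberι y a) w) :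
    ∃ b : f.fiber y, f.fiberι y b = w ∧ b ⤳ a := by
  obtain ⟨b, hb⟩ := Lib.Cyc.FieldDim.exists_fiberι_eq f w y
    (h.1.trans (Lib.Cyc.FieldDim.apply_fiberι f y a))
  exact ⟨b, hb, (fg_fiberι f).1 (hb ▸ h)⟩

omit [LocallyOfFiniteType f] in
theorem support_fm (y : S) :
    CohB1.support (fm f F y) = ⇑(f.fiberι y) ⁻¹' CohB1.support F :=
  Modules.SupportOps.support_pullback _ _

omit [LocallyOfFiniteType f] in
theorem nontrivial_iff (y : S) (a : f.fiber y) :
    Nontrivial ((fm f F y).presheaf.stalk a) ↔ f.fiberι y a ∈ CohB1.support F := by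
  rw [← not_subsingleton_iff_nontrivial]
  exact (Set.ext_iff.1 (support_fm f F y) a :)

omit [LocallyOfFiniteType f] in
theorem subsingleton_iff (y : S) (a : f.fiber y) :
    Subsingleton ((fm f F y).presheaf.stalk a) ↔ f.fiberι y a ∉ CohB1.support F := by
  rw [← nontrivial_iff, not_nontrivial_iff_subsingleton]

theorem isClosed_support_fm (y : S) : IsClosed (CohB1.support (fm f F y)) := by
  rw [support_fm]
  exact (Modules.Support.isClosed_support F).preimage (f.fiberι y).continuous

theorem isClosed_support : IsClosed (CohB1.support F) := Modules.Support.isClosed_support F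

/-- Dimensions of closures inside a fibre. -/
theorem qd_fiber {y : S} {a b : f.fiber y} (h : b ⤳ a) :
    qd h + trd f (f.fiberι y a) = trd f (f.fiberι y b) := by
  haveI := QFin.isLocallyNoetherian_fiber f y
  have h1 := Lib.Cyc.DimFun.ringKrullDim_locQuot
    (Lib.Cyc.FieldDim.isDimFun_fdelta (K := S.residueField y) (f.fiberToSpecResidueField y)) a b h
  rw [ringKrullDim_locQuot h, fdelta_fiber, fdelta_fiber, Nat.cast_inj] at h1
  have h2 := trd_le f (((Lib.Cyc.FieldDim.fiber_specializes_iff f y b a).1 h))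
    ((Lib.Cyc.FieldDim.apply_fiberι f y b).trans (Lib.Cyc.FieldDim.apply_fiberι f y a).symm)
  omega

theorem isQuasicoherent_fm (y : S) : (fm f F y).IsQuasicoherent :=
  QCoh.Pullback.isQCoh_pullback (f.fiberι y) F

theorem isFiniteType_fm (y : S) :
    SheafOfModules.IsFiniteType (R := (f.fiber y).ringCatSheaf) (fm f F y) :=
  Modules.SupportOps.isFT_pullback (f.fiberι y) F

theorem finite_stalk_fm (y : S) (a : f.fiber y) :
    Module.Finite ((f.fiber y).presheaf.stalk a) ((fm f F y).presheaf.stalk a) :=
  haveI := isFiniteType_fm f F y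
  Modules.GenStalk.finite_stalk (fm f F y) a

theorem supportDim_eq_bot_iff (y : S) (a : f.fiber y) :
    Module.supportDim ((f.fiber y).presheaf.stalk a) ((fm f F y).presheaf.stalk a) = ⊥ ↔
      f.fiberι y a ∉ CohB1.support F := by
  rw [← subsingleton_iff, Module.supportDim_eq_bot_iff_subsingleton]

theorem supportDim_le_iff (y : S) (a : f.fiber y) (k : ℕ) :
    Module.supportDim ((f.fiber y).presheaf.stalk a) ((fm f F y).presheaf.stalk a) ≤ (k : WithBot ℕ∞) ↔
      ∀ w ∈ CohB1.support F, FG f (f.fiberι y a) w → trd f w ≤ trd f (f.fiberι y a) + k := by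
  haveI := QFin.isLocallyNoetherian_fiber f y
  haveI := isQuasicoherent_fm f F y
  rw [GoodJac.supportDim_stalk _ a (isClosed_support_fm f F y)]
  constructor
  · intro h w hw hwa
    obtain ⟨b, rfl, hb⟩ := fg_exists f hwa
    have hbs : b ∈ CohB1.support (fm f F y) := by rw [support_fm]; exact hw
    have h1 := (DimEquiJac.qd_le_dim (T := {t | t ∈ CohB1.support (fm f F y) ∧ t ⤳ a}) hb
      fun t ht hta => ⟨ht.mem_closed (isClosed_support_fm f F y) hbs, hta⟩).trans h
    have h2 : qd hb ≤ k := by exact_mod_cast h1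
    have := qd_fiber f hb
    omega
  · intro h
    refine DimEquiJac.dim_gen_le (isClosed_support_fm f F y) a k fun b hb hbs => ?_
    rw [support_fm] at hbs
    have h1 := h _ hbs ((fg_fiberι f).2 hb)
    have := qd_fiber f hb
    omega

/-- The rectified depth `prof + trdeg`. -/
noncomputable def psi (x : X) : ℕ∞ := CInt.fiberDepth f F x + trd f x

theorem depth_eq_top_iff (y : S) (a : f.fiber y) :
    CInt.fiberDepth f F (f.fiberι y a) = ⊤ ↔ f.fiberι y a ∉ CohB1.support F := by
  haveI := QFin.isLocallyNoetherian_fiber f y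
  rw [← Chart.fiberDepth_eq f F y a, ← subsingleton_iff]
  constructor
  · intro h
    by_contra hs
    haveI := not_subsingleton_iff_nontrivial.1 hs
    haveI := finite_stalk_fm f F y a
    exact Depth.Assoc.depth_ne_top _ h
  · intro hs
    exact Depth.Basic.idealDepth_subsingleton

theorem fiberDepth_eq_top_iff (x : X) : CInt.fiberDepth f F x = ⊤ ↔ x ∉ CohB1.support F := by
  have := depth_eq_top_iff f F (f x) (f.asFiber x)
  rwa [f.fiberι_asFiber] at this

theorem psi_eq_top_iff (x : X) : psi f F x = ⊤ ↔ x ∉ CohB1.support F := by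
  rw [psi, ← fiberDepth_eq_top_iff f F x]
  simp

theorem trd_le_psi (x : X) : (trd f x : ℕ∞) ≤ psi f F x := le_add_self

/-- `coprof ≤ k`, read in the total space. -/
def Cop (k : ℕ) (x : X) : Prop :=
  ∀ w ∈ CohB1.support F, FG f x w → (trd f w : ℕ∞) ≤ psi f F x + k

theorem cop_iff (y : S) (a : f.fiber y) (k : ℕ) :
    Module.supportDim ((f.fiber y).presheaf.stalk a) ((fm f F y).presheaf.stalk a) ≤
      ((LocCoh.depth ((f.fiber y).presheaf.stalk a) ((fm f F y).presheaf.stalk a) : ℕ∞) :
        WithBot ℕ∞) + k ↔ Cop f F k (f.fiberι y a) := by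
  rw [Chart.fiberDepth_eq f F y a]
  simp only [Cop, psi]
  by_cases hd : CInt.fiberDepth f F (f.fiberι y a) = ⊤
  · refine iff_of_true ?_ fun w _ _ => by simp [hd]
    rw [(supportDim_eq_bot_iff f F y a).2 ((depth_eq_top_iff f F y a).1 hd)]
    exact bot_le
  obtain ⟨d, hd'⟩ := ENat.ne_top_iff_exists.1 hd
  rw [← hd', show ((d : ℕ∞) : WithBot ℕ∞) + (k : WithBot ℕ∞) = ((d + k : ℕ) : WithBot ℕ∞) by
    push_cast; rfl, supportDim_le_iff]
  refine forall₃_congr fun w _ _ => ?_
  norm_cast
  omega

/-- Serre's condition at every generization in the fibre, read in the total space. -/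
def Sk (k : ℕ) (x : X) : Prop :=
  ∀ w, FG f x w → CInt.fiberDepth f F w < k → Cop f F 0 w

/-- The associated points of the fibre module are the points of depth zero. -/
theorem mem_ass_iff (y : S) (a : f.fiber y) :
    a ∈ AssSch.Ass (fm f F y) ↔ CInt.fiberDepth f F (f.fiberι y a) = 0 := by
  haveI := QFin.isLocallyNoetherian_fiber f y
  haveI := finite_stalk_fm f F y a
  rw [← Chart.fiberDepth_eq f F y a]
  constructor
  · intro h
    have h' : maximalIdeal _ ∈ associatedPrimes ((f.fiber y).presheaf.stalk a)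
      ((fm f F y).presheaf.stalk a) := h
    haveI : Nontrivial ((fm f F y).presheaf.stalk a) := by
      by_contra hn
      haveI := not_nontrivial_iff_subsingleton.1 hn
      rw [associatedPrimes.eq_empty_of_subsingleton] at h'
      exact h'
    exact (Depth.Assoc.depth_eq_zero_iff _).2 h'
  · intro h
    haveI : Nontrivial ((fm f F y).presheaf.stalk a) := by
      by_contra hn
      haveI := not_nontrivial_iff_subsingleton.1 hn
      rw [show LocCoh.depth ((f.fiber y).presheaf.stalk a) ((fm f F y).presheaf.stalk a) = ⊤ from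
        Depth.Basic.idealDepth_subsingleton] at h
      exact ENat.top_ne_zero h
    exact (Depth.Assoc.depth_eq_zero_iff _).1 h

/-- A point of the support has an associated generization in its fibre. -/
theorem exists_ass {x : X} (hx : x ∈ CohB1.support F) :
    ∃ w, FG f x w ∧ CInt.fiberDepth f F w = 0 := by
  haveI := QFin.isLocallyNoetherian_fiber f (f x)
  have h : Nontrivial ((fm f F (f x)).presheaf.stalk (f.asFiber x)) := by
    rw [nontrivial_iff, f.fiberι_asFiber]; exact hx
  haveI := isQuasicoherent_fm f F (f x)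
  obtain ⟨z, hz, hzx⟩ := StalkLoc.AssStalk.exists_ass_specializes h
  refine ⟨f.fiberι _ z, ?_, (mem_ass_iff f F _ z).1 hz⟩
  have := (fg_fiberι f).2 hzx
  rwa [f.fiberι_asFiber] at this

end Groth.Agent.H46.FibreProf.Basic
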