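import Groth.Agent.H22.FibrePD
import Groth.Agent.H26.FreeCrit
import Groth.Agent.H46.FiberStalk
import Groth.Agent.Lib.Depth.Basic
import Groth.Agent.Lib.StalkLoc.Basic
import Groth.Agent.Lib.QCoh.Stalk

/-!
# Fibre stalks of a module through an affine chart
-/

set_option autoImplicit false
set_option linter.style.haveILetI false

universe u

open CategoryTheory AlgebraicGeometry IsLocalRing TensorProduct Opposite
open Groth.Agent.H22.FibrePD

namespace Groth.Agent.H46.FibreProf.Transfer

open Groth.Agent.Lib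

instance isLocalRing_fq (A B : Type u) [CommRing A] [CommRing B] [Algebra A B] (P : PrimeSpectrum B) :
    IsLocalRing (Fq A B P) :=
  have : Nontrivial (Fq A B P) := Ideal.Quotient.nontrivial_iff.2
    fun h => (maximalIdeal.isMaximal _).ne_top (top_le_iff.1 (h ▸ J_le A B P))
  IsLocalRing.of_surjective' (Ideal.Quotient.mk _) Ideal.Quotient.mk_surjective

variable {X S : Scheme.{u}} {f : X ⟶ S} {V : S.Opens} {U : X.Opens} (hV : IsAffineOpen V)
  (hU : IsAffineOpen U) (hUV : U ≤ f ⁻¹ᵁ V) {B : Type u} [CommRing B] [Algebra Γ(S, V) B]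
  (π : B →+* Γ(X, U)) (hπ : Function.Surjective π)
  (hπA : π.comp (algebraMap Γ(S, V) B) = (f.appLE V U hUV).hom)

theorem germ_appLE (c : Γ(S, V)) {x : X} (hx : x ∈ U) :
    X.presheaf.germ U x hx (f.appLE V U hUV c) =
      f.stalkMap x (S.presheaf.germ V (f x) (hUV hx) c) := by
  refine Eq.trans ?_ (Scheme.Hom.germ_stalkMap_apply f V x (hUV hx) c).symm
  exact TopCat.Presheaf.germ_res_apply X.presheaf (homOfLE hUV) x hx _

/-- The prime of `B` under a point of the chart. -/
noncomputable def pt {x : X} (hx : x ∈ U) : PrimeSpectrum B :=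
  PrimeSpectrum.comap π (hU.primeIdealOf ⟨x, hx⟩)

/-- The map to the stalk. -/
noncomputable def toStalk {x : X} (hx : x ∈ U) : B →+* X.presheaf.stalk x :=
  (X.presheaf.germ U x hx).hom.comp π

include hU in
theorem isUnit_toStalk_iff {x : X} (hx : x ∈ U) (b : B) :
    IsUnit (toStalk π hx b) ↔ b ∉ (pt hU π hx).asIdeal := by
  rw [toStalk, RingHom.comp_apply, ← X.mem_basicOpen (π b) x hx,
    ← QCoh.Stalk.mem_primeIdealOf_compl_iff hU hx]
  rfl

include hV hπA in
theorem comap_pt {x : X} (hx : x ∈ U) :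
    (pt hU π hx).asIdeal.under Γ(S, V) = (hV.primeIdealOf ⟨f x, hUV hx⟩).asIdeal := by
  ext c
  haveI : IsLocalHom (f.stalkMap x).hom := f.toLRSHom.prop x
  rw [← not_iff_not, Ideal.under_def, Ideal.mem_comap, ← isUnit_toStalk_iff hU π hx, toStalk,
    RingHom.comp_apply, show π (algebraMap Γ(S, V) B c) = f.appLE V U hUV c from RingHom.congr_fun hπA c]
  rw [show (X.presheaf.germ U x hx).hom (f.appLE V U hUV c) = f.stalkMap x
    (S.presheaf.germ V (f x) (hUV hx) c) from germ_appLE hUV c hx, isUnit_map_iff,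
    ← S.mem_basicOpen c (f x) (hUV hx), ← QCoh.Stalk.mem_primeIdealOf_compl_iff hV (hUV hx)]
  rfl

/-- The map from the local ring of `B`. -/
noncomputable def locHom {x : X} (hx : x ∈ U) :
    Localization.AtPrime (pt hU π hx).asIdeal →+* X.presheaf.stalk x :=
  IsLocalization.lift (M := (pt hU π hx).asIdeal.primeCompl) (g := toStalk π hx)
    fun b => (isUnit_toStalk_iff hU π hx _).2 b.2

theorem locHom_comp {x : X} (hx : x ∈ U) :
    (locHom hU π hx).comp (algebraMap B _) = toStalk π hx :=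
  IsLocalization.lift_comp _

include hπ in
theorem locHom_surjective {x : X} (hx : x ∈ U) : Function.Surjective (locHom hU π hx) := by
  intro o
  let := TopCat.Presheaf.algebra_section_stalk X.presheaf (⟨x, hx⟩ : U)
  have := hU.isLocalization_stalk ⟨x, hx⟩
  obtain ⟨⟨r, t⟩, h⟩ := IsLocalization.surj (hU.primeIdealOf ⟨x, hx⟩).asIdeal.primeCompl o
  obtain ⟨r', rfl⟩ := hπ r
  obtain ⟨t', ht'⟩ := hπ t
  have ht : t' ∈ (pt hU π hx).asIdeal.primeCompl := by
    show π t' ∉ (hU.primeIdealOf ⟨x, hx⟩).asIdeal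
    rw [ht']; exact t.2
  refine ⟨IsLocalization.mk' _ r' (⟨t', ht⟩ : (pt hU π hx).asIdeal.primeCompl), ?_⟩
  rw [locHom, IsLocalization.lift_mk'_spec]
  show X.presheaf.germ U x hx (π r') = X.presheaf.germ U x hx (π t') * o
  rw [ht', mul_comm]
  exact h.symm

include hV hπA in
/-- The ideal of the fibre in the local ring. -/
theorem map_J {x : X} (hx : x ∈ U) :
    (J Γ(S, V) B (pt hU π hx)).map (locHom hU π hx) =
      (maximalIdeal (S.presheaf.stalk (f x))).map (f.stalkMap x).hom := by
  let := TopCat.Presheaf.algebra_section_stalk S.presheaf (⟨f x, hUV hx⟩ : V)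
  have := hV.isLocalization_stalk ⟨f x, hUV hx⟩
  rw [J, comap_pt hV hU hUV π hπA hx, Ideal.map_map,
    ← IsLocalization.AtPrime.map_eq_maximalIdeal (hV.primeIdealOf ⟨f x, hUV hx⟩).asIdeal
      (S.presheaf.stalk (f x)), Ideal.map_map]
  refine congrArg (fun φ => Ideal.map φ _) (RingHom.ext fun c => ?_)
  rw [RingHom.comp_apply, IsScalarTower.algebraMap_apply Γ(S, V) B
    (Localization.AtPrime (pt hU π hx).asIdeal), ← RingHom.comp_apply, locHom_comp, toStalk,
    RingHom.comp_apply, show π (algebraMap Γ(S, V) B c) = f.appLE V U hUV c from RingHom.congr_fun hπA c]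
  exact germ_appLE hUV c hx

variable (F : X.Modules) [F.IsQuasicoherent] [Module B Γ(F, U)]
  (hact : ∀ (b : B) (m : Γ(F, U)), b • m = π b • m)

include hV hπ hπA hact in
/-- The fibre stalk of a module through a chart. -/
theorem depth_eq (y : S) (a : f.fiber y) (hx : f.fiberι y a ∈ U) :
    LocCoh.depth ((f.fiber y).presheaf.stalk a)
        (((Scheme.Modules.pullback (f.fiberι y)).obj F).presheaf.stalk a) =
      LocCoh.depth (Fq Γ(S, V) B (pt hU π hx)) (FM Γ(S, V) B Γ(F, U) (pt hU π hx)) ∧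
    (Subsingleton (((Scheme.Modules.pullback (f.fiberι y)).obj F).presheaf.stalk a) ↔
      Subsingleton (FM Γ(S, V) B Γ(F, U) (pt hU π hx))) := by
  let x := f.fiberι y a
  let O := (f.fiber y).presheaf.stalk a
  let Ox := X.presheaf.stalk x
  let Fx := F.presheaf.stalk x
  let P := pt hU π hx
  let BP := Localization.AtPrime P.asIdeal
  let Q := (hU.primeIdealOf ⟨x, hx⟩).asIdeal
  let _ := StalkLoc.Basic.moduleSections F hx
  have hloc : IsLocalizedModule Q.primeCompl (StalkLoc.Basic.germₗ F hx) :=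
    StalkLoc.Basic.isLocalizedModule_germ hU hx
  letI : Module B Fx := Module.compHom Fx (toStalk π hx)
  letI : Module BP Fx := Module.compHom Fx (locHom hU π hx)
  haveI : IsScalarTower B BP Fx := IsScalarTower.of_algebraMap_smul fun b v => by
    show (locHom hU π hx) (algebraMap B BP b) • v = toStalk π hx b • v
    rw [← RingHom.comp_apply, locHom_comp]
  let γ : Γ(F, U) →ₗ[B] Fx :=
    { toFun := StalkLoc.Basic.germₗ F hx
      map_add' := map_add _
      map_smul' := fun b m => by
        rw [hact]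
        exact (map_smul (StalkLoc.Basic.germₗ F hx) (π b) m).trans rfl }
  have hmemP : ∀ {b : B}, b ∈ P.asIdeal.primeCompl → π b ∈ Q.primeCompl := fun h => h
  haveI : IsLocalizedModule P.asIdeal.primeCompl γ := by
    refine ⟨fun b => ?_, fun v => ?_, fun {m n} h => ?_⟩
    · rw [Module.End.isUnit_iff]
      exact ((isUnit_toStalk_iff hU π hx _).2 b.2).smul_bijective
    · obtain ⟨⟨m, t⟩, ht⟩ := hloc.surj v
      obtain ⟨t', ht'⟩ := hπ t
      refine ⟨⟨m, ⟨t', show π t' ∈ Q.primeCompl from ht' ▸ t.2⟩⟩, ?_⟩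
      exact (congrArg (fun r => (X.presheaf.germ U x hx) r • v) ht').trans ht
    · obtain ⟨t, ht⟩ := hloc.exists_of_eq h
      obtain ⟨t', ht'⟩ := hπ t
      refine ⟨⟨t', show π t' ∈ Q.primeCompl from ht' ▸ t.2⟩, ?_⟩
      show t' • m = t' • n
      rw [hact, hact, ht']
      exact ht
  let e₁ : LocalizedModule P.asIdeal.primeCompl Γ(F, U) ≃ₗ[BP] Fx :=
    (IsLocalizedModule.iso P.asIdeal.primeCompl γ).extendScalarsOfIsLocalization
      P.asIdeal.primeCompl BP
  -- the stalk of the fibre
  letI : Algebra Ox O := ((f.fiberι y).stalkMap a).hom.toAlgebra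
  have hOsurj : Function.Surjective (algebraMap Ox O) := (f.fiberι y).stalkMap_surjective a
  let N := ((Scheme.Modules.pullback (f.fiberι y)).obj F).presheaf.stalk a
  let e₂ : O ⊗[Ox] Fx ≃ₗ[O] N :=
    (asIso ((DerivedOX.PullbackStalk.comparison (f.fiberι y) a).app F)).toLinearEquiv
  letI : Algebra BP O := ((algebraMap Ox O).comp (locHom hU π hx)).toAlgebra
  have hsurj : Function.Surjective (algebraMap BP O) :=
    hOsurj.comp (locHom_surjective hU π hπ hx)
  letI : Module BP N := Module.compHom N (algebraMap BP O)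
  haveI : IsScalarTower BP O N := IsScalarTower.of_algebraMap_smul fun _ _ => rfl
  let μ : Fx →ₗ[BP] N :=
    { toFun := fun v => e₂ (1 ⊗ₜ[Ox] v)
      map_add' := fun v w => by rw [tmul_add, map_add]
      map_smul' := fun c v => by
        show e₂ (1 ⊗ₜ[Ox] ((locHom hU π hx) c • v)) = algebraMap Ox O (locHom hU π hx c) • e₂ (1 ⊗ₜ[Ox] v)
        rw [← map_smul e₂, smul_tmul', tmul_smul, smul_tmul', Algebra.smul_def, smul_eq_mul, mul_one] }
  have hμ : Function.Surjective μ :=
    e₂.surjective.comp (TensorProduct.mk_surjective Ox Fx O hOsurj)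
  let 𝔞 : Ideal Ox := (maximalIdeal (S.presheaf.stalk (f x))).map (f.stalkMap x).hom
  have hk : RingHom.ker (algebraMap Ox O) = 𝔞 := H46.FiberStalk.ker_stalkMap_fiberι f y a
  have hker : LinearMap.ker μ = J Γ(S, V) B P • (⊤ : Submodule BP Fx) := by
    refine le_antisymm (fun v hv => ?_) (Submodule.smul_le.2 fun c hc v _ => ?_)
    · have h0 : (1 : O) ⊗ₜ[Ox] v = 0 := e₂.injective (by rw [map_zero]; exact hv)
      let e₃ : O ≃ₐ[Ox] Ox ⧸ 𝔞 := (AlgEquiv.ofRingEquiv (f := ((Ideal.quotEquivOfEq hk.symm).trans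
        (RingHom.quotientKerEquivOfSurjective hOsurj))) fun r => rfl).symm
      have h2 : (1 : Ox ⧸ 𝔞) ⊗ₜ[Ox] v = 0 := by
        have := congrArg (TensorProduct.congr e₃.toLinearEquiv (LinearEquiv.refl Ox Fx)) h0
        simpa using this
      have h3 := congrArg (TensorProduct.quotTensorEquivQuotSMul Fx 𝔞) h2
      rw [map_zero, ← map_one (Ideal.Quotient.mk 𝔞), TensorProduct.quotTensorEquivQuotSMul_mk_tmul,
        one_smul, Submodule.Quotient.mk_eq_zero] at h3
      have h3' : v ∈ (J Γ(S, V) B P).map (locHom hU π hx) • (⊤ : Submodule Ox Fx) := by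
        rw [map_J hV hU hUV π hπA hx]; exact h3
      have key : ∀ o ∈ (J Γ(S, V) B P).map (locHom hU π hx), ∀ w : Fx,
          o • w ∈ J Γ(S, V) B P • (⊤ : Submodule BP Fx) := by
        intro o ho
        induction ho using Submodule.span_induction with
        | mem o ho =>
          obtain ⟨c, hc, rfl⟩ := ho
          exact fun w => Submodule.smul_mem_smul (N := (⊤ : Submodule BP Fx)) hc (Submodule.mem_top (x := w))
        | zero => exact fun w => by rw [zero_smul]; exact zero_mem _
        | add o o' _ _ h h' => exact fun w => by rw [add_smul]; exact add_mem (h w) (h' w)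
        | smul r o _ h => exact fun w => by rw [smul_eq_mul, mul_comm, mul_smul]; exact h _
      exact Submodule.smul_induction_on (p := (· ∈ J Γ(S, V) B P • (⊤ : Submodule BP Fx))) h3'
        (fun o ho w _ => key o ho w) (fun _ _ h h' => add_mem h h')
    · have hc' : locHom hU π hx c ∈ 𝔞 := by
        have := Ideal.mem_map_of_mem (locHom hU π hx) hc
        rwa [map_J hV hU hUV π hπA hx] at this
      rw [LinearMap.mem_ker, map_smul]
      show algebraMap Ox O (locHom hU π hx c) • μ v = 0
      rw [RingHom.mem_ker.1 (hk.symm ▸ hc' : locHom hU π hx c ∈ RingHom.ker (algebraMap Ox O)), zero_smul]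
  let e : FM Γ(S, V) B Γ(F, U) P ≃ₗ[BP] N :=
    fmEquiv Γ(S, V) B Γ(F, U) P ≪≫ₗ
      Submodule.Quotient.equiv _ (LinearMap.ker μ) e₁ (by
        rw [hker, Submodule.map_smul'', Submodule.map_top, LinearEquiv.range]) ≪≫ₗ
      μ.quotKerEquivOfSurjective hμ
  refine ⟨?_, e.toEquiv.subsingleton_congr.symm⟩
  rw [← Depth.Basic.depth_eq_of_surjective (R := BP) (S := O) (M := N) hsurj,
    ← Depth.Basic.depth_congr e,
    Depth.Basic.depth_eq_of_surjective (R := BP) (S := Fq Γ(S, V) B P) Ideal.Quotient.mk_surjective]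

include hV hπA in
/-- For an isomorphism to the sections, the local ring of the fibre is a quotient of `B_P`. -/
theorem fq_equiv (hbij : Function.Bijective π) (y : S) (a : f.fiber y) (hx : f.fiberι y a ∈ U) :
    Nonempty (Fq Γ(S, V) B (pt hU π hx) ≃+* (f.fiber y).presheaf.stalk a) := by
  let x := f.fiberι y a
  let φ := locHom hU π hx
  have hinj : Function.Injective φ := by
    let := TopCat.Presheaf.algebra_section_stalk X.presheaf (⟨x, hx⟩ : U)
    have := hU.isLocalization_stalk ⟨x, hx⟩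
    rw [injective_iff_map_eq_zero]
    intro z hz
    obtain ⟨b, t, rfl⟩ := IsLocalization.exists_mk'_eq (pt hU π hx).asIdeal.primeCompl z
    change IsLocalization.lift _ _ = 0 at hz
    rw [IsLocalization.lift_mk'_spec, mul_zero] at hz
    obtain ⟨c, hc⟩ := (IsLocalization.map_eq_zero_iff (hU.primeIdealOf ⟨x, hx⟩).asIdeal.primeCompl
      (X.presheaf.stalk x) (π b)).1 hz
    obtain ⟨c', hc'⟩ := hbij.2 c
    refine (IsLocalization.mk'_eq_zero_iff _ _).2
      ⟨⟨c', show π c' ∈ (hU.primeIdealOf ⟨x, hx⟩).asIdeal.primeCompl from hc' ▸ c.2⟩, hbij.1 ?_⟩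
    rw [map_zero, map_mul, hc', hc]
  let χ : Localization.AtPrime (pt hU π hx).asIdeal →+* (f.fiber y).presheaf.stalk a :=
    ((f.fiberι y).stalkMap a).hom.comp φ
  have hsurj : Function.Surjective χ :=
    ((f.fiberι y).stalkMap_surjective a).comp (locHom_surjective hU π hbij.2 hx)
  have hker : RingHom.ker χ = J Γ(S, V) B (pt hU π hx) := by
    refine le_antisymm (fun z hz => ?_) (fun z hz => ?_)
    · have h1 : φ z ∈ RingHom.ker ((f.fiberι y).stalkMap a).hom := hz
      rw [H46.FiberStalk.ker_stalkMap_fiberι f y a, ← map_J hV hU hUV π hπA hx] at h1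
      obtain ⟨z', hz', he⟩ := (Ideal.mem_map_iff_of_surjective φ (locHom_surjective hU π hbij.2 hx)).1 h1
      rwa [← hinj he]
    · show φ z ∈ RingHom.ker ((f.fiberι y).stalkMap a).hom
      rw [H46.FiberStalk.ker_stalkMap_fiberι f y a, ← map_J hV hU hUV π hπA hx]
      exact Ideal.mem_map_of_mem φ hz
  exact ⟨(Ideal.quotEquivOfEq hker.symm).trans (RingHom.quotientKerEquivOfSurjective hsurj)⟩

end Groth.Agent.H46.FibreProf.Transfer
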