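import Groth.Agent.H46.FibreProf.Alg
import Groth.Agent.H46.FibreProf.Transfer
import Groth.Agent.H46.DimData
import Groth.Agent.H54.CMAffine
import Groth.Agent.Lib.Flat55.QCohFP
import Groth.Agent.S2768
import Groth.Prelude.Def_CInt
import Groth.Prelude.Def_FlatMod2

/-!
# Lower semicontinuity of the rectified depth in the fibres (EGA IV 12.1.2)
-/

set_option autoImplicit false
set_option linter.style.haveILetI false

universe u

open CategoryTheory AlgebraicGeometry IsLocalRing TensorProduct Opposite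
open Groth.Agent.H22.FibrePD Groth.Agent.H46.FibreTrdeg Groth.Agent.H46.DimData

namespace Groth.Agent.H46.FibreProf.Chart

open Groth.Agent.Lib

variable {X S : Scheme.{u}} (f : X ⟶ S)

/-- Fibre depths do not depend on the name of the fibre. -/
theorem fiberDepth_eq (F : X.Modules) (y : S) (a : f.fiber y) :
    LocCoh.depth ((f.fiber y).presheaf.stalk a)
        (((Scheme.Modules.pullback (f.fiberι y)).obj F).presheaf.stalk a) =
      CInt.fiberDepth f F (f.fiberι y a) := by
  have key : ∀ (y' : S) (a' : f.fiber y'), y' = y → f.fiberι y' a' = f.fiberι y a →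
      LocCoh.depth ((f.fiber y').presheaf.stalk a')
        (((Scheme.Modules.pullback (f.fiberι y')).obj F).presheaf.stalk a') =
      LocCoh.depth ((f.fiber y).presheaf.stalk a)
        (((Scheme.Modules.pullback (f.fiberι y)).obj F).presheaf.stalk a) := by
    intro y' a' h h'
    subst h
    rw [(f.fiberι y').isEmbedding.injective h']
  exact (key _ _ ((f.range_fiberι y).subset ⟨a, rfl⟩) (f.fiberι_asFiber _)).symm

theorem flat_sections (F : X.Modules) [F.IsQuasicoherent] {V : S.Opens} (hV : IsAffineOpen V)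
    {U : X.Opens} (hU : IsAffineOpen U) (hUV : U ≤ f ⁻¹ᵁ V)
    (h : ∀ x ∈ U, FlatMod.IsFlatOverAt f F x) [Algebra Γ(S, V) Γ(X, U)]
    (halg : algebraMap Γ(S, V) Γ(X, U) = (f.appLE V U hUV).hom)
    [Module Γ(S, V) Γ(F, U)] [IsScalarTower Γ(S, V) Γ(X, U) Γ(F, U)] :
    Module.Flat Γ(S, V) Γ(F, U) := by
  refine Module.flat_of_isLocalized_maximal (R := Γ(S, V)) Γ(X, U) Γ(F, U)
    (fun P _ ↦ LocalizedModule P.primeCompl Γ(F, U))
    (fun P _ ↦ LocalizedModule.mkLinearMap P.primeCompl Γ(F, U)) fun P hP ↦ ?_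
  let q : PrimeSpectrum Γ(X, U) := ⟨P, hP.isPrime⟩
  have hy : hU.fromSpec q ∈ U := by
    have := Set.mem_range_self (f := hU.fromSpec) q
    rwa [hU.range_fromSpec] at this
  have hq : (hU.primeIdealOf ⟨hU.fromSpec q, hy⟩).asIdeal = P := congrArg PrimeSpectrum.asIdeal
    (hU.fromSpec.isOpenEmbedding.injective (hU.fromSpec_primeIdealOf ⟨_, hy⟩) : _ = q)
  generalize hxq : hU.fromSpec q = x at hy hq
  let _ := StalkLoc.Basic.moduleSections F hy
  haveI := StalkLoc.Basic.isLocalizedModule_germ (M := F) hU hy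
  letI : Module (S.presheaf.stalk (f x)) (F.presheaf.stalk x) := FlatMod.moduleStalkOver f F x
  haveI : Module.Flat (S.presheaf.stalk (f x)) (F.presheaf.stalk x) := h x hy
  letI := TopCat.Presheaf.algebra_section_stalk S.presheaf (⟨f x, hUV hy⟩ : V)
  haveI := hV.isLocalization_stalk ⟨f x, hUV hy⟩
  haveI : Module.Flat Γ(S, V) (S.presheaf.stalk (f x)) :=
    IsLocalization.flat _ (hV.primeIdealOf ⟨f x, hUV hy⟩).asIdeal.primeCompl
  letI : Module Γ(S, V) (F.presheaf.stalk x) :=
    Module.compHom _ (algebraMap Γ(S, V) Γ(X, U))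
  haveI : IsScalarTower Γ(S, V) Γ(X, U) (F.presheaf.stalk x) :=
    IsScalarTower.of_algebraMap_smul fun _ _ => rfl
  haveI : IsScalarTower Γ(S, V) (S.presheaf.stalk (f x)) (F.presheaf.stalk x) :=
    IsScalarTower.of_algebraMap_smul fun c v => by
      show f.stalkMap x (S.presheaf.germ V (f x) (hUV hy) c) • v =
        X.presheaf.germ U x hy (algebraMap Γ(S, V) Γ(X, U) c) • v
      rw [halg, ← Transfer.germ_appLE hUV c hy]
  haveI : Module.Flat Γ(S, V) (F.presheaf.stalk x) :=
    Module.Flat.trans Γ(S, V) (S.presheaf.stalk (f x)) (F.presheaf.stalk x)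
  subst hq
  exact Module.Flat.of_linearEquiv
    ((IsLocalizedModule.iso (hU.primeIdealOf ⟨x, hy⟩).asIdeal.primeCompl
      (StalkLoc.Basic.germₗ F hy)).restrictScalars Γ(S, V))

theorem trd_of_surjective {X Y : Scheme.{u}} (i : X ⟶ Y) [LocallyOfFiniteType i] (x : X)
    (h : Function.Surjective (i.residueFieldMap x)) : trd i x = 0 := by
  rw [trd, Lib.Cyc.FieldDim.trdegAt_eq_zero_of_surjective i x h]
  simp

theorem residueFieldMap_surjective {X Y : Scheme.{u}} (i : X ⟶ Y) [IsPreimmersion i] (x : X) :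
    Function.Surjective (i.residueFieldMap x) :=
  Lib.Cyc.FieldDim.residueFieldMap_surjective i x

/-- In a chart of `X` inside affine space over the base, the dimension of the local ring of the
ambient fibre and the transcendence degree of the point add up to the number of variables. -/
theorem dim_fq_add_trd [LocallyOfFiniteType f] {V : S.Opens} (hV : IsAffineOpen V) {U : X.Opens}
    (hU : IsAffineOpen U) (hUV : U ≤ f ⁻¹ᵁ V) (N : ℕ)
    (π : MvPolynomial (Fin N) Γ(S, V) →+* Γ(X, U)) (hπ : Function.Surjective π)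
    (hπA : π.comp (algebraMap Γ(S, V) (MvPolynomial (Fin N) Γ(S, V))) = (f.appLE V U hUV).hom)
    {x : X} (hx : x ∈ U) :
    ∃ D : ℕ, ringKrullDim (Fq Γ(S, V) (MvPolynomial (Fin N) Γ(S, V)) (Transfer.pt hU π hx)) = D ∧
      D + trd f x = N := by
  let A := Γ(S, V)
  let B := MvPolynomial (Fin N) A
  let T := Spec (CommRingCat.of B)
  let g : T ⟶ Spec A := Spec.map (CommRingCat.ofHom (algebraMap A B))
  haveI hg : SmoothOfRelativeDimension N g := by
    rw [HasRingHomProperty.Spec_iff (P := @SmoothOfRelativeDimension N)]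
    refine RingHom.locally_of RingHom.isStandardSmoothOfRelativeDimension_respectsIso _ ?_
    haveI : Algebra.IsStandardSmoothOfRelativeDimension N A (MvPolynomial (Fin N) A) := by
      haveI := Lib.GrassRep.isStandardSmoothOfRelativeDimension_mvPolynomial A (ULift.{u} (Fin N))
        ((Nat.card_congr Equiv.ulift).trans (Nat.card_fin N))
      exact Algebra.IsStandardSmoothOfRelativeDimension.of_algEquiv N
        (MvPolynomial.renameEquiv A (Equiv.ulift : ULift.{u} (Fin N) ≃ Fin N))
    exact (RingHom.isStandardSmoothOfRelativeDimension_algebraMap N).2 inferInstance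
  haveI : Smooth g := SmoothOfRelativeDimension.smooth N g
  let i : Spec Γ(X, U) ⟶ T := Spec.map (CommRingCat.ofHom π)
  haveI : IsClosedImmersion i := IsClosedImmersion.spec_of_surjective _ hπ
  let Q : ↥(Spec Γ(X, U)) := hU.primeIdealOf ⟨x, hx⟩
  have hQ : hU.fromSpec Q = x := hU.fromSpec_primeIdealOf ⟨x, hx⟩
  have hcomp : (i ≫ g) ≫ hV.fromSpec = hU.fromSpec ≫ f := by
    rw [← hV.SpecMap_appLE_fromSpec f hU hUV, ← Spec.map_comp, ← CommRingCat.ofHom_comp, hπA,
      CommRingCat.ofHom_hom]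
  haveI : IsOpenImmersion hV.fromSpec := hV.isOpenImmersion_fromSpec
  haveI : IsOpenImmersion hU.fromSpec := hU.isOpenImmersion_fromSpec
  haveI : LocallyOfFiniteType (i ≫ g) := inferInstance
  haveI : LocallyOfFiniteType ((i ≫ g) ≫ hV.fromSpec) := inferInstance
  have e2 : trd ((i ≫ g) ≫ hV.fromSpec) Q = trd f x := by
    have h1 : trd (hU.fromSpec ≫ f) Q = trd f x := by
      rw [H54.CMAffine.trd_comp, hQ,
        trd_of_surjective hU.fromSpec Q (residueFieldMap_surjective _ _), add_zero]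
    simp only [hcomp]
    exact h1
  have e1 : trd ((i ≫ g) ≫ hV.fromSpec) Q = trd g (i Q) := by
    rw [H54.CMAffine.trd_comp, trd_of_surjective hV.fromSpec _ (residueFieldMap_surjective _ _),
      zero_add, H54.CMAffine.trd_comp, trd_of_surjective i Q (residueFieldMap_surjective _ _), add_zero]
  have hfe : fe g (i Q) = N := by
    have h := S2768.result N g (i Q)
    rw [fibreDimAt_eq] at h
    exact_mod_cast h
  refine ⟨fd g (i Q), ?_, by rw [← e2, e1, fd_add_trd, hfe]⟩
  let e : B →+* Γ(T, ⊤) := (Scheme.ΓSpecIso (CommRingCat.of B)).inv.hom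
  letI : Algebra Γ(Spec A, ⊤) B :=
    ((algebraMap A B).comp (Scheme.ΓSpecIso A).hom.hom).toAlgebra
  have hbij : Function.Bijective e :=
    (Scheme.ΓSpecIso (CommRingCat.of B)).commRingCatIsoToRingEquiv.symm.bijective
  have hle : (⊤ : T.Opens) ≤ g ⁻¹ᵁ ⊤ := le_rfl
  have hbase : g.appLE ⊤ ⊤ hle = g.appTop := by
    show g.appLE ⊤ (g ⁻¹ᵁ ⊤) le_rfl = g.app ⊤
    exact g.appLE_eq_app
  have heA : e.comp (algebraMap Γ(Spec A, ⊤) B) = (g.appLE ⊤ ⊤ hle).hom := by
    rw [hbase]
    refine RingHom.ext fun c => ?_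
    show (Scheme.ΓSpecIso (CommRingCat.of B)).inv (algebraMap A B ((Scheme.ΓSpecIso A).hom c)) = g.appTop c
    have h := congr($(Scheme.ΓSpecIso_inv_naturality (CommRingCat.ofHom (algebraMap A B)))
      ((Scheme.ΓSpecIso A).hom c))
    refine h.trans ?_
    show g.appTop ((Scheme.ΓSpecIso A).inv ((Scheme.ΓSpecIso A).hom c)) = _
    rw [Iso.hom_inv_id_apply]
  obtain ⟨r⟩ := Transfer.fq_equiv (isAffineOpen_top (Spec A)) (isAffineOpen_top T) hle e heA hbij
    (g (i Q)) (g.asFiber (i Q)) trivial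
  have hP : Transfer.pt (isAffineOpen_top T) e (x := g.fiberι (g (i Q)) (g.asFiber (i Q))) trivial =
      Transfer.pt hU π hx := by
    refine PrimeSpectrum.ext (Ideal.ext fun b => ?_)
    rw [← not_iff_not, ← Transfer.isUnit_toStalk_iff (isAffineOpen_top T) e trivial b,
      Transfer.toStalk, RingHom.comp_apply, ← T.mem_basicOpen (e b) _ trivial, g.fiberι_asFiber]
    rw [show T.basicOpen (e b) = PrimeSpectrum.basicOpen b from
      basicOpen_eq_of_affine (R := CommRingCat.of B) b]
    rfl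
  rw [hP] at r
  rw [← ringKrullDim_fiber g (i Q), ← ringKrullDim_eq_of_ringEquiv r]
  refine ringKrullDim_eq_of_ringEquiv (Ideal.quotEquivOfEq ?_)
  rw [J, J, ← Ideal.map_map (I := (Transfer.pt hU π hx).asIdeal.under A) (algebraMap A B) (algebraMap B _) |>.trans
    (congrArg (fun φ => Ideal.map φ _) (IsScalarTower.algebraMap_eq A B _).symm),
    IsScalarTower.algebraMap_eq Γ(Spec A, ⊤) B, ← Ideal.map_map]
  congr 1
  let ε : Γ(Spec A, ⊤) →+* A := (Scheme.ΓSpecIso A).hom.hom
  have hε : Function.Surjective ε := (Scheme.ΓSpecIso A).commRingCatIsoToRingEquiv.surjective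
  show Ideal.map (algebraMap A B) _ = Ideal.map ((algebraMap A B).comp ε) _
  rw [← Ideal.map_map]
  congr 1
  exact ((Ideal.map_comap_of_surjective ε hε _).symm.trans rfl)

variable [LocallyOfFinitePresentation f] (F : X.Modules)

/-- The rectified depth of the fibres is lower semicontinuous. -/
theorem isOpen_le_fiberDepth_add_trd (hfp : CohB1.IsFP F) (U₀ : X.Opens)
    (hflat : ∀ x ∈ U₀, FlatMod.IsFlatOverAt f F x) (n : ℕ) :
    IsOpen {x : X | x ∈ U₀ ∧ (n : ℕ∞) ≤ CInt.fiberDepth f F x + trd f x} := by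
  haveI := hfp
  haveI := H26.FreeCrit.isQuasicoherent_of_isFP hfp
  rw [isOpen_iff_forall_mem_open]
  rintro x₀ ⟨hx₀, hn⟩
  obtain ⟨V, hV, hxV, -⟩ := exists_isAffineOpen_mem_and_subset (X := S) (x := f x₀) (U := ⊤) trivial
  obtain ⟨U, hU, hxU, hUle, hFP⟩ := Lib.Flat55.QCohFP.exists_affine_le F x₀ (U₀ ⊓ f ⁻¹ᵁ V) ⟨hx₀, hxV⟩
  have hUV : U ≤ f ⁻¹ᵁ V := fun z hz => (hUle hz).2
  let A := Γ(S, V)
  let R := Γ(X, U)
  letI : Algebra A R := (f.appLE V U hUV).hom.toAlgebra
  haveI : Algebra.FinitePresentation A R :=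
    HasRingHomProperty.appLE @LocallyOfFinitePresentation f inferInstance ⟨V, hV⟩ ⟨U, hU⟩ hUV
  haveI hft : Algebra.FiniteType A R := inferInstance
  obtain ⟨N, π, hπ⟩ := Algebra.FiniteType.iff_quotient_mvPolynomial''.1 hft
  let B := MvPolynomial (Fin N) A
  letI : Algebra B R := π.toRingHom.toAlgebra
  haveI : Module.FinitePresentation B R := Module.finitePresentation_of_surjective
    (Algebra.linearMap B R) hπ (Algebra.FinitePresentation.ker_fG_of_surjective π hπ)
  letI : Module B Γ(F, U) := Module.compHom _ π.toRingHom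
  haveI : IsScalarTower B R Γ(F, U) := IsScalarTower.of_algebraMap_smul fun _ _ => rfl
  haveI : Module.FinitePresentation B Γ(F, U) := Module.FinitePresentation.trans B Γ(F, U) R
  letI : Module A Γ(F, U) := Module.compHom _ (algebraMap A R)
  haveI : IsScalarTower A R Γ(F, U) := IsScalarTower.of_algebraMap_smul fun _ _ => rfl
  haveI : IsScalarTower A B Γ(F, U) := IsScalarTower.of_algebraMap_smul fun c m => by
    show π (algebraMap A B c) • m = _
    rw [π.commutes]
    rfl
  haveI : Module.Flat A Γ(F, U) :=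
    flat_sections f F hV hU hUV (fun z hz => hflat z (hUle hz).1) rfl
  have hπA : π.toRingHom.comp (algebraMap A B) = (f.appLE V U hUV).hom := π.comp_algebraMap
  let M := Γ(F, U)
  let G : Set (PrimeSpectrum B) := if n ≤ N then
    {P | haveI := Alg.isRegularLocalRing_fq A N P
         ringKrullDim (Fq A B P) ≤ ((LocCoh.depth (Fq A B P) (FM A B M P) + ((N - n : ℕ) : ℕ∞) : ℕ∞) : WithBot ℕ∞)}
    else (Module.support B M)ᶜ
  have hG : IsOpen G := by
    show IsOpen (if n ≤ N then _ else _)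
    split
    · exact Alg.isOpen_le_depth_add A N M (N - n)
    · exact (Module.isClosed_support).isOpen_compl
  have key : ∀ (x : X) (hx : x ∈ U),
      (n : ℕ∞) ≤ CInt.fiberDepth f F x + trd f x ↔ Transfer.pt hU π.toRingHom hx ∈ G := by
    intro x hx
    obtain ⟨D, hD, hDN⟩ := dim_fq_add_trd f hV hU hUV N π.toRingHom hπ hπA hx
    have hx' : f.fiberι (f x) (f.asFiber x) ∈ U := by rw [f.fiberι_asFiber]; exact hx
    obtain ⟨h1, -⟩ := Transfer.depth_eq hV hU hUV π.toRingHom hπ hπA F (fun b m => rfl) (f x)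
      (f.asFiber x) hx'
    have hpt : Transfer.pt hU π.toRingHom hx' = Transfer.pt hU π.toRingHom hx := by
      simp only [Transfer.pt, f.fiberι_asFiber]
    rw [hpt, fiberDepth_eq, f.fiberι_asFiber] at h1
    rw [h1]
    haveI := Alg.isRegularLocalRing_fq A N (Transfer.pt hU π.toRingHom hx)
    rcases subsingleton_or_nontrivial (FM A B M (Transfer.pt hU π.toRingHom hx)) with hs | hs
    · rw [show LocCoh.depth (Fq A B (Transfer.pt hU π.toRingHom hx))
        (FM A B M (Transfer.pt hU π.toRingHom hx)) = ⊤ from if_pos (Subsingleton.elim _ _)]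
      simp only [top_add, le_top, true_iff]
      show _ ∈ if n ≤ N then _ else _
      split
      · show ringKrullDim _ ≤ ((LocCoh.depth _ (FM A B M _) + _ : ℕ∞) : WithBot ℕ∞)
        rw [show LocCoh.depth (Fq A B (Transfer.pt hU π.toRingHom hx))
          (FM A B M (Transfer.pt hU π.toRingHom hx)) = ⊤ from if_pos (Subsingleton.elim _ _)]
        simp
      · exact (subsingleton_iff A B M _).1 hs
    · have hle := Alg.depth_le_dim A N M (Transfer.pt hU π.toRingHom hx)
      rw [hD] at hle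
      obtain ⟨j, hj⟩ := ENat.ne_top_iff_exists.mp
        (show LocCoh.depth (Fq A B (Transfer.pt hU π.toRingHom hx))
          (FM A B M (Transfer.pt hU π.toRingHom hx)) ≠ ⊤ from fun h => by
            rw [h] at hle
            exact ENat.natCast_ne_top D (top_le_iff.1 (WithBot.coe_le_coe.1 hle)))
      rw [← hj] at hle ⊢
      have hjD : j ≤ D := by exact_mod_cast hle
      show ((n : ℕ) : ℕ∞) ≤ (j : ℕ∞) + (trd f x : ℕ∞) ↔ _ ∈ if n ≤ N then _ else _
      split
      · show _ ↔ ringKrullDim _ ≤ ((LocCoh.depth _ (FM A B M _) + _ : ℕ∞) : WithBot ℕ∞)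
        rw [hD, ← hj]
        norm_cast
        omega
      · rename_i hnN
        refine iff_of_false ?_ ?_
        · norm_cast
          omega
        · intro hsupp
          exact (not_subsingleton_iff_nontrivial.2 hs) ((subsingleton_iff A B M _).2 hsupp)
  let O : Set ↥(Spec Γ(X, U)) := PrimeSpectrum.comap π.toRingHom ⁻¹' G
  refine ⟨hU.fromSpec '' O, ?_, hU.fromSpec.isOpenEmbedding.isOpenMap _
    (hG.preimage (PrimeSpectrum.continuous_comap _)), ⟨hU.primeIdealOf ⟨x₀, hxU⟩,
      (key x₀ hxU).1 hn, hU.fromSpec_primeIdealOf _⟩⟩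
  rintro _ ⟨q, hq, rfl⟩
  have hqU : hU.fromSpec q ∈ U := by
    have := Set.mem_range_self (f := hU.fromSpec) q
    rwa [hU.range_fromSpec] at this
  have hqq : hU.primeIdealOf ⟨hU.fromSpec q, hqU⟩ = q :=
    hU.fromSpec.isOpenEmbedding.injective (hU.fromSpec_primeIdealOf ⟨_, hqU⟩)
  exact ⟨(hUle hqU).1, (key _ hqU).2 (show PrimeSpectrum.comap π.toRingHom _ ∈ G by rw [hqq]; exact hq)⟩

end Groth.Agent.H46.FibreProf.Chart
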