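import Groth.Agent.H46.FibreProf.Dims

/-!
# Irreducible components of the supports in the fibres
-/

set_option autoImplicit false
set_option linter.style.haveILetI false

universe u

open CategoryTheory AlgebraicGeometry IsLocalRing Topology
open Groth.Agent.H46.FibreTrdeg Groth.Agent.H46.DimData Groth.Agent.H46.FibreProf.Basic
open Groth.Agent.H46.FibreProf.Open Groth.Agent.H46.FibreProf.Equidim Groth.Agent.H46.FibreProf.Dims

namespace Groth.Agent.H46.FibreProf.Comps

open Groth.Agent.Lib

variable {X S : Scheme.{u}} (f : X ⟶ S) [LocallyOfFinitePresentation f] (F : X.Modules)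
  [F.IsQuasicoherent] [SheafOfModules.IsFiniteType (R := X.ringCatSheaf) F] (y : S)

/-- The support of the fibre module. -/
abbrev T : Set ↥(f.fiber y) :=
  {z : ↥(f.fiber y) | Nontrivial (((Scheme.Modules.pullback (f.fiberι y)).obj F).presheaf.stalk z)}

theorem isClosed_T : IsClosed (T f F y) := by
  convert (Basic.isClosed_support F).preimage (f.fiberι y).continuous using 1
  ext z
  exact nontrivial_iff f F y z

theorem mem_T_iff (z : f.fiber y) : z ∈ T f F y ↔ f.fiberι y z ∈ CohB1.support F :=
  nontrivial_iff f F y z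

theorem dim_closure_T (b : T f F y) :
    topologicalKrullDim ↥(closure ({b} : Set ↥(T f F y))) =
      (trd f (f.fiberι y b.1) : WithBot ℕ∞) := by
  have e : (Subtype.val '' closure ({b} : Set ↥(T f F y))) = closure ({b.1} : Set ↥(f.fiber y)) := by
    rw [← (isClosed_T f F y).isClosedEmbedding_subtypeVal.closure_image_eq, Set.image_singleton]
  rw [← Equidim.dim_closure, ← e]
  exact IsHomeomorph.topologicalKrullDim_eq _
    ((IsEmbedding.subtypeVal (p := (· ∈ T f F y))).homeomorphImage _).isHomeomorph

theorem exists_comp_iff (n : ℕ) :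
    (∃ Z ∈ irreducibleComponents ↥(T f F y), topologicalKrullDim ↥Z = (n : WithBot ℕ∞)) ↔
      HasComp f F n y := by
  haveI : QuasiSober ↥(T f F y) := (isClosed_T f F y).isClosedEmbedding_subtypeVal.quasiSober
  constructor
  · rintro ⟨Z, hZ, hn⟩
    have hZc := isClosed_of_mem_irreducibleComponents Z hZ
    have hg : IsGenericPoint hZ.1.genericPoint Z := by
      have := hZ.1.isGenericPoint_genericPoint_closure
      rwa [hZc.closure_eq] at this
    refine ⟨f.fiberι y hZ.1.genericPoint.1, ⟨(mem_T_iff f F y _).1 hZ.1.genericPoint.2, ?_⟩,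
      Lib.Cyc.FieldDim.apply_fiberι f y _, ?_⟩
    · intro w hw hwθ
      obtain ⟨c, rfl, hc⟩ := fg_exists f hwθ
      let c' : T f F y := ⟨c, (mem_T_iff f F y c).2 hw⟩
      have hle : Z ⊆ closure {c'} := by
        rw [← hg.def]
        exact closure_minimal (Set.singleton_subset_iff.2
          (specializes_iff_mem_closure.1 (IsInducing.subtypeVal.specializes_iff.1 hc))) isClosed_closure
      have hcZ : c' ∈ Z := hZ.2 isIrreducible_singleton.closure hle (subset_closure rfl)
      have h1 : hZ.1.genericPoint.1 ⤳ c := (hg.specializes hcZ).map continuous_subtype_val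
      exact eq_of_trd_le f hwθ.2 hwθ.1
        (trd_le f (h1.map (f.fiberι y).continuous) hwθ.1.symm)
    · have h1 := dim_closure_T f F y hZ.1.genericPoint
      rw [hg.def, hn, Nat.cast_inj] at h1
      exact h1.symm
  · rintro ⟨θ, hθ, hy, hn⟩
    obtain ⟨b, rfl⟩ := Lib.Cyc.FieldDim.exists_fiberι_eq f θ y hy
    let b' : T f F y := ⟨b, (mem_T_iff f F y b).2 hθ.1⟩
    refine ⟨closure {b'}, ⟨isIrreducible_singleton.closure, fun Z hZ hle c hc => ?_⟩, ?_⟩
    · have hg := hZ.isGenericPoint_genericPoint_closure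
      have h1 : hZ.genericPoint ⤳ b' := hg.specializes (subset_closure (hle (subset_closure rfl)))
      have h2 : f.fiberι y hZ.genericPoint.1 = f.fiberι y b := hθ.2 _
        ((mem_T_iff f F y _).1 hZ.genericPoint.2) ((fg_fiberι f).2 (h1.map continuous_subtype_val))
      have h3 : hZ.genericPoint = b' := Subtype.ext ((f.fiberι y).isEmbedding.injective h2)
      rw [← h3, hg.def]
      exact subset_closure hc
    · rw [dim_closure_T, hn]

theorem exists_natCast_of_comp {Z : Set ↥(T f F y)} (hZ : Z ∈ irreducibleComponents ↥(T f F y)) :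
    ∃ n : ℕ, topologicalKrullDim ↥Z = (n : WithBot ℕ∞) := by
  haveI : QuasiSober ↥(T f F y) := (isClosed_T f F y).isClosedEmbedding_subtypeVal.quasiSober
  have hg := hZ.1.isGenericPoint_genericPoint_closure
  rw [(isClosed_of_mem_irreducibleComponents Z hZ).closure_eq] at hg
  exact ⟨trd f (f.fiberι y hZ.1.genericPoint.1), by rw [← dim_closure_T f F y, hg.def]⟩

theorem dim_T_le_iff (m : ℕ) :
    topologicalKrullDim ↥(T f F y) ≤ (m : WithBot ℕ∞) ↔
      ∀ w ∈ CohB1.support F, f w = y → trd f w ≤ m := by
  constructor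
  · intro h w hw hwy
    obtain ⟨b, rfl⟩ := Lib.Cyc.FieldDim.exists_fiberι_eq f w y hwy
    have h1 := (topologicalKrullDim_subspace_le ↥(T f F y) (closure {⟨b, (mem_T_iff f F y b).2 hw⟩})).trans h
    rw [dim_closure_T] at h1
    exact_mod_cast h1
  · intro h
    refine le_trans ?_ ((dim_closed_inter_le_iff f (Basic.isClosed_support F) y m).2 h)
    let φ : ↥(T f F y) → ↥(CohB1.support F ∩ f ⁻¹' {y}) := fun b =>
      ⟨f.fiberι y b.1, (mem_T_iff f F y b.1).1 b.2, Lib.Cyc.FieldDim.apply_fiberι f y b.1⟩
    have : IsInducing φ :=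
      IsInducing.subtypeVal.of_comp_iff.1 ((f.fiberι y).isEmbedding.isInducing.comp IsInducing.subtypeVal)
    exact this.topologicalKrullDim_le

/-- Transcendence degrees are bounded on a quasi-compact fibre. -/
theorem exists_bound [QuasiCompact f] : ∃ e : ℕ, ∀ w, f w = y → trd f w ≤ e := by
  have hc : IsCompact (f ⁻¹' {y}) := f.isCompact_preimage_singleton y
  obtain ⟨e, he⟩ := hc.elim_directed_cover (fun e : ℕ => {x : X | ∀ w, FG f x w → trd f w ≤ e})
    (fun e => isOpen_trd_le f e)
    (fun x _ => Set.mem_iUnion.2 ⟨_, exists_trd_bound f x⟩)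
    (fun a b => ⟨max a b, fun x hx w hw => (hx w hw).trans (le_max_left _ _),
      fun x hx w hw => (hx w hw).trans (le_max_right _ _)⟩)
  exact ⟨e, fun w hw => he hw w (fg_self f w)⟩

end Groth.Agent.H46.FibreProf.Comps
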