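import Groth.Agent.H46.FibreProf.Basic
import Groth.Agent.H46.FibreProf.LocStalk
import Groth.Agent.Lib.FibreDim.Semicont
import Mathlib.Algebra.Order.Ring.WithTop

/-!
# Openness of the conditions on fibre modules (EGA IV 12.1)
-/

set_option autoImplicit false
set_option linter.style.haveILetI false

universe u

open CategoryTheory AlgebraicGeometry IsLocalRing
open Groth.Agent.H46.FibreTrdeg Groth.Agent.H46.DimData Groth.Agent.H46.FibreProf.Basic

namespace Groth.Agent.H46.FibreProf.Open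

open Groth.Agent.Lib

variable {X S : Scheme.{u}} (f : X ⟶ S)

/-- The engine: a bound on transcendence degrees of generizations inside a closed set is open. -/
theorem isOpen_trd_add_le [LocallyOfFiniteType f] {T : Set X} (hT : IsClosed T) (k j : ℕ) :
    IsOpen {x : X | ∀ w ∈ T, FG f x w → trd f w + k ≤ j} := by
  by_cases hkj : k ≤ j
  swap
  · convert hT.isOpen_compl using 1
    ext x
    exact ⟨fun h hx => hkj (le_trans le_add_self (h x hx (fg_self f x))),
      fun hx w hw hwx => absurd (hwx.2.mem_closed hT hw) hx⟩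
  let i := (Scheme.IdealSheafData.vanishingIdeal ⟨T, hT⟩).subschemeι
  have hr : Set.range i = T := by
    rw [Scheme.IdealSheafData.range_subschemeι, Scheme.IdealSheafData.coe_support_vanishingIdeal]
    rfl
  let O := {v | FlatMor.fibreDimAt (i ≫ f) v ≤ ((j - k : ℕ) : WithBot ℕ∞)}
  have hO : IsOpen O := FibreDim.Semicont.isOpen_setOf_fibreDimAt_le (i ≫ f) _
  convert (i.isClosedEmbedding.isClosedMap _ hO.isClosed_compl).isOpen_compl using 1
  ext x
  constructor
  · rintro h ⟨v, hv, rfl⟩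
    refine hv ((fibreDimAt_comp_le_iff f i v _).2 fun ξ hξ h1 h2 => ?_)
    have := h ξ (hr ▸ hξ) ⟨h1, h2⟩
    omega
  · intro hx w hw hwx
    obtain ⟨v, rfl⟩ : x ∈ Set.range i := hr.symm ▸ hwx.2.mem_closed hT hw
    have hv : v ∈ O := by_contra fun hv => hx ⟨v, hv, rfl⟩
    have := (fibreDimAt_comp_le_iff f i v _).1 hv w (hr.symm ▸ hw) hwx.1 hwx.2
    omega

theorem exists_trd_bound [LocallyOfFiniteType f] (x : X) : ∀ w, FG f x w → trd f w ≤ fe f x :=
  fun _ h => trd_le_fe f h.2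

theorem isOpen_trd_le [LocallyOfFiniteType f] (e : ℕ) :
    IsOpen {x : X | ∀ w, FG f x w → trd f w ≤ e} := by
  simpa using isOpen_trd_add_le f isClosed_univ 0 e

variable [LocallyOfFinitePresentation f] (F : X.Modules) (hfp : CohB1.IsFP F) (U₀ : X.Opens)
  (hflat : ∀ x ∈ U₀, FlatMod.IsFlatOverAt f F x)

include hfp hflat

theorem isOpen_le_psi (n : ℕ) : IsOpen {x : X | x ∈ U₀ ∧ (n : ℕ∞) ≤ psi f F x} :=
  Chart.isOpen_le_fiberDepth_add_trd f F hfp U₀ hflat n

theorem isOpen_cop (k : ℕ) : IsOpen {x : X | x ∈ U₀ ∧ Cop f F k x} := by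
  haveI := hfp
  rw [isOpen_iff_forall_mem_open]
  rintro x₀ ⟨hx₀, h₀⟩
  obtain ⟨a, ha, hb⟩ : ∃ a : ℕ, (a : ℕ∞) ≤ psi f F x₀ + k ∧
      ∀ w ∈ CohB1.support F, FG f x₀ w → trd f w ≤ a := by
    by_cases he : (fe f x₀ : ℕ∞) ≤ psi f F x₀ + k
    · exact ⟨_, he, fun w _ hw => exists_trd_bound f x₀ w hw⟩
    · obtain ⟨a, ha⟩ := ENat.ne_top_iff_exists.1 (ne_top_of_lt (not_le.1 he))
      refine ⟨a, ha.le, fun w hw hwx => ?_⟩
      have := h₀ w hw hwx
      rw [← ha] at this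
      exact_mod_cast this
  refine ⟨{x | ∀ w ∈ CohB1.support F, FG f x w → trd f w + 0 ≤ a} ∩
    {x | x ∈ U₀ ∧ ((a - k : ℕ) : ℕ∞) ≤ psi f F x}, ?_,
    (isOpen_trd_add_le f (Basic.isClosed_support F) 0 a).inter (isOpen_le_psi f F hfp U₀ hflat _),
    fun w hw hwx => hb w hw hwx, hx₀, ?_⟩
  · rintro x ⟨h1, h2, h3⟩
    refine ⟨h2, fun w hw hwx => ?_⟩
    have := h1 w hw hwx
    calc (trd f w : ℕ∞) ≤ (((a - k) + k : ℕ) : ℕ∞) := by exact_mod_cast (by omega : trd f w ≤ a - k + k)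
      _ ≤ psi f F x + k := by push_cast; exact add_le_add h3 le_rfl
  · rcases eq_or_ne (psi f F x₀) ⊤ with h | h
    · rw [h]; exact le_top
    obtain ⟨p, hp⟩ := ENat.ne_top_iff_exists.1 h
    rw [← hp] at ha ⊢
    have : a ≤ p + k := by exact_mod_cast ha
    exact_mod_cast (by omega : a - k ≤ p)

theorem isOpen_sk (k : ℕ) : IsOpen {x : X | x ∈ U₀ ∧ Sk f F k x} := by
  haveI := hfp
  rw [isOpen_iff_forall_mem_open]
  rintro x₀ ⟨hx₀, h₀⟩
  let T : ℕ → Set X := fun j =>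
    ({x | x ∈ U₀ ∧ ((j + 1 : ℕ) : ℕ∞) ≤ psi f F x} ∪ {x | x ∈ U₀ ∧ Cop f F 0 x})ᶜ
  have hT : ∀ j, IsClosed (T j) := fun j =>
    ((isOpen_le_psi f F hfp U₀ hflat _).union (isOpen_cop f F hfp U₀ hflat 0)).isClosed_compl
  let e := fe f x₀
  refine ⟨(U₀ : Set X) ∩ {x | ∀ w, FG f x w → trd f w ≤ e} ∩
    ⋂ j ∈ Finset.range (e + k), {x | ∀ w ∈ T j, FG f x w → trd f w + k ≤ j}, ?_,
    (U₀.2.inter (isOpen_trd_le f e)).inter
      (isOpen_biInter_finset fun j _ => isOpen_trd_add_le f (hT j) k j),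
    ⟨hx₀, exists_trd_bound f x₀⟩, ?_⟩
  · rintro x ⟨⟨hx, he⟩, hj⟩
    refine ⟨hx, fun w hw hd => by_contra fun hc => ?_⟩
    have hwU : w ∈ U₀ := hw.2.mem_open U₀.2 hx
    obtain ⟨d, hd'⟩ := ENat.ne_top_iff_exists.1 (ne_top_of_lt hd)
    have hdk : d < k := by rw [← hd'] at hd; exact_mod_cast hd
    have hj' := Set.mem_iInter₂.1 hj (d + trd f w) (Finset.mem_range.2 (by have := he w hw; omega)) w
      (by
        rintro (⟨-, h⟩ | ⟨-, h⟩)
        · rw [psi, ← hd'] at h
          have : d + trd f w + 1 ≤ d + trd f w := by exact_mod_cast h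
          omega
        · exact hc h) hw
    omega
  · refine Set.mem_iInter₂.2 fun j _ w hwT hw => ?_
    have hwU : w ∈ U₀ := hw.2.mem_open U₀.2 hx₀
    have h1 : ¬ ((j + 1 : ℕ) : ℕ∞) ≤ psi f F w := fun h => hwT (Or.inl ⟨hwU, h⟩)
    have h2 : ¬ Cop f F 0 w := fun h => hwT (Or.inr ⟨hwU, h⟩)
    have h3 : (k : ℕ∞) ≤ CInt.fiberDepth f F w := not_lt.1 fun h => h2 (h₀ w hw h)
    obtain ⟨p, hp⟩ := ENat.ne_top_iff_exists.1 (ne_top_of_lt (not_le.1 h1))
    have h4 : (k : ℕ∞) + trd f w ≤ psi f F w := add_le_add h3 le_rfl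
    rw [← hp] at h1 h4
    have h5 : k + trd f w ≤ p := by exact_mod_cast h4
    have h6 : ¬ j + 1 ≤ p := fun h => h1 (by exact_mod_cast h)
    omega

omit hfp hflat

/-- The dimensions of the associated cycles through `x`. -/
def AssDims (Φ : Set ℕ) (x : X) : Prop :=
  ∀ w, FG f x w → CInt.fiberDepth f F w = 0 → trd f w ∈ Φ

include hfp hflat

theorem isOpen_assDims (Φ : Set ℕ) : IsOpen {x : X | x ∈ U₀ ∧ AssDims f F Φ x} := by
  classical
  haveI := hfp
  rw [isOpen_iff_forall_mem_open]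
  rintro x₀ ⟨hx₀, h₀⟩
  let T : ℕ → Set X := fun d => {x | x ∈ U₀ ∧ ((d + 1 : ℕ) : ℕ∞) ≤ psi f F x}ᶜ
  let e := fe f x₀
  refine ⟨(U₀ : Set X) ∩ {x | ∀ w, FG f x w → trd f w ≤ e} ∩
    ⋂ d ∈ (Finset.range (e + 1)).filter (· ∉ Φ), {x | ∀ w ∈ T d, FG f x w → trd f w + 1 ≤ d}, ?_,
    (U₀.2.inter (isOpen_trd_le f e)).inter
      (isOpen_biInter_finset fun d _ =>
        isOpen_trd_add_le f (isOpen_le_psi f F hfp U₀ hflat _).isClosed_compl 1 d),
    ⟨hx₀, exists_trd_bound f x₀⟩, ?_⟩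
  · rintro x ⟨⟨hx, he⟩, hd⟩
    refine ⟨hx, fun w hw h0 => by_contra fun hΦ => ?_⟩
    have := Set.mem_iInter₂.1 hd (trd f w)
      (Finset.mem_filter.2 ⟨Finset.mem_range.2 (by have := he w hw; omega), hΦ⟩) w (by
        rintro ⟨-, h⟩
        rw [psi, h0, zero_add] at h
        have : trd f w + 1 ≤ trd f w := by exact_mod_cast h
        omega) hw
    omega
  · refine Set.mem_iInter₂.2 fun d hd w hwT hw => ?_
    have hdΦ := (Finset.mem_filter.1 hd).2
    have h1 : ¬ ((d + 1 : ℕ) : ℕ∞) ≤ psi f F w := fun h => hwT ⟨hw.2.mem_open U₀.2 hx₀, h⟩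
    obtain ⟨p, hp⟩ := ENat.ne_top_iff_exists.1 (ne_top_of_lt (not_le.1 h1))
    have hp1 : ¬ d + 1 ≤ p := fun h => h1 (by rw [← hp]; exact_mod_cast h)
    obtain ⟨δ, hδ⟩ := ENat.ne_top_iff_exists.1 (show CInt.fiberDepth f F w ≠ ⊤ from fun h => by
      rw [psi, h, top_add] at hp; exact ENat.natCast_ne_top p hp)
    rw [psi, ← hδ] at hp
    have hp2 : p = δ + trd f w := by exact_mod_cast hp
    by_contra hlt
    have hd' : trd f w = d := by omega
    exact hdΦ (hd' ▸ h₀ w hw (by rw [← hδ, show δ = 0 by omega]; rfl))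

omit hfp hflat

variable [F.IsQuasicoherent] [SheafOfModules.IsFiniteType (R := X.ringCatSheaf) F]

/-- No embedded associated cycle through `x` is `(S₁)`. -/
theorem sk_one_iff (x : X) :
    Sk f F 1 x ↔ ∀ w, FG f x w → CInt.fiberDepth f F w = 0 →
      ∀ w', FG f w w' → CInt.fiberDepth f F w' = 0 → w' = w := by
  constructor
  · intro h w hw h0 w' hw' h0'
    have hc := h w hw (by rw [h0]; exact_mod_cast one_pos) w'
      (by_contra fun hn => by
        rw [(fiberDepth_eq_top_iff f F w').2 hn] at h0'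
        exact ENat.top_ne_zero h0') hw'
    simp only [psi, h0, zero_add, Nat.cast_zero, add_zero, Nat.cast_le] at hc
    exact eq_of_trd_le f hw'.2 hw'.1 hc
  · intro h w hw h1 w' hw'S hw'
    have h0 : CInt.fiberDepth f F w = 0 := ENat.lt_one_iff_eq_zero.1 (by simpa using h1)
    obtain ⟨w'', hw'', h0''⟩ := exists_ass f F hw'S
    have := h w hw h0 w'' ⟨hw''.1.trans hw'.1, hw''.2.trans hw'.2⟩ h0''
    have h2 := trd_le f hw''.2 hw''.1
    subst this
    simp only [psi, h0, zero_add, Nat.cast_zero, add_zero, Nat.cast_le]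
    exact h2

/-- Serre's condition on a fibre stalk, read in the total space. -/
theorem hasSk_iff (y : S) (a : f.fiber y) (k : ℕ) :
    LocCoh.HasSk k ((f.fiber y).presheaf.stalk a) ((fm f F y).presheaf.stalk a) ↔
      Sk f F k (f.fiberι y a) := by
  haveI := isQuasicoherent_fm f F y
  have key : ∀ b : f.fiber y,
      (min (k : WithBot ℕ∞) (Module.supportDim ((f.fiber y).presheaf.stalk b) ((fm f F y).presheaf.stalk b)) ≤
        ((LocCoh.depth ((f.fiber y).presheaf.stalk b) ((fm f F y).presheaf.stalk b) : ℕ∞) : WithBot ℕ∞)) ↔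
        (CInt.fiberDepth f F (f.fiberι y b) < k → Cop f F 0 (f.fiberι y b)) := by
    intro b
    rw [← cop_iff, ← Chart.fiberDepth_eq f F y b, Nat.cast_zero, add_zero, min_le_iff]
    constructor
    · rintro (h | h) hd
      · exact absurd (WithBot.coe_le_coe.1 h) (not_le.2 hd)
      · exact h
    · intro h
      exact (le_or_gt _ _).imp (fun h' => WithBot.coe_le_coe.2 h') h
  constructor
  · intro h w hw
    obtain ⟨b, rfl, hb⟩ := fg_exists f hw
    let P := Lib.Cyc.DimFun.genPrime a b hb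
    have h1 := h P.asIdeal
    rw [(LocStalk.depth_supportDim_stalk (fm f F y) a P).1,
      (LocStalk.depth_supportDim_stalk (fm f F y) a P).2,
      Lib.Cyc.DimFun.fromSpecStalk_genPrime] at h1
    exact (key b).1 h1
  · intro h p hp
    have h1 := (key _).2 (h _ ((fg_fiberι f).2
      (Lib.Cyc.DimFun.fromSpecStalk_specializes_self a ⟨p, hp⟩)))
    rw [← (LocStalk.depth_supportDim_stalk (fm f F y) a ⟨p, hp⟩).1,
      ← (LocStalk.depth_supportDim_stalk (fm f F y) a ⟨p, hp⟩).2] at h1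
    exact h1

/-- Zero or Cohen–Macaulay is codepth zero. -/
theorem isZeroOrCM_iff (y : S) (a : f.fiber y) :
    (Subsingleton ((fm f F y).presheaf.stalk a) ∨
      LocCoh.IsCohenMacaulayModule ((f.fiber y).presheaf.stalk a) ((fm f F y).presheaf.stalk a)) ↔
    Module.supportDim ((f.fiber y).presheaf.stalk a) ((fm f F y).presheaf.stalk a) ≤
      ((LocCoh.depth ((f.fiber y).presheaf.stalk a) ((fm f F y).presheaf.stalk a) : ℕ∞) :
        WithBot ℕ∞) := by
  haveI := QFin.isLocallyNoetherian_fiber f y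
  haveI := finite_stalk_fm f F y a
  constructor
  · rintro (h | h)
    · rw [Module.supportDim_eq_bot_of_subsingleton]; exact bot_le
    · exact h.le
  · intro h
    rcases subsingleton_or_nontrivial ((fm f F y).presheaf.stalk a) with hs | hs
    · exact Or.inl hs
    · exact Or.inr (le_antisymm h (Depth.Assoc.depth_le_supportDim _))

end Groth.Agent.H46.FibreProf.Open
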