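import Groth.Agent.H46.FibreProf.ConsPD
import Groth.Agent.H46.FibreProf.Open
import Groth.Agent.H47.ConsPreimage
import Groth.Agent.H69.RelDimLocus
import Groth.Agent.Lib.Modules.AffineSections
import Groth.Agent.Lib.ProCons45.Basic
import Groth.Agent.H14.IsoNat.TrivLocus

/-!
# The fibre conditions of a flat module are locally constructible
-/

set_option autoImplicit false
set_option linter.style.haveILetI false

universe u

open CategoryTheory AlgebraicGeometry IsLocalRing TensorProduct Topology
open Groth.Agent.H22.FibrePD Groth.Agent.H46.FibreTrdeg Groth.Agent.H46.DimData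
open Groth.Agent.H46.FibreProf.Basic Groth.Agent.H46.FibreProf.Open

namespace Groth.Agent.H46.FibreProf.Cons

open Groth.Agent.Lib

section alg

variable (A : Type u) [CommRing A] (N : ℕ) (M : Type u) [AddCommGroup M]
  [Module (MvPolynomial (Fin N) A) M] [Module A M]
  [IsScalarTower A (MvPolynomial (Fin N) A) M] [Module.FinitePresentation (MvPolynomial (Fin N) A) M]
  [Module.Flat A M]

/-- The set where the depth of the fibre module is within `c` of the dimension of the ambient fibre
ring is open. -/
theorem isConstructible_le_depth_add (c : ℕ) :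
    IsConstructible {P : PrimeSpectrum (MvPolynomial (Fin N) A) |
      haveI := Alg.isRegularLocalRing_fq A N P
      ringKrullDim (Fq A (MvPolynomial (Fin N) A) P) ≤
        ((LocCoh.depth (Fq A (MvPolynomial (Fin N) A) P) (FM A (MvPolynomial (Fin N) A) M P) + c : ℕ∞) :
          WithBot ℕ∞)} := by
  convert ConsPD.isConstructible_lt_succ A N c M using 1
  ext P
  haveI := Alg.isRegularLocalRing_fq A N P
  haveI : Module.Finite (Fq A (MvPolynomial (Fin N) A) P) (FM A (MvPolynomial (Fin N) A) M P) :=
    inferInstance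
  simp only [Set.mem_ofPred_eq]
  rcases subsingleton_or_nontrivial (FM A (MvPolynomial (Fin N) A) M P) with hs | hs
  · refine iff_of_true ?_ ?_
    · rw [show LocCoh.depth (Fq A (MvPolynomial (Fin N) A) P) (FM A (MvPolynomial (Fin N) A) M P) = ⊤
        from if_pos (Subsingleton.elim _ _)]
      simp
    · haveI : HasProjectiveDimensionLT (ModuleCat.of (Fq A (MvPolynomial (Fin N) A) P)
          (FM A (MvPolynomial (Fin N) A) M P)) 0 := by
        rw [hasProjectiveDimensionLT_zero_iff_isZero, ModuleCat.isZero_iff_subsingleton]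
        exact hs
      exact hasProjectiveDimensionLT_of_ge _ 0 (c + 1) (Nat.zero_le _)
  · rw [← IsRegularLocalRing.spanFinrank_maximalIdeal (R := Fq A (MvPolynomial (Fin N) A) P)]
    exact WithBot.coe_le_coe.trans (H20.PDDepth.pdle_iff_le_depth_add
      (FM A (MvPolynomial (Fin N) A) M P) c).symm

end alg

/-- Local constructibility can be checked on affine charts. -/
theorem isLocallyConstructible_of_charts {X : Scheme.{u}} {s : Set X}
    (h : ∀ x, ∃ (U : X.Opens) (hU : IsAffineOpen U), x ∈ U ∧ IsConstructible (hU.fromSpec ⁻¹' s)) :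
    IsLocallyConstructible s := by
  choose U hU hx hc using h
  refine IsLocallyConstructible.of_isOpenCover (U := U)
    (TopologicalSpace.IsOpenCover.mk (eq_top_iff.2 fun x _ => TopologicalSpace.Opens.mem_iSup.2 ⟨x, hx x⟩))
    fun i => ?_
  have h := H47.ConsPreimage.isLocallyConstructible_preimage (hU i).isoSpec.hom
    (hc i).isLocallyConstructible
  rw [← Set.preimage_comp] at h
  have e : ((hU i).fromSpec ∘ (hU i).isoSpec.hom : ↥(U i : Scheme) → X) = (U i).ι := by
    funext z
    rw [Function.comp_apply, ← Scheme.Hom.comp_apply, IsAffineOpen.fromSpec, Iso.hom_inv_id_assoc]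
  rw [e] at h
  exact h

/-- Constructibility on a chart of a locally constructible set. -/
theorem isConstructible_chart {X : Scheme.{u}} {s : Set X} (hs : IsLocallyConstructible s)
    {U : X.Opens} (hU : IsAffineOpen U) : IsConstructible (hU.fromSpec ⁻¹' s) :=
  (H47.ConsPreimage.isLocallyConstructible_preimage hU.fromSpec hs).isConstructible

variable {X S : Scheme.{u}} (f : X ⟶ S) [LocallyOfFinitePresentation f] (F : X.Modules)
  (hfp : CohB1.IsFP F) (hflat : FlatMod.IsFlatOver f F)

include hfp hflat

/-- On a chart the rectified depth has constructible level sets. -/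
theorem isLocallyConstructible_le_psi (n : ℕ) :
    IsLocallyConstructible {x : X | (n : ℕ∞) ≤ psi f F x} := by
  haveI := hfp
  haveI := H26.FreeCrit.isQuasicoherent_of_isFP hfp
  refine isLocallyConstructible_of_charts fun x₀ => ?_
  obtain ⟨V, hV, hxV, -⟩ := exists_isAffineOpen_mem_and_subset (X := S) (x := f x₀) (U := ⊤) trivial
  obtain ⟨U, hU, hxU, hUle, hFP⟩ := Lib.Flat55.QCohFP.exists_affine_le F x₀ (f ⁻¹ᵁ V) hxV
  have hUV : U ≤ f ⁻¹ᵁ V := hUle
  refine ⟨U, hU, hxU, ?_⟩
  let A := Γ(S, V)
  let R := Γ(X, U)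
  letI : Algebra A R := (f.appLE V U hUV).hom.toAlgebra
  haveI : Algebra.FinitePresentation A R :=
    HasRingHomProperty.appLE @LocallyOfFinitePresentation f inferInstance ⟨V, hV⟩ ⟨U, hU⟩ hUV
  haveI hft : Algebra.FiniteType A R := inferInstance
  obtain ⟨N, π, hπ⟩ := Algebra.FiniteType.iff_quotient_mvPolynomial''.1 hft
  let B := MvPolynomial (Fin N) A
  letI : Algebra B R := π.toRingHom.toAlgebra
  haveI : Module.FinitePresentation B R := Module.finitePresentation_of_surjective
    (Algebra.linearMap B R) hπ (Algebra.FinitePresentation.ker_fG_of_surjective π hπ)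
  letI : Module B Γ(F, U) := Module.compHom _ π.toRingHom
  haveI : IsScalarTower B R Γ(F, U) := IsScalarTower.of_algebraMap_smul fun _ _ => rfl
  haveI : Module.FinitePresentation B Γ(F, U) := Module.FinitePresentation.trans B Γ(F, U) R
  letI : Module A Γ(F, U) := Module.compHom _ (algebraMap A R)
  haveI : IsScalarTower A R Γ(F, U) := IsScalarTower.of_algebraMap_smul fun _ _ => rfl
  haveI : IsScalarTower A B Γ(F, U) := IsScalarTower.of_algebraMap_smul fun c m => by
    show π (algebraMap A B c) • m = _
    rw [π.commutes]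
    rfl
  haveI : Module.Flat A Γ(F, U) :=
    Chart.flat_sections f F hV hU hUV (fun z _ => hflat z) rfl
  have hπA : π.toRingHom.comp (algebraMap A B) = (f.appLE V U hUV).hom := π.comp_algebraMap
  let M := Γ(F, U)
  let G : Set (PrimeSpectrum B) := if n ≤ N then
    {P | haveI := Alg.isRegularLocalRing_fq A N P
         ringKrullDim (Fq A B P) ≤ ((LocCoh.depth (Fq A B P) (FM A B M P) + ((N - n : ℕ) : ℕ∞) : ℕ∞) : WithBot ℕ∞)}
    else (Module.support B M)ᶜ
  have hG : IsConstructible G := by
    show IsConstructible (if n ≤ N then _ else _)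
    split
    · exact isConstructible_le_depth_add A N M (N - n)
    · exact (H47.UnramLocus.isConstructible_support M).compl
  have key : ∀ (x : X) (hx : x ∈ U),
      (n : ℕ∞) ≤ CInt.fiberDepth f F x + trd f x ↔ Transfer.pt hU π.toRingHom hx ∈ G := by
    intro x hx
    obtain ⟨D, hD, hDN⟩ := Chart.dim_fq_add_trd f hV hU hUV N π.toRingHom hπ hπA hx
    have hx' : f.fiberι (f x) (f.asFiber x) ∈ U := by rw [f.fiberι_asFiber]; exact hx
    obtain ⟨h1, -⟩ := Transfer.depth_eq hV hU hUV π.toRingHom hπ hπA F (fun b m => rfl) (f x)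
      (f.asFiber x) hx'
    have hpt : Transfer.pt hU π.toRingHom hx' = Transfer.pt hU π.toRingHom hx := by
      simp only [Transfer.pt, f.fiberι_asFiber]
    rw [hpt, Chart.fiberDepth_eq, f.fiberι_asFiber] at h1
    rw [h1]
    haveI := Alg.isRegularLocalRing_fq A N (Transfer.pt hU π.toRingHom hx)
    rcases subsingleton_or_nontrivial (FM A B M (Transfer.pt hU π.toRingHom hx)) with hs | hs
    · rw [show LocCoh.depth (Fq A B (Transfer.pt hU π.toRingHom hx))
        (FM A B M (Transfer.pt hU π.toRingHom hx)) = ⊤ from if_pos (Subsingleton.elim _ _)]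
      simp only [top_add, le_top, true_iff]
      show _ ∈ if n ≤ N then _ else _
      split
      · show ringKrullDim _ ≤ ((LocCoh.depth _ (FM A B M _) + _ : ℕ∞) : WithBot ℕ∞)
        rw [show LocCoh.depth (Fq A B (Transfer.pt hU π.toRingHom hx))
          (FM A B M (Transfer.pt hU π.toRingHom hx)) = ⊤ from if_pos (Subsingleton.elim _ _)]
        simp
      · exact (subsingleton_iff A B M _).1 hs
    · have hle := Alg.depth_le_dim A N M (Transfer.pt hU π.toRingHom hx)
      rw [hD] at hle
      obtain ⟨j, hj⟩ := ENat.ne_top_iff_exists.mp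
        (show LocCoh.depth (Fq A B (Transfer.pt hU π.toRingHom hx))
          (FM A B M (Transfer.pt hU π.toRingHom hx)) ≠ ⊤ from fun h => by
            rw [h] at hle
            exact ENat.natCast_ne_top D (top_le_iff.1 (WithBot.coe_le_coe.1 hle)))
      rw [← hj] at hle ⊢
      have hjD : j ≤ D := by exact_mod_cast hle
      show ((n : ℕ) : ℕ∞) ≤ (j : ℕ∞) + (trd f x : ℕ∞) ↔ _ ∈ if n ≤ N then _ else _
      split
      · show _ ↔ ringKrullDim _ ≤ ((LocCoh.depth _ (FM A B M _) + _ : ℕ∞) : WithBot ℕ∞)
        rw [hD, ← hj]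
        norm_cast
        omega
      · rename_i hnN
        refine iff_of_false ?_ ?_
        · norm_cast
          omega
        · intro hsupp
          exact (not_subsingleton_iff_nontrivial.2 hs) ((subsingleton_iff A B M _).2 hsupp)
  convert H47.ConsPreimage.isConstructible_preimage_affine
    (X := Spec Γ(X, U)) (Y := Spec (CommRingCat.of (MvPolynomial (Fin N) A)))
    (Spec.map (CommRingCat.ofHom π.toRingHom)) hG using 1
  ext q
  have hqU : hU.fromSpec q ∈ U := by
    have := Set.mem_range_self (f := hU.fromSpec) q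
    rwa [hU.range_fromSpec] at this
  have hqq : hU.primeIdealOf ⟨hU.fromSpec q, hqU⟩ = q :=
    hU.fromSpec.isOpenEmbedding.injective (hU.fromSpec_primeIdealOf ⟨_, hqU⟩)
  refine (key _ hqU).trans ?_
  rw [Transfer.pt, hqq]
  rfl

end Groth.Agent.H46.FibreProf.Cons
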