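import Groth.Agent.H46.FibreProf.Cons
import Groth.Agent.H46.FibreProf.Along

/-!
# The derived fibre conditions of a flat module are locally constructible
-/

set_option autoImplicit false
set_option linter.style.haveILetI false

universe u

open CategoryTheory AlgebraicGeometry IsLocalRing Topology
open Groth.Agent.H46.FibreTrdeg Groth.Agent.H46.DimData Groth.Agent.H46.FibreProf.Basic
open Groth.Agent.H46.FibreProf.Open

namespace Groth.Agent.H46.FibreProf.Cons

open Groth.Agent.Lib
open Groth.Agent.Lib.ProCons45.Basic (isLocallyConstructible_compl)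

variable {X S : Scheme.{u}} (f : X ⟶ S) [LocallyOfFinitePresentation f]

theorem exists_bound_on (U : X.Opens) (hU : IsAffineOpen U) :
    ∃ e : ℕ, ∀ x ∈ U, ∀ w, FG f x w → trd f w ≤ e := by
  obtain ⟨e, he⟩ := hU.isCompact.elim_directed_cover
    (fun e : ℕ => {x : X | ∀ w, FG f x w → trd f w ≤ e}) (fun e => isOpen_trd_le f e)
    (fun x _ => Set.mem_iUnion.2 ⟨_, exists_trd_bound f x⟩)
    (fun a b => ⟨max a b, fun x hx w hw => (hx w hw).trans (le_max_left _ _),
      fun x hx w hw => (hx w hw).trans (le_max_right _ _)⟩)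
  exact ⟨e, fun x hx => he hx⟩

/-- Sets agreeing with a locally constructible set near every point. -/
theorem isLocallyConstructible_of_local {s : Set X}
    (h : ∀ x, ∀ (U : X.Opens), IsAffineOpen U → x ∈ U →
      ∃ t, IsLocallyConstructible t ∧ ∀ y ∈ U, (y ∈ s ↔ y ∈ t)) : IsLocallyConstructible s := by
  refine isLocallyConstructible_of_charts fun x => ?_
  obtain ⟨U, hU, hxU, -⟩ := exists_isAffineOpen_mem_and_subset (X := X) (x := x) (U := ⊤) trivial
  obtain ⟨t, ht, heq⟩ := h x U hU hxU
  refine ⟨U, hU, hxU, ?_⟩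
  convert isConstructible_chart ht hU using 1
  ext q
  exact heq _ (by
    have := Set.mem_range_self (f := hU.fromSpec) q
    rwa [hU.range_fromSpec] at this)

/-- The engine, constructible version. -/
theorem isLocallyConstructible_trd_add_le {T : Set X} (hT : IsClosed T)
    (hTc : IsLocallyConstructible T) (k j : ℕ) :
    IsLocallyConstructible {x : X | ∀ w ∈ T, FG f x w → trd f w + k ≤ j} := by
  by_cases hkj : k ≤ j
  swap
  · convert isLocallyConstructible_compl hTc using 1
    ext x
    exact ⟨fun h hx => hkj (le_trans le_add_self (h x hx (fg_self f x))),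
      fun hx w hw hwx => absurd (hwx.2.mem_closed hT hw) hx⟩
  refine isLocallyConstructible_of_charts fun x₀ => ?_
  obtain ⟨U, hU, hxU, -⟩ := exists_isAffineOpen_mem_and_subset (X := X) (x := x₀) (U := ⊤) trivial
  refine ⟨U, hU, hxU, ?_⟩
  let R := Γ(X, U)
  let C : Set (PrimeSpectrum R) := hU.fromSpec ⁻¹' T
  have hC : IsConstructible C := isConstructible_chart hTc hU
  obtain ⟨I, hI, he⟩ := PrimeSpectrum.isCompact_isOpen_iff_ideal.1
    ⟨H14.IsoNat.TrivLocus.isCompact_of_isConstructible hC.compl,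
      (hT.preimage hU.fromSpec.continuous).isOpen_compl⟩
  let g : Spec (CommRingCat.of (R ⧸ I)) ⟶ Spec R := Spec.map (CommRingCat.ofHom (Ideal.Quotient.mk I))
  haveI : IsClosedImmersion g := IsClosedImmersion.spec_of_surjective _ Ideal.Quotient.mk_surjective
  have hgfp : (Ideal.Quotient.mk I).FinitePresentation :=
    RingHom.FinitePresentation.of_surjective _ Ideal.Quotient.mk_surjective (by rwa [Ideal.mk_ker])
  haveI : LocallyOfFinitePresentation g :=
    (HasRingHomProperty.Spec_iff (P := @LocallyOfFinitePresentation)).2 hgfp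
  haveI : IsOpenImmersion hU.fromSpec := hU.isOpenImmersion_fromSpec
  let i := g ≫ hU.fromSpec
  have hmemU : ∀ q : ↥(Spec R), hU.fromSpec q ∈ U := fun q => by
    have := Set.mem_range_self (f := hU.fromSpec) q
    rwa [hU.range_fromSpec] at this
  have hrg : Set.range g = C := by
    rw [← compl_compl C, ← he, compl_compl]
    show Set.range (PrimeSpectrum.comap (Ideal.Quotient.mk I)) = _
    rw [range_comap_of_surjective _ _ Ideal.Quotient.mk_surjective, Ideal.mk_ker]
  have hri : ∀ w, w ∈ Set.range i ↔ w ∈ T ∧ w ∈ U := by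
    intro w
    constructor
    · rintro ⟨v, rfl⟩
      exact ⟨(hrg.subset (Set.mem_range_self v) : g v ∈ C), hmemU _⟩
    · rintro ⟨hw, hwU⟩
      obtain ⟨q, rfl⟩ := hU.range_fromSpec.ge hwU
      obtain ⟨v, rfl⟩ := hrg.ge (show q ∈ C from hw)
      exact ⟨v, rfl⟩
  have hbad := isLocallyConstructible_compl
    (H69.RelDimLocus.isLocallyConstructible_setOf_fibreDimAt_le (i ≫ f) (j - k))
  have hc := (isLocallyConstructible_compl (g.isLocallyConstructible_image hbad)).isConstructible
  convert hc using 1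
  ext q
  constructor
  · rintro h ⟨v, hv, rfl⟩
    refine hv ((fibreDimAt_comp_le_iff f i v _).2 fun ξ hξ h1 h2 => ?_)
    have := h ξ ((hri ξ).1 hξ).1 ⟨h1, h2⟩
    omega
  · intro hq w hw hwx
    obtain ⟨v, rfl⟩ : q ∈ Set.range g := hrg.ge (show q ∈ C from hwx.2.mem_closed hT hw)
    have hwU : w ∈ U := hwx.2.mem_open U.2 (hmemU _)
    have hv : FlatMor.fibreDimAt (i ≫ f) v ≤ ((j - k : ℕ) : WithBot ℕ∞) :=
      by_contra fun hv => hq ⟨v, hv, rfl⟩
    have := (fibreDimAt_comp_le_iff f i v _).1 hv w ((hri w).2 ⟨hw, hwU⟩) hwx.1 hwx.2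
    omega

theorem isLocallyConstructible_support (F : X.Modules) (hfp : CohB1.IsFP F) :
    IsLocallyConstructible (CohB1.support F) := by
  haveI := hfp
  haveI := H26.FreeCrit.isQuasicoherent_of_isFP hfp
  refine isLocallyConstructible_of_charts fun x₀ => ?_
  obtain ⟨U, hU, hxU, -⟩ := exists_isAffineOpen_mem_and_subset (X := X) (x := x₀) (U := ⊤) trivial
  refine ⟨U, hU, hxU, ?_⟩
  haveI := Modules.AffineSections.finitePresentation_sections hfp hU
  have hqU : ∀ q : PrimeSpectrum Γ(X, U), hU.fromSpec q ∈ U := fun q => by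
    have := Set.mem_range_self (f := hU.fromSpec) q
    rwa [hU.range_fromSpec] at this
  rw [show hU.fromSpec ⁻¹' CohB1.support F = Module.support Γ(X, U) Γ(F, U) from
    Set.ext fun q => by
      have hqq : hU.primeIdealOf ⟨hU.fromSpec q, hqU q⟩ = q :=
        hU.fromSpec.isOpenEmbedding.injective (hU.fromSpec_primeIdealOf ⟨_, hqU q⟩)
      show hU.fromSpec q ∈ CohB1.support F ↔ _
      rw [← Modules.SupportOps.primeIdealOf_mem_support_iff F hU (hqU q), hqq]; rfl]
  exact H47.UnramLocus.isConstructible_support _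

variable (F : X.Modules) (hfp : CohB1.IsFP F) (hflat : FlatMod.IsFlatOver f F)

include hfp hflat

theorem isLocallyConstructible_cop (k : ℕ) : IsLocallyConstructible {x : X | Cop f F k x} := by
  haveI := hfp
  refine isLocallyConstructible_of_local fun x₀ U hU hxU => ?_
  obtain ⟨e, he⟩ := exists_bound_on f U hU
  refine ⟨⋃ a : Fin (e + 1), {x | ∀ w ∈ CohB1.support F, FG f x w → trd f w + 0 ≤ a} ∩
      {x | ((a - k : ℕ) : ℕ∞) ≤ psi f F x},
    IsLocallyConstructible.iUnion fun a => (isLocallyConstructible_trd_add_le f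
      (Basic.isClosed_support F) (isLocallyConstructible_support F hfp) 0 a).inter
        (isLocallyConstructible_le_psi f F hfp hflat _), fun x hx => ?_⟩
  simp only [Set.mem_iUnion, Set.mem_inter_iff]
  constructor
  · intro h
    by_cases hek : ((e - k : ℕ) : ℕ∞) ≤ psi f F x
    · exact ⟨⟨e, by omega⟩, fun w _ hw => by simpa using he x hx w hw, hek⟩
    · obtain ⟨p, hp⟩ := ENat.ne_top_iff_exists.1 (ne_top_of_lt (not_le.1 hek))
      rw [← hp] at hek
      have hpe : ¬ e - k ≤ p := fun h' => hek (by exact_mod_cast h')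
      refine ⟨⟨p + k, by omega⟩, fun w hwS hw => ?_, ?_⟩
      · have := h w hwS hw
        rw [← hp] at this
        simpa using (show trd f w ≤ p + k by exact_mod_cast this)
      · show ((p + k - k : ℕ) : ℕ∞) ≤ psi f F x
        rw [← hp, Nat.add_sub_cancel]
  · rintro ⟨a, h1, h2⟩ w hwS hw
    have := h1 w hwS hw
    calc (trd f w : ℕ∞) ≤ ((((a : ℕ) - k) + k : ℕ) : ℕ∞) := by
          exact_mod_cast (by omega : trd f w ≤ (a : ℕ) - k + k)
      _ ≤ psi f F x + k := by push_cast; exact add_le_add h2 le_rfl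

theorem isLocallyConstructible_sk (k : ℕ) : IsLocallyConstructible {x : X | Sk f F k x} := by
  haveI := hfp
  refine isLocallyConstructible_of_local fun x₀ U hU hxU => ?_
  obtain ⟨e, he⟩ := exists_bound_on f U hU
  let T : ℕ → Set X := fun j => ({x | ((j + 1 : ℕ) : ℕ∞) ≤ psi f F x} ∪ {x | Cop f F 0 x})ᶜ
  have hTc : ∀ j, IsClosed (T j) := fun j => by
    have h1 := isOpen_le_psi f F hfp ⊤ (fun x _ => hflat x) (j + 1)
    have h2 := isOpen_cop f F hfp ⊤ (fun x _ => hflat x) 0
    simp only [TopologicalSpace.Opens.mem_top, true_and] at h1 h2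
    exact (h1.union h2).isClosed_compl
  refine ⟨⋂ j : Fin (e + k), {x | ∀ w ∈ T j, FG f x w → trd f w + k ≤ j},
    IsLocallyConstructible.iInter fun j => isLocallyConstructible_trd_add_le f (hTc j)
      (isLocallyConstructible_compl ((isLocallyConstructible_le_psi f F hfp hflat _).union
        (isLocallyConstructible_cop f F hfp hflat 0))) k j, fun x hx => ?_⟩
  simp only [Set.mem_iInter]
  constructor
  · intro h j w hwT hw
    have h1 : ¬ (((j : ℕ) + 1 : ℕ) : ℕ∞) ≤ psi f F w := fun h => hwT (Or.inl h)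
    have h2 : ¬ Cop f F 0 w := fun h => hwT (Or.inr h)
    have h3 : (k : ℕ∞) ≤ CInt.fiberDepth f F w := not_lt.1 fun h' => h2 (h w hw h')
    obtain ⟨p, hp⟩ := ENat.ne_top_iff_exists.1 (ne_top_of_lt (not_le.1 h1))
    have h4 : (k : ℕ∞) + trd f w ≤ psi f F w := add_le_add h3 le_rfl
    rw [← hp] at h1 h4
    have h5 : k + trd f w ≤ p := by exact_mod_cast h4
    have h6 : ¬ (j : ℕ) + 1 ≤ p := fun h => h1 (by exact_mod_cast h)
    omega
  · intro hj w hw hd
    refine by_contra fun hc => ?_
    obtain ⟨d, hd'⟩ := ENat.ne_top_iff_exists.1 (ne_top_of_lt hd)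
    have hdk : d < k := by rw [← hd'] at hd; exact_mod_cast hd
    have := hj ⟨d + trd f w, by have := he x hx w hw; omega⟩ w (by
      rintro (h | h)
      · simp only [Set.mem_setOf_eq, psi, ← hd'] at h
        have : d + trd f w + 1 ≤ d + trd f w := by exact_mod_cast h
        omega
      · exact hc h) hw
    simp only at this
    omega

theorem isLocallyConstructible_le_along {Y : Set X} (hY : IsClosed Y)
    (hYc : IsLocallyConstructible Y) (n : ℕ) :
    IsLocallyConstructible {x : X | ∀ z ∈ Y, FG f x z → (n : ℕ∞) ≤ CInt.fiberDepth f F z} := by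
  refine isLocallyConstructible_of_local fun x₀ U hU hxU => ?_
  obtain ⟨e, he⟩ := exists_bound_on f U hU
  let T : ℕ → Set X := fun j => Y ∩ {x | ((j + 1 : ℕ) : ℕ∞) ≤ psi f F x}ᶜ
  have hTc : ∀ j, IsClosed (T j) := fun j => by
    have h1 := isOpen_le_psi f F hfp ⊤ (fun x _ => hflat x) (j + 1)
    simp only [TopologicalSpace.Opens.mem_top, true_and] at h1
    exact hY.inter h1.isClosed_compl
  refine ⟨⋂ j : Fin (e + n), {x | ∀ w ∈ T j, FG f x w → trd f w + n ≤ j},
    IsLocallyConstructible.iInter fun j => isLocallyConstructible_trd_add_le f (hTc j)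
      (hYc.inter (isLocallyConstructible_compl (isLocallyConstructible_le_psi f F hfp hflat _))) n j,
    fun x hx => ?_⟩
  simp only [Set.mem_iInter]
  constructor
  · intro h j w hwT hw
    have h1 : ¬ (((j : ℕ) + 1 : ℕ) : ℕ∞) ≤ psi f F w := hwT.2
    obtain ⟨p, hp⟩ := ENat.ne_top_iff_exists.1 (ne_top_of_lt (not_le.1 h1))
    have h4 : (n : ℕ∞) + trd f w ≤ psi f F w := add_le_add (h w hwT.1 hw) le_rfl
    rw [← hp] at h1 h4
    have h5 : n + trd f w ≤ p := by exact_mod_cast h4
    have h6 : ¬ (j : ℕ) + 1 ≤ p := fun h => h1 (by exact_mod_cast h)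
    omega
  · intro hj z hz hzx
    refine not_lt.1 fun hd => ?_
    obtain ⟨d, hd'⟩ := ENat.ne_top_iff_exists.1 (ne_top_of_lt hd)
    have hdn : d < n := by rw [← hd'] at hd; exact_mod_cast hd
    have := hj ⟨d + trd f z, by have := he x hx z hzx; omega⟩ z ⟨hz, by
      intro h
      simp only [Set.mem_setOf_eq, psi, ← hd'] at h
      have : d + trd f z + 1 ≤ d + trd f z := by exact_mod_cast h
      omega⟩ hzx
    simp only at this
    omega

end Groth.Agent.H46.FibreProf.Cons
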