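import Groth.Agent.H22.FibrePD
import Groth.Agent.H46.FibreProf.Transfer
import Groth.Agent.H25.FittingLoc
import Mathlib.Topology.Constructible

/-!
# The free locus of a flat module over a polynomial ring is constructible
-/

set_option autoImplicit false
set_option linter.style.haveILetI false

universe u

open IsLocalRing TensorProduct Topology
open Groth.Agent.H22.FibrePD Groth.Agent.H25.Fitting

namespace Groth.Agent.H46.FibreProf.ConsFree

theorem isConstructible_zeroLocus {R : Type u} [CommRing R] {I : Ideal R} (hI : I.FG) :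
    IsConstructible (PrimeSpectrum.zeroLocus (I : Set R)) := by
  rw [← compl_compl (PrimeSpectrum.zeroLocus _)]
  exact ((PrimeSpectrum.isRetrocompact_zeroLocus_compl_of_fg hI).isConstructible
    (PrimeSpectrum.isClosed_zeroLocus _).isOpen_compl).compl

theorem free_iff_fitting {T : Type u} [CommRing T] [IsLocalRing T] (M : Type u) [AddCommGroup M]
    [Module T M] [Module.Finite T M] {n : ℕ} (x : Fin n → M)
    (hx : Submodule.span T (Set.range x) = ⊤) :
    Module.Free T M ↔ ∃ r ≤ n, Fitt.ideal T M r = ⊤ ∧ (r = 0 ∨ Fitt.ideal T M (r - 1) = ⊥) := by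
  constructor
  · intro h
    let b := Module.finBasis T M
    refine ⟨Module.finrank T M, ?_, ideal_eq_top b b.span_eq le_rfl, ?_⟩
    · have h1 := finrank_range_le_card (R := T) x
      rw [show Set.finrank T (Set.range x) = Module.finrank T M by
        rw [Set.finrank, hx, finrank_top], Fintype.card_fin] at h1
      exact h1
    · rcases Nat.eq_zero_or_pos (Module.finrank T M) with h0 | h0
      · exact Or.inl h0
      · exact Or.inr (ideal_eq_bot_of_free (by omega))
  · rintro ⟨r, -, htop, hbot⟩
    obtain ⟨c, hc, g, hg⟩ := exists_span_of_not_le (k := r) (p := maximalIdeal T)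
      (R := T) (M := M) (fun h => (maximalIdeal.isMaximal T).ne_top (top_le_iff.1 (htop ▸ h)))
    have hcu : IsUnit c := by
      simpa [IsLocalRing.mem_maximalIdeal, mem_nonunits_iff] using hc
    have hspan : Submodule.span T (Set.range g) = ⊤ := eq_top_iff.2 fun y _ =>
      (Submodule.smul_mem_iff_of_isUnit _ hcu).1 (hg y)
    cases r with
    | zero =>
      have : Subsingleton M := subsingleton_of_forall_eq 0 fun y => by
        have : y ∈ Submodule.span T (Set.range g) := hspan ▸ Submodule.mem_top
        rwa [Set.range_eq_empty, Submodule.span_empty, Submodule.mem_bot] at this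
      infer_instance
    | succ r =>
      have hbot' : Fitt.ideal T M r = ⊥ := hbot.resolve_left (Nat.succ_ne_zero r)
      rw [ideal_eq g hspan, show r + 1 - r = 1 by omega] at hbot'
      have hli : LinearIndependent T g := Fintype.linearIndependent_iff.2 fun v hv i => by
        have h1 := det_mem_Mn (S := (rel (R := T) g : Set (Fin (r + 1) → T))) (fun _ : Fin 1 => v)
          (fun _ => i) (fun _ => mem_rel.2 hv)
        rw [hbot', Ideal.mem_bot] at h1
        simpa using h1
      exact Module.Free.of_basis (Module.Basis.mk hli hspan.ge)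

variable (A : Type u) [CommRing A] (N : ℕ)

/-- The primes over which an element vanishes on the fibre of affine space. -/
theorem mk_eq_zero_iff (P : PrimeSpectrum (MvPolynomial (Fin N) A)) (b : MvPolynomial (Fin N) A) :
    algebraMap _ (Fq A (MvPolynomial (Fin N) A) P) b = 0 ↔
      ∀ m, b.coeff m ∈ P.asIdeal.under A := by
  let B := MvPolynomial (Fin N) A
  let p := P.asIdeal.under A
  have hJ : J A B P = (p.map (MvPolynomial.C : A →+* B)).map (algebraMap B (Localization.AtPrime P.asIdeal)) := by
    rw [J, Ideal.map_map]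
    exact congrArg (fun φ => Ideal.map φ p) (RingHom.ext fun a => rfl)
  show Ideal.Quotient.mk (J A B P) (algebraMap B (Localization.AtPrime P.asIdeal) b) = 0 ↔ _
  rw [Ideal.Quotient.eq_zero_iff_mem, hJ, ← MvPolynomial.mem_map_C_iff,
    IsLocalization.algebraMap_mem_map_algebraMap_iff P.asIdeal.primeCompl]
  have hp : p.map (MvPolynomial.C : A →+* B) ≤ P.asIdeal := by
    rw [Ideal.map_le_iff_le_comap]
    exact le_rfl
  have hprime : (p.map (MvPolynomial.C : A →+* B)).IsPrime := by
    have h := MvPolynomial.ker_map (σ := Fin N) (Ideal.Quotient.mk p)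
    rw [Ideal.mk_ker] at h
    rw [← h]
    exact RingHom.ker_isPrime _
  exact ⟨fun ⟨s, hs, h⟩ => (hprime.mem_or_mem h).resolve_left fun h' => hs (hp h'),
    fun h => ⟨1, one_mem _, by simpa using h⟩⟩

theorem isConstructible_map_eq_bot (I : Ideal (MvPolynomial (Fin N) A)) (hI : I.FG) :
    IsConstructible {P : PrimeSpectrum (MvPolynomial (Fin N) A) |
      I.map (algebraMap _ (Fq A (MvPolynomial (Fin N) A) P)) = ⊥} := by
  classical
  obtain ⟨W, hW⟩ := hI
  let Z := W.biUnion fun b => b.support.image fun m => MvPolynomial.C (σ := Fin N) (b.coeff m)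
  convert (isConstructible_zeroLocus (I := Ideal.span (Z : Set (MvPolynomial (Fin N) A)))
    ⟨Z, rfl⟩) using 1
  ext P
  rw [PrimeSpectrum.mem_zeroLocus, SetLike.coe_subset_coe, Ideal.span_le, Set.mem_setOf_eq, ← hW,
    Ideal.map_span, Ideal.span_eq_bot]
  simp only [Set.forall_mem_image, Finset.mem_coe, Z, Set.subset_def, Finset.mem_biUnion,
    Finset.mem_image, forall_exists_index, and_imp]
  constructor
  · rintro h _ b hb m - rfl
    exact (mk_eq_zero_iff A N P b).1 (h hb) m
  · intro h b hb
    refine (mk_eq_zero_iff A N P b).2 fun m => ?_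
    by_cases hm : m ∈ b.support
    · exact h _ b hb m hm rfl
    · rw [MvPolynomial.notMem_support_iff.1 hm]; exact zero_mem _

variable (M : Type u) [AddCommGroup M] [Module (MvPolynomial (Fin N) A) M] [Module A M]
  [IsScalarTower A (MvPolynomial (Fin N) A) M] [Module.FinitePresentation (MvPolynomial (Fin N) A) M]
  [Module.Flat A M]

theorem isConstructible_freeLocus :
    IsConstructible (Module.freeLocus (MvPolynomial (Fin N) A) M) := by
  let B := MvPolynomial (Fin N) A
  obtain ⟨n, x, hx⟩ := Module.Finite.exists_fin (R := B) (M := M)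
  have hfg : ∀ k, (Fitt.ideal B M k).FG := fun k => by
    obtain ⟨W, hW⟩ := Module.FinitePresentation.fg_ker (Fintype.linearCombination B x)
      (by rw [← LinearMap.range_eq_top, Fintype.range_linearCombination, hx])
    rw [ideal_eq_of_rel x hx _ hW.symm k]
    exact Mn_fg W.finite_toSet _
  convert IsConstructible.iUnion (f := fun r : Fin (n + 1) =>
    (PrimeSpectrum.zeroLocus (Fitt.ideal B M r : Set B))ᶜ ∩
      (if (r : ℕ) = 0 then Set.univ else
        {P | (Fitt.ideal B M (r - 1)).map (algebraMap B (Fq A B P)) = ⊥})) (fun r => by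
    refine (isConstructible_zeroLocus (hfg r)).compl.inter ?_
    split
    · exact IsConstructible.univ
    · exact isConstructible_map_eq_bot A N _ (hfg _)) using 1
  ext P
  have hspan : Submodule.span (Fq A B P) (Set.range fun i => (1 : Fq A B P) ⊗ₜ[B] x i) = ⊤ :=
    span_range_baseChange (Fq A B P) x hx
  have htop : ∀ r, (Fitt.ideal B M r).map (algebraMap B (Fq A B P)) = ⊤ ↔
      P ∉ PrimeSpectrum.zeroLocus (Fitt.ideal B M r : Set B) := by
    intro r
    have hunit : ∀ b, b ∈ P.asIdeal → algebraMap B (Fq A B P) b ∈ maximalIdeal (Fq A B P) := by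
      intro b hb hu
      rw [IsScalarTower.algebraMap_apply B (Localization.AtPrime P.asIdeal) (Fq A B P)] at hu
      haveI : IsLocalHom (algebraMap (Localization.AtPrime P.asIdeal) (Fq A B P)) :=
        .of_surjective _ Ideal.Quotient.mk_surjective
      exact ((IsLocalization.AtPrime.isUnit_to_map_iff (Localization.AtPrime P.asIdeal) P.asIdeal b).1
        (isUnit_of_map_unit (algebraMap _ (Fq A B P)) _ hu)) hb
    rw [PrimeSpectrum.mem_zeroLocus, SetLike.coe_subset_coe]
    constructor
    · intro h hle
      exact (maximalIdeal.isMaximal (Fq A B P)).ne_top (top_le_iff.1 (h ▸ Ideal.map_le_iff_le_comap.2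
        fun b hb => hunit b (hle hb)))
    · intro h
      obtain ⟨b, hb, hbP⟩ := SetLike.not_le_iff_exists.1 h
      refine Ideal.eq_top_of_isUnit_mem _ (Ideal.mem_map_of_mem _ hb) ?_
      rw [IsScalarTower.algebraMap_apply B (Localization.AtPrime P.asIdeal) (Fq A B P)]
      exact ((IsLocalization.AtPrime.isUnit_to_map_iff (Localization.AtPrime P.asIdeal) P.asIdeal b).2
        hbP).map _
  rw [← projective_fm_iff A B M P, (show Module.Projective (Fq A B P) (FM A B M P) ↔ Module.Free (Fq A B P) (FM A B M P) from
    ⟨fun _ => Module.free_of_flat_of_isLocalRing, fun _ => inferInstance⟩),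
    free_iff_fitting _ _ hspan, Set.mem_iUnion]
  simp only [ideal_baseChange, htop]
  constructor
  · rintro ⟨r, hr, h1, h2⟩
    refine ⟨⟨r, by omega⟩, h1, ?_⟩
    split
    · trivial
    · exact h2.resolve_left (by assumption)
  · rintro ⟨⟨r, hr⟩, h1, h2⟩
    refine ⟨r, by omega, h1, ?_⟩
    split at h2
    · exact Or.inl (by assumption)
    · exact Or.inr h2

end Groth.Agent.H46.FibreProf.ConsFree
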