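import Groth.Agent.H46.FibreProf.ConsFree
import Groth.Agent.H46.FibreProf.Chart
import Groth.Agent.H47.UnramLocus

/-!
# Constructibility of the projective dimension loci on the fibres of affine space
-/

set_option autoImplicit false
set_option linter.style.haveILetI false
set_option maxHeartbeats 1000000

universe u

open TensorProduct CategoryTheory Topology
open Groth.Agent.H22.FibrePD

namespace Groth.Agent.H46.FibreProf.ConsPD

variable (A : Type u) [CommRing A] (N : ℕ)

local notation "B" => MvPolynomial (Fin N) A

theorem isConstructible_lt_succ : ∀ (j : ℕ) (M : Type u) [AddCommGroup M] [Module B M] [Module A M] [IsScalarTower A B M]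
    [Module.FinitePresentation B M] [Module.Flat A M],
    IsConstructible {P : PrimeSpectrum (MvPolynomial (Fin N) A) | HasProjectiveDimensionLT (ModuleCat.of (Fq A B P) (FM A B M P)) (j + 1)} := by
  intro j
  induction j with
  | zero =>
    intro M _ _ _ _ _ _
    convert ConsFree.isConstructible_freeLocus A N M using 1
    ext P
    simp only [Set.mem_setOf_eq, Nat.zero_add, ← projective_iff_hasProjectiveDimensionLT_one]
    rw [← projective_fm_iff A B M P]
    exact (IsProjective.iff_projective (R := Fq A B P) (FM A B M P)).symm
  | succ j ih =>
    intro M _ _ _ _ _ _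
    obtain ⟨n, f, hf⟩ := Module.Finite.exists_fin' B M
    haveI := Lib.FlatFPSyzygy.Basic.ker_finitePresentation (R := A) f hf
    haveI : Module.Flat A (Fin n → B) := Module.Flat.trans A B (Fin n → B)
    haveI : Module.Flat A ↥(LinearMap.ker f) :=
      Lib.FlatCx.Ker.flat_of_exact ((LinearMap.ker f).subtype.restrictScalars A) (f.restrictScalars A)
        Subtype.val_injective hf (fun x => LinearMap.exact_subtype_ker_map f x)
    convert ih ↥(LinearMap.ker f) using 1
    ext P
    simp only [Set.mem_setOf_eq]
    let T := Fq A B P
    let g : FM A B ↥(LinearMap.ker f) P →ₗ[T] FM A B (Fin n → B) P := (LinearMap.ker f).subtype.baseChange T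
    let g' : FM A B (Fin n → B) P →ₗ[T] FM A B M P := f.baseChange T
    have hg : Function.Injective g :=
      baseChange_injective A B P _ f (Submodule.injective_subtype _) (LinearMap.exact_subtype_ker_map f) hf
    have hg' : Function.Surjective g' := LinearMap.lTensor_surjective T hf
    have hex : Function.Exact g g' := lTensor_exact T (LinearMap.exact_subtype_ker_map f) hf
    let S' : ShortComplex (ModuleCat.{u} T) :=
      ShortComplex.mk (ModuleCat.ofHom g) (ModuleCat.ofHom g') (ModuleCat.hom_ext hex.linearMap_comp_eq_zero)
    have hS' : S'.ShortExact :=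
      { exact := (ShortComplex.ShortExact.moduleCat_exact_iff_function_exact S').2 hex
        mono_f := (ModuleCat.mono_iff_injective _).2 hg
        epi_g := (ModuleCat.epi_iff_surjective _).2 hg' }
    exact hS'.hasProjectiveDimensionLT_X₃_iff j
      ((IsProjective.iff_projective (R := T) (FM A B (Fin n → B) P)).1 inferInstance)

end Groth.Agent.H46.FibreProf.ConsPD
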