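import Groth.Agent.H46.FibreProf.Equidim
import Groth.Agent.H52.FDesc.GenSupport
import Groth.Agent.H47.UnramLocus
import Mathlib.RingTheory.Spectrum.Prime.Chevalley

/-!
# Dimensions of the components of the supports of the fibre modules (EGA IV 12.2.1)
-/

set_option autoImplicit false
set_option linter.style.haveILetI false

universe u

open CategoryTheory AlgebraicGeometry IsLocalRing Topology
open Groth.Agent.H46.FibreTrdeg Groth.Agent.H46.DimData Groth.Agent.H46.FibreProf.Basic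
open Groth.Agent.H46.FibreProf.Open Groth.Agent.H46.FibreProf.Equidim

namespace Groth.Agent.H46.FibreProf.Dims

open Groth.Agent.Lib

variable {X S : Scheme.{u}} (f : X ⟶ S) [LocallyOfFinitePresentation f] (F : X.Modules)
  [F.IsQuasicoherent] [SheafOfModules.IsFiniteType (R := X.ringCatSheaf) F]

/-- The support of a flat finitely presented module maps openly. -/
theorem isOpen_image_support (hfp : CohB1.IsFP F) (hflat : FlatMod.IsFlatOver f F) {W : Set X}
    (hW : IsOpen W) : IsOpen (f '' (CohB1.support F ∩ W)) := by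
  haveI := hfp
  rw [isOpen_iff_forall_mem_open]
  rintro _ ⟨x, ⟨hxS, hxW⟩, rfl⟩
  obtain ⟨V, hV, hxV, -⟩ := exists_isAffineOpen_mem_and_subset (X := S) (x := f x) (U := ⊤) trivial
  obtain ⟨U, hU, hxU, hUle, hFP⟩ :=
    Lib.Flat55.QCohFP.exists_affine_le F x (⟨W, hW⟩ ⊓ f ⁻¹ᵁ V) ⟨hxW, hxV⟩
  have hUV : U ≤ f ⁻¹ᵁ V := fun z hz => (hUle hz).2
  let φ := f.appLE V U hUV
  have hφ : φ.hom.FinitePresentation :=
    HasRingHomProperty.appLE @LocallyOfFinitePresentation f inferInstance ⟨V, hV⟩ ⟨U, hU⟩ hUV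
  let C := Module.support Γ(X, U) Γ(F, U)
  let C' := PrimeSpectrum.comap φ.hom '' C
  have hcomm : ∀ q, hV.fromSpec (PrimeSpectrum.comap φ.hom q) = f (hU.fromSpec q) := fun q => by
    have h := congr($(hV.SpecMap_appLE_fromSpec f hU hUV) q)
    rw [Scheme.Hom.comp_apply, Scheme.Hom.comp_apply] at h
    exact h
  have hmemU : ∀ q, hU.fromSpec q ∈ U := fun q => by
    have := Set.mem_range_self (f := hU.fromSpec) q
    rwa [hU.range_fromSpec] at this
  have hsupp : ∀ q, q ∈ C ↔ hU.fromSpec q ∈ CohB1.support F := fun q => by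
    rw [← Modules.SupportOps.primeIdealOf_mem_support_iff F hU (hmemU q)]
    rw [show hU.primeIdealOf ⟨hU.fromSpec q, hmemU q⟩ = q from
      hU.fromSpec.isOpenEmbedding.injective (hU.fromSpec_primeIdealOf _)]
  have hC' : IsOpen C' := by
    refine PrimeSpectrum.isOpen_of_stableUnderGeneralization_of_isConstructible ?_
      (PrimeSpectrum.isConstructible_comap_image hφ (H47.UnramLocus.isConstructible_support _))
    rintro _ w hw ⟨q, hq, rfl⟩
    have hs : hV.fromSpec w ⤳ f (hU.fromSpec q) := by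
      rw [← hcomm]
      exact hw.map hV.fromSpec.continuous
    obtain ⟨z, hz, hzq, hfz⟩ :=
      H52.FDesc.GenSupport.exists_lift F hflat ((hsupp q).1 hq) hs
    have hzU : z ∈ U := hzq.mem_open U.2 (hmemU q)
    refine ⟨hU.primeIdealOf ⟨z, hzU⟩, (hsupp _).2 (by rw [hU.fromSpec_primeIdealOf]; exact hz),
      hV.fromSpec.isOpenEmbedding.injective ?_⟩
    rw [hcomm, hU.fromSpec_primeIdealOf]
    exact hfz
  refine ⟨hV.fromSpec '' C', ?_, hV.fromSpec.isOpenEmbedding.isOpenMap _ hC',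
    ⟨PrimeSpectrum.comap φ.hom (hU.primeIdealOf ⟨x, hxU⟩),
      ⟨_, (hsupp _).2 (by rw [hU.fromSpec_primeIdealOf]; exact hxS), rfl⟩,
      by rw [hcomm, hU.fromSpec_primeIdealOf]⟩⟩
  rintro _ ⟨_, ⟨q, hq, rfl⟩, rfl⟩
  exact ⟨hU.fromSpec q, ⟨(hsupp q).1 hq, (hUle (hmemU q)).1⟩, (hcomm q).symm⟩

/-- The set of points of the base over which some component of the support has dimension `n`. -/
def HasComp (n : ℕ) (y : S) : Prop := ∃ θ, IsMaxSupp f F θ ∧ f θ = y ∧ trd f θ = n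

theorem psi_of_isMaxSupp {θ : X} (hθ : IsMaxSupp f F θ) : psi f F θ = trd f θ := by
  obtain ⟨w, hw, h0⟩ := exists_ass f F hθ.1
  have := hθ.2 w (by_contra fun hn => by
    rw [(fiberDepth_eq_top_iff f F w).2 hn] at h0
    exact ENat.top_ne_zero h0) hw
  subst this
  rw [psi, h0, zero_add]

theorem isOpen_hasComp (hfp : CohB1.IsFP F) (hflat : FlatMod.IsFlatOver f F) (n : ℕ) :
    IsOpen {y | HasComp f F n y} := by
  let W : Set X := {x | x ∈ (⊤ : X.Opens) ∧ (n : ℕ∞) ≤ psi f F x} ∩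
    {x | ∀ w ∈ CohB1.support F, FG f x w → trd f w + 0 ≤ n}
  have hW : IsOpen W := (isOpen_le_psi f F hfp ⊤ (fun x _ => hflat x) n).inter
    (isOpen_trd_add_le f (Basic.isClosed_support F) 0 n)
  convert isOpen_image_support f F hfp hflat hW using 1
  ext y
  constructor
  · rintro ⟨θ, hθ, rfl, rfl⟩
    refine ⟨θ, ⟨hθ.1, ⟨trivial, (psi_of_isMaxSupp f F hθ).ge⟩, fun w hw hwθ => ?_⟩, rfl⟩
    rw [hθ.2 w hw hwθ, add_zero]
  · rintro ⟨x, ⟨hxS, ⟨-, hψ⟩, hle⟩, rfl⟩
    obtain ⟨θ, hθ, hθx⟩ := exists_isMaxSupp f F hxS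
    refine ⟨θ, hθ, hθx.1, le_antisymm (by simpa using hle θ hθ.1 hθx) ?_⟩
    have h2 : θ ∈ {x | x ∈ (⊤ : X.Opens) ∧ (n : ℕ∞) ≤ psi f F x} :=
      hθx.2.mem_open (isOpen_le_psi f F hfp ⊤ (fun x _ => hflat x) n) ⟨trivial, hψ⟩
    have h3 := h2.2
    rw [psi_of_isMaxSupp f F hθ] at h3
    exact_mod_cast h3

end Groth.Agent.H46.FibreProf.Dims
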