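import Groth.Agent.H46.FibreProf.Gen

/-!
# Properties holding everywhere on the fibre
-/

set_option autoImplicit false

universe u

open CategoryTheory AlgebraicGeometry Topology

namespace Groth.Agent.H46.FibreProf.ForallFibre

open Groth.Agent.Lib
open Groth.Agent.Lib.ProCons45.Basic (isLocallyConstructible_compl)

theorem isLocallyConstructible_forall {X S : Scheme.{u}} (f : X ⟶ S)
    [LocallyOfFinitePresentation f] [QuasiCompact f] {P : X → Prop}
    (hP : IsLocallyConstructible {x | P x}) :
    IsLocallyConstructible {s : S | ∀ x, f x = s → P x} := by
  convert isLocallyConstructible_compl (f.isLocallyConstructible_image (isLocallyConstructible_compl hP))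
    using 1
  ext s
  constructor
  · rintro h ⟨x, hx, rfl⟩
    exact hx (h x rfl)
  · intro h x hx
    exact by_contra fun hn => h ⟨x, hn, hx⟩

end Groth.Agent.H46.FibreProf.ForallFibre
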