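import Groth.Agent.H46.FibreProf.Unit
import Groth.Agent.Lib.DerivedOX.PullbackStalk
import Groth.Agent.Lib.Modules.SupportOps

/-!
# The fibre conditions under base change by a preimmersion
-/

set_option autoImplicit false
set_option linter.style.haveILetI false

universe u

open CategoryTheory CategoryTheory.Limits AlgebraicGeometry IsLocalRing TensorProduct
open Groth.Agent.H46.FibreTrdeg Groth.Agent.H46.DimData Groth.Agent.H46.FibreProf.Basic
open Groth.Agent.H46.FibreProf.Open

namespace Groth.Agent.H46.FibreProf.Strata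

open Groth.Agent.Lib

theorem depth_pullback_of_isIso {X Y : Scheme.{u}} (e : X ⟶ Y) (N : Y.Modules) (a : X)
    [IsIso (e.stalkMap a)] :
    LocCoh.depth (X.presheaf.stalk a) (((Scheme.Modules.pullback e).obj N).presheaf.stalk a) =
      LocCoh.depth (Y.presheaf.stalk (e a)) (N.presheaf.stalk (e a)) := by
  letI : Algebra (Y.presheaf.stalk (e a)) (X.presheaf.stalk a) := (e.stalkMap a).hom.toAlgebra
  let O := Y.presheaf.stalk (e a)
  let O' := X.presheaf.stalk a
  let V := N.presheaf.stalk (e a)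
  have hb : Function.Bijective (algebraMap O O') :=
    (asIso (e.stalkMap a)).commRingCatIsoToRingEquiv.bijective
  let e₂ : O' ⊗[O] V ≃ₗ[O'] ((Scheme.Modules.pullback e).obj N).presheaf.stalk a :=
    (asIso ((DerivedOX.PullbackStalk.comparison e a).app N)).toLinearEquiv
  rw [← Depth.Basic.depth_congr e₂,
    ← Depth.Basic.depth_eq_of_surjective (R := O) (S := O') (M := O' ⊗[O] V) hb.2]
  exact Depth.Basic.depth_congr ((TensorProduct.congr (LinearEquiv.ofBijective (Algebra.linearMap O O') hb).symm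
    (LinearEquiv.refl O V)).trans (TensorProduct.lid O V))

/-- The fibres of `f'` are parts of the fibres of `f` containing all generizations. -/
structure Cmp {X S T X' : Scheme.{u}} (f : X ⟶ S) (f' : X' ⟶ T) (p : X' ⟶ X) : Prop where
  depth : ∀ (F : X.Modules) (x' : X'),
    CInt.fiberDepth f' ((Scheme.Modules.pullback p).obj F) x' = CInt.fiberDepth f F (p x')
  trd : ∀ x', FibreTrdeg.trd f' x' = FibreTrdeg.trd f (p x')
  fg : ∀ (x' : X') (w : X), FG f (p x') w ↔ ∃ w', FG f' x' w' ∧ p w' = w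

section pullback

variable {X S T X' : Scheme.{u}} {f : X ⟶ S} {v : T ⟶ S} {p : X' ⟶ X} {f' : X' ⟶ T}
  (sq : IsPullback p f' f v) [IsPreimmersion v] [LocallyOfFiniteType v]

include sq in
theorem exists_fiber_iso (t : T) :
    ∃ e : f'.fiber t ≅ f.fiber (v t), e.hom ≫ f.fiberι (v t) = f'.fiberι t ≫ p := by
  haveI : IsIso (v.residueFieldMap t) := (ConcreteCategory.isIso_iff_bijective _).2
    ⟨(v.residueFieldMap t).hom.injective, Chart.residueFieldMap_surjective v t⟩
  have h1 : IsPullback (f'.fiberι t ≫ p) (f'.fiberToSpecResidueField t) f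
      (T.fromSpecResidueField t ≫ v) :=
    IsPullback.paste_horiz (IsPullback.of_hasPullback f' (T.fromSpecResidueField t)) sq
  have h2 : IsPullback (f'.fiberι t ≫ p)
      (f'.fiberToSpecResidueField t ≫ Spec.map (v.residueFieldMap t)) f
      (S.fromSpecResidueField (v t)) := by
    refine h1.of_iso (Iso.refl _) (Iso.refl _) (asIso (Spec.map (v.residueFieldMap t))) (Iso.refl _)
      ?_ ?_ ?_ ?_
    · simp
    · simp
    · simp
    · simp
  exact ⟨h2.isoPullback, h2.isoPullback_hom_fst⟩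

variable [LocallyOfFiniteType f] [LocallyOfFiniteType f']

include sq in
theorem trd_eq [IsPreimmersion p] (x' : X') : trd f' x' = trd f (p x') := by
  rw [← FibreTrdeg.trd_comp f p x']
  simp only [sq.w]
  rw [H54.CMAffine.trd_comp, Chart.trd_of_surjective v _ (Chart.residueFieldMap_surjective v _), zero_add]

include sq in
theorem fiberDepth_eq (F : X.Modules) (x' : X') :
    CInt.fiberDepth f' ((Scheme.Modules.pullback p).obj F) x' = CInt.fiberDepth f F (p x') := by
  obtain ⟨a, ha⟩ := Lib.Cyc.FieldDim.exists_fiberι_eq f' x' (f' x') rfl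
  obtain ⟨e, he⟩ := exists_fiber_iso sq (f' x')
  have hpa : f.fiberι (v (f' x')) (e.hom a) = p x' := by
    rw [← Scheme.Hom.comp_apply, he, Scheme.Hom.comp_apply, ha]
  rw [← hpa, ← Chart.fiberDepth_eq f F (v (f' x')) (e.hom a),
    ← depth_pullback_of_isIso e.hom ((Scheme.Modules.pullback (f.fiberι (v (f' x')))).obj F) a]
  conv_lhs => rw [← ha]
  rw [← Chart.fiberDepth_eq f' ((Scheme.Modules.pullback p).obj F) (f' x') a]
  exact Depth.Basic.depth_congr (Modules.StalkModule.stalkLinearEquiv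
    ((Scheme.Modules.pullbackComp (f'.fiberι (f' x')) p).app F ≪≫
      (Scheme.Modules.pullbackCongr he.symm).app F ≪≫
      ((Scheme.Modules.pullbackComp e.hom (f.fiberι (v (f' x')))).app F).symm) a)

include sq in
theorem fg_iff [IsPreimmersion p] (x' : X') (w : X) :
    FG f (p x') w ↔ ∃ w', FG f' x' w' ∧ p w' = w := by
  have hv : ∀ z : X', f (p z) = v (f' z) := fun z => by
    rw [← Scheme.Hom.comp_apply, sq.w, Scheme.Hom.comp_apply]
  constructor
  · intro h
    obtain ⟨e, he⟩ := exists_fiber_iso sq (f' x')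
    obtain ⟨b, hb⟩ := Lib.Cyc.FieldDim.exists_fiberι_eq f w (v (f' x')) (h.1.trans (hv x'))
    have hp : p (f'.fiberι (f' x') (e.inv b)) = w := by
      rw [← Scheme.Hom.comp_apply, ← he, Scheme.Hom.comp_apply, ← Scheme.Hom.comp_apply e.inv e.hom,
        e.inv_hom_id]
      exact hb
    refine ⟨_, ⟨Lib.Cyc.FieldDim.apply_fiberι f' _ _, p.isEmbedding.isInducing.specializes_iff.1 ?_⟩, hp⟩
    rw [hp]; exact h.2
  · rintro ⟨w', hw, rfl⟩
    exact ⟨by rw [hv, hv, hw.1], hw.2.map p.continuous⟩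

include sq in
theorem cmp_of_isPullback [IsPreimmersion p] : Cmp f f' p :=
  ⟨fun F x' => fiberDepth_eq sq F x', fun x' => trd_eq sq x', fun x' w => fg_iff sq x' w⟩

end pullback

section open'

variable {X S T X' : Scheme.{u}} {f : X ⟶ S} {v : T ⟶ S} {p : X' ⟶ X} {f' : X' ⟶ T}
  (hw : p ≫ f = f' ≫ v) [IsOpenImmersion p] [IsOpenImmersion v]

include hw

theorem exists_fiber_map [LocallyOfFiniteType f] [LocallyOfFiniteType f'] (t : T) :
    ∃ e : f'.fiber t ⟶ f.fiber (v t), e ≫ f.fiberι (v t) = f'.fiberι t ≫ p ∧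
      ∀ a, IsIso (e.stalkMap a) := by
  have sq₁ : IsPullback (𝟙 X') f' (f' ≫ v) v := by
    refine ⟨⟨by simp⟩, ⟨PullbackCone.IsLimit.mk _ (fun s => s.fst) (fun s => by simp) (fun s => ?_)
      (fun s m h₁ _ => by simpa using h₁)⟩⟩
    rw [← cancel_mono v, Category.assoc]
    exact s.condition
  obtain ⟨e₁, he₁⟩ := exists_fiber_iso sq₁ t
  let g := f' ≫ v
  let y := v t
  let e₂ : g.fiber y ⟶ f.fiber y := pullback.lift (g.fiberι y ≫ p) (g.fiberToSpecResidueField y)
    (by rw [Category.assoc, hw]; exact g.fiber_fac y)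
  have he₂ : e₂ ≫ f.fiberι y = g.fiberι y ≫ p := pullback.lift_fst _ _ _
  have hsq : IsPullback e₂ (g.fiberι y) (f.fiberι y) p := by
    refine IsPullback.of_right ?_ he₂ (IsPullback.of_hasPullback f (S.fromSpecResidueField y)).flip
    have h0 : IsPullback (g.fiberι y) (g.fiberToSpecResidueField y) g (S.fromSpecResidueField y) :=
      IsPullback.of_hasPullback _ _
    convert h0.flip using 1
    exact pullback.lift_snd _ _ _
  haveI : IsOpenImmersion e₂ :=
    MorphismProperty.of_isPullback (P := @IsOpenImmersion) hsq.flip ‹IsOpenImmersion p›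
  refine ⟨e₁.hom ≫ e₂, ?_, fun a => ?_⟩
  · rw [Category.assoc, he₂, ← Category.assoc, he₁, Category.comp_id]
  · haveI : IsOpenImmersion (e₁.hom ≫ e₂) := inferInstance
    infer_instance

theorem cmp_of_isOpenImmersion [LocallyOfFiniteType f] [LocallyOfFiniteType f'] : Cmp f f' p := by
  have hv : ∀ z : X', f (p z) = v (f' z) := fun z => by
    rw [← Scheme.Hom.comp_apply, hw, Scheme.Hom.comp_apply]
  refine ⟨fun F x' => ?_, fun x' => ?_, fun x' w => ⟨fun h => ?_, ?_⟩⟩
  · obtain ⟨a, ha⟩ := Lib.Cyc.FieldDim.exists_fiberι_eq f' x' (f' x') rfl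
    obtain ⟨e, he, hiso⟩ := exists_fiber_map hw (f' x')
    haveI := hiso a
    have hpa : f.fiberι (v (f' x')) (e a) = p x' := by
      rw [← Scheme.Hom.comp_apply, he, Scheme.Hom.comp_apply, ha]
    rw [← hpa, ← Chart.fiberDepth_eq f F (v (f' x')) (e a),
      ← depth_pullback_of_isIso e ((Scheme.Modules.pullback (f.fiberι (v (f' x')))).obj F) a]
    conv_lhs => rw [← ha]
    rw [← Chart.fiberDepth_eq f' ((Scheme.Modules.pullback p).obj F) (f' x') a]
    exact Depth.Basic.depth_congr (Modules.StalkModule.stalkLinearEquiv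
      ((Scheme.Modules.pullbackComp (f'.fiberι (f' x')) p).app F ≪≫
        (Scheme.Modules.pullbackCongr he.symm).app F ≪≫
        ((Scheme.Modules.pullbackComp e (f.fiberι (v (f' x')))).app F).symm) a)
  · rw [← FibreTrdeg.trd_comp f p x']
    simp only [hw]
    rw [H54.CMAffine.trd_comp, Chart.trd_of_surjective v _ (Chart.residueFieldMap_surjective v _), zero_add]
  · obtain ⟨w', rfl⟩ := h.2.mem_open p.isOpenEmbedding.isOpen_range (Set.mem_range_self x')
    refine ⟨w', ⟨v.isOpenEmbedding.injective ?_, p.isEmbedding.isInducing.specializes_iff.1 h.2⟩, rfl⟩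
    rw [← hv, ← hv, h.1]
  · rintro ⟨w', h, rfl⟩
    exact ⟨by rw [hv, hv, h.1], h.2.map p.continuous⟩

end open'

section transfer

variable {X S T X' : Scheme.{u}} {f : X ⟶ S} {p : X' ⟶ X} {f' : X' ⟶ T} (hc : Cmp f f' p)
  [LocallyOfFiniteType f] [LocallyOfFiniteType f']

include hc

theorem psi_eq (F : X.Modules) (x' : X') :
    psi f' ((Scheme.Modules.pullback p).obj F) x' = psi f F (p x') := by
  rw [psi, psi, hc.depth, hc.trd]

theorem cop_iff (F : X.Modules)
    [SheafOfModules.IsFiniteType (R := X.ringCatSheaf) F] (k : ℕ) (x' : X') :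
    Cop f' ((Scheme.Modules.pullback p).obj F) k x' ↔ Cop f F k (p x') := by
  simp only [Cop, Modules.SupportOps.support_pullback, Set.mem_preimage, psi_eq hc]
  constructor
  · intro h w hw hwx
    obtain ⟨w', hw', rfl⟩ := (hc.fg x' w).1 hwx
    rw [← hc.trd w']
    exact h w' hw hw'
  · intro h w' hw hw'
    rw [hc.trd w']
    exact h _ hw ((hc.fg x' _).2 ⟨w', hw', rfl⟩)

theorem sk_iff (F : X.Modules)
    [SheafOfModules.IsFiniteType (R := X.ringCatSheaf) F] (k : ℕ) (x' : X') :
    Sk f' ((Scheme.Modules.pullback p).obj F) k x' ↔ Sk f F k (p x') := by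
  simp only [Sk]
  constructor
  · intro h w hwx hd
    obtain ⟨w', hw', rfl⟩ := (hc.fg x' w).1 hwx
    exact (cop_iff hc F 0 w').1 (h w' hw' (by rwa [hc.depth]))
  · intro h w' hw' hd
    rw [hc.depth] at hd
    exact (cop_iff hc F 0 w').2 (h _ ((hc.fg x' _).2 ⟨w', hw', rfl⟩) hd)

end transfer

end Groth.Agent.H46.FibreProf.Strata
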