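import Groth.Agent.H46.FibreProf.Cons2
import Groth.Agent.H46.FibreProf.Strata
import Groth.Agent.H47.FibreClosure
import Mathlib.RingTheory.Spectrum.Prime.ConstructibleSet

/-!
# Generizations inside a locally constructible set: the general engine
-/

set_option autoImplicit false
set_option linter.style.haveILetI false

universe u

open CategoryTheory AlgebraicGeometry IsLocalRing Topology
open Groth.Agent.H46.FibreTrdeg Groth.Agent.H46.DimData Groth.Agent.H46.FibreProf.Basic
open Groth.Agent.H47.FibreClosure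

namespace Groth.Agent.H46.FibreProf.Gen

open Groth.Agent.Lib
open Groth.Agent.Lib.ProCons45.Basic (isLocallyConstructible_compl)

/-- A point of the closure of a constructible set is a specialization of a point of it. -/
theorem exists_specializes_of_mem_closure {R : Type u} [CommRing R] {C : Set (PrimeSpectrum R)}
    (hC : IsConstructible C) {P : PrimeSpectrum R} (hP : P ∈ closure C) : ∃ q ∈ C, q ⤳ P := by
  obtain ⟨T, _, φ, rfl⟩ := PrimeSpectrum.exists_range_eq_of_isConstructible hC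
  rw [PrimeSpectrum.closure_range_comap, PrimeSpectrum.mem_zeroLocus, SetLike.coe_subset_coe] at hP
  obtain ⟨I, hI, hIP⟩ := Ideal.exists_minimalPrimes_le hP
  obtain ⟨J, hJ, -, rfl⟩ := Ideal.exists_comap_eq_of_mem_minimalPrimes φ (I := ⊥) I hI
  exact ⟨_, ⟨⟨J, hJ⟩, rfl⟩, (PrimeSpectrum.le_iff_specializes _ _).1 hIP⟩

variable {X S : Scheme.{u}} (f : X ⟶ S) [LocallyOfFinitePresentation f]

theorem mem_fibClosure_iff_exists {Z : Set X} (hZ : IsLocallyConstructible Z) (x : X) :
    x ∈ H47.FibreClosure.fibClosure f Z ↔ ∃ y ∈ Z, FG f x y := by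
  refine ⟨fun h => ?_, fun ⟨y, hy, hyx⟩ => ?_⟩
  · rw [mem_fibClosure_iff] at h
    obtain ⟨W, hW, hxW, -⟩ := exists_isAffineOpen_mem_and_subset (X := f.fiber (f x))
      (x := f.asFiber x) (U := ⊤) trivial
    haveI : IsOpenImmersion hW.fromSpec := hW.isOpenImmersion_fromSpec
    obtain ⟨P, hP⟩ := hW.range_fromSpec.ge hxW
    let C : Set (PrimeSpectrum Γ(f.fiber (f x), W)) := hW.fromSpec ⁻¹' (f.fiberι (f x) ⁻¹' Z)
    have hC : IsConstructible C := Cons.isConstructible_chart
      (H47.ConsPreimage.isLocallyConstructible_preimage (f.fiberι (f x)) hZ) hW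
    have hPC : P ∈ closure C := by
      show P ∈ closure (hW.fromSpec ⁻¹' (f.fiberι (f x) ⁻¹' Z))
      rw [← hW.fromSpec.isOpenEmbedding.isOpenMap.preimage_closure_eq_closure_preimage
        hW.fromSpec.continuous]
      rw [Set.mem_preimage, hP]
      exact h
    obtain ⟨q, hq, hqP⟩ := exists_specializes_of_mem_closure hC hPC
    refine ⟨_, hq, ?_⟩
    have h2 := (fg_fiberι f (a := hW.fromSpec P) (b := hW.fromSpec q)).2
      (hqP.map hW.fromSpec.continuous)
    rwa [hP, f.fiberι_asFiber] at h2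
  · exact closure_mono (Set.singleton_subset_iff.2 (show y ∈ Z ∩ f ⁻¹' {f x} from ⟨hy, hyx.1⟩))
      (specializes_iff_mem_closure.1 hyx.2)

theorem isLocallyConstructible_exists_le_trd {E : Set X} (hE : IsLocallyConstructible E) (c : ℕ) :
    IsLocallyConstructible {x : X | ∃ y ∈ E, FG f x y ∧ c ≤ trd f y} := by
  refine Cons.isLocallyConstructible_of_charts fun x₀ => ?_
  obtain ⟨U, hU, hxU, -⟩ := exists_isAffineOpen_mem_and_subset (X := X) (x := x₀) (U := ⊤) trivial
  refine ⟨U, hU, hxU, ?_⟩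
  haveI : IsOpenImmersion hU.fromSpec := hU.isOpenImmersion_fromSpec
  let g := hU.fromSpec ≫ f
  have hc : Strata.Cmp f g hU.fromSpec :=
    Strata.cmp_of_isOpenImmersion (v := 𝟙 S) (Category.comp_id g).symm
  obtain ⟨Sd, hSd⟩ := PrimeSpectrum.exists_constructibleSetData_iff.2 (Cons.isConstructible_chart hE hU)
  let piece : PrimeSpectrum.BasicConstructibleSetData Γ(X, U) → Set (PrimeSpectrum Γ(X, U)) := fun d =>
    {q | ∃ y : PrimeSpectrum Γ(X, U), y ∈ d.toSet ∧ FG g q y ∧ c ≤ trd g y}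
  have hpiece : ∀ d, IsConstructible (piece d) := by
    intro d
    let T : Set ↥(Spec Γ(X, U)) := PrimeSpectrum.zeroLocus (Set.range d.g)
    have hT : IsClosed T := PrimeSpectrum.isClosed_zeroLocus _
    have hTc : IsConstructible T := by
      have := ConsFree.isConstructible_zeroLocus (I := Ideal.span (Set.range d.g))
        (Submodule.fg_span (Set.finite_range _))
      rwa [PrimeSpectrum.zeroLocus_span] at this
    have hd : IsConstructible d.toSet := by
      simpa [PrimeSpectrum.ConstructibleSetData.toSet] using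
        PrimeSpectrum.ConstructibleSetData.isConstructible_toSet ({d} : PrimeSpectrum.ConstructibleSetData _)
    let E' : Set ↥(Spec Γ(X, U)) := d.toSet ∩ {y | ∀ w ∈ T, FG g y w → trd g w + 1 ≤ c}ᶜ
    have hE' : IsLocallyConstructible E' :=
      (IsConstructible.isLocallyConstructible (X := ↥(Spec Γ(X, U))) hd).inter
        (isLocallyConstructible_compl
          (Cons.isLocallyConstructible_trd_add_le g hT hTc.isLocallyConstructible 1 c))
    refine IsLocallyConstructible.isConstructible (X := ↥(Spec Γ(X, U))) ?_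
    convert H47.FibreClosure.isLocallyConstructible_fibClosure g hE' using 1
    ext q
    refine Iff.trans ?_ (mem_fibClosure_iff_exists g hE' q).symm
    constructor
    · rintro ⟨y, hy, hyq, hyc⟩
      refine ⟨y, ⟨hy, fun h => ?_⟩, hyq⟩
      have := h y hy.1 (fg_self g y)
      omega
    · rintro ⟨y, ⟨hy, hy'⟩, hyq⟩
      simp only [Set.mem_compl_iff, Set.mem_setOf_eq, not_forall] at hy'
      obtain ⟨w, hwT, hw, hwc⟩ := hy'
      exact ⟨w, ⟨hwT, fun h => hy.2 (hw.2.mem_closed (PrimeSpectrum.isClosed_zeroLocus _) h)⟩,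
        ⟨hw.1.trans hyq.1, hw.2.trans hyq.2⟩, by omega⟩
  suffices heq : (hU.fromSpec ⁻¹' {x : X | ∃ y ∈ E, FG f x y ∧ c ≤ trd f y} :
      Set (PrimeSpectrum Γ(X, U))) = ⋃ d : ↥Sd, piece d from
    (congrArg IsConstructible heq).mpr (IsConstructible.iUnion fun d => hpiece d)
  refine Set.ext fun q => ?_
  simp only [Set.mem_iUnion]
  constructor
  · rintro ⟨y, hy, hyq, hyc⟩
    obtain ⟨y', hy', rfl⟩ := (hc.fg q y).1 hyq
    have hm : y' ∈ Sd.toSet := hSd.symm ▸ hy
    obtain ⟨d, hd, hm⟩ := Set.mem_iUnion₂.1 (show y' ∈ ⋃ C ∈ Sd, C.toSet from hm)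
    exact ⟨⟨d, hd⟩, y', hm, hy', hc.trd y' ▸ hyc⟩
  · rintro ⟨⟨d, hd⟩, y, hy, hyq, hyc⟩
    refine ⟨hU.fromSpec y, ?_, (hc.fg q _).2 ⟨y, hyq, rfl⟩, hc.trd y ▸ hyc⟩
    have hm : y ∈ Sd.toSet := Set.mem_iUnion₂.2 ⟨d, hd, hy⟩
    exact (hSd ▸ hm :)

theorem isLocallyConstructible_equidim :
    IsLocallyConstructible {x : X | ∀ y, FG f x y → fe f y = fe f x} := by
  refine Cons.isLocallyConstructible_of_local fun x₀ U hU hxU => ?_
  obtain ⟨e, he⟩ := Cons.exists_bound_on f U hU
  let M : ℕ → Set X := fun j => {x | FlatMor.fibreDimAt f x ≤ (j : WithBot ℕ∞)}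
  have hM : ∀ j, IsLocallyConstructible (M j) :=
    fun j => H69.RelDimLocus.isLocallyConstructible_setOf_fibreDimAt_le f j
  have hMe : ∀ j x, x ∈ M j ↔ fe f x ≤ j := by
    intro j x
    show FlatMor.fibreDimAt f x ≤ _ ↔ _
    rw [fibreDimAt_le_iff]
    refine ⟨fun h => ?_, fun h ξ _ hs => (trd_le_fe f hs).trans h⟩
    obtain ⟨ζ, hζ, hs, -, hζe⟩ := exists_fe_eq f x
    exact hζe ▸ h ζ hζ hs
  refine ⟨⋂ j : Fin (e + 1), (H47.FibreClosure.fibClosure f (M j) ∩ (M j)ᶜ)ᶜ,
    IsLocallyConstructible.iInter fun j => isLocallyConstructible_compl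
      ((H47.FibreClosure.isLocallyConstructible_fibClosure f (hM j)).inter
        (isLocallyConstructible_compl (hM j))), fun x hx => ?_⟩
  simp only [Set.mem_iInter]
  constructor
  · rintro h j ⟨hc, hn⟩
    obtain ⟨y, hy, hyx⟩ := (mem_fibClosure_iff_exists f (hM j) x).1 hc
    exact hn ((hMe _ x).2 (h y hyx ▸ (hMe _ y).1 hy))
  · intro h y hyx
    obtain ⟨ζ, hζ, hs, -, hζe⟩ := exists_fe_eq f x
    obtain ⟨ξ, hξ, hsy, -, hξe⟩ := exists_fe_eq f y
    refine le_antisymm (hξe ▸ trd_le_fe f (hsy.trans hyx.2)) ?_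
    by_contra hlt
    have hb : fe f x ≤ e := hζe ▸ he x hx ζ ⟨hζ, hs⟩
    exact h ⟨fe f y, by omega⟩ ⟨(mem_fibClosure_iff_exists f (hM _) x).2 ⟨y, (hMe _ y).2 le_rfl, hyx⟩,
      fun hxm => hlt ((hMe _ x).1 hxm)⟩

end Groth.Agent.H46.FibreProf.Gen
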