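import Groth.Agent.H2.Rigid.GeomRegPt
import Groth.Agent.H18.SerreCrit
import Groth.Agent.H46.QFin
import Groth.Agent.H54.CMAffine
import Groth.Agent.H75.BaseChange.Nhd
import Groth.Agent.Lib.CartierDescent.Stalk
import Groth.Agent.Lib.Cyc.DimFun
import Groth.Agent.Lib.JacCrit.OverField
import Groth.Agent.H46.FibreProf.Chart
import Groth.Prelude.Def_FDesc
import Mathlib.RingTheory.Ideal.GoingDown
import Mathlib.AlgebraicGeometry.Morphisms.QuasiFinite

/-!
# Geometric `(R_k)` over a field through the smooth locus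
-/

set_option autoImplicit false
set_option linter.style.haveILetI false

universe u

open CategoryTheory CategoryTheory.Limits AlgebraicGeometry IsLocalRing
open Groth.Agent.H46.FibreTrdeg

namespace Groth.Agent.H46.FibreProf.GeomRk

open Groth.Agent.Lib Groth.Agent.Lib.Cyc

/-- The dimension of a local ring of a scheme locally of finite type over a field. -/
theorem stalk_dim_le_iff {K : Type u} [Field K] {P : Scheme.{u}} (r : P ⟶ Spec (CommRingCat.of K))
    [LocallyOfFiniteType r] (b : P) (n : ℕ) :
    ringKrullDim (P.presheaf.stalk b) ≤ (n : WithBot ℕ∞) ↔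
      ∀ w, w ⤳ b → trd r w ≤ trd r b + n := by
  haveI : Subsingleton ↥(Spec (CommRingCat.of K)) := inferInstanceAs (Subsingleton (PrimeSpectrum K))
  have hδ := FieldDim.isDimFun_fdelta r
  have hfd : ∀ w, FieldDim.fdelta r w = (trd r w : ℤ) := fun w => by
    have h1 := FieldDim.trdegAt_eq_fdelta r w
    rw [FibreTrdeg.trdegAt_eq r, Nat.cast_inj] at h1
    have := FieldDim.fdelta_nonneg r w
    omega
  constructor
  · intro h w hw
    have h1 : ringKrullDim (Cyc.LocQuot b w hw) ≤ (n : WithBot ℕ∞) :=
      (ringKrullDim_quotient_le _).trans h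
    rw [DimFun.ringKrullDim_locQuot hδ b w hw, Nat.cast_le, hfd, hfd] at h1
    omega
  · intro h
    have hmono : StrictMono fun p : PrimeSpectrum (P.presheaf.stalk b) =>
        (⟨(trd r b + n - trd r (P.fromSpecStalk b p)) , by
          have := trd_le r (DimFun.fromSpecStalk_specializes_self b p) (Subsingleton.elim _ _)
          omega⟩ : Fin (n + 1)) := by
      intro p q hpq
      have hs := (DimFun.fromSpecStalk_specializes_iff b p q).2 hpq.le
      have hne : P.fromSpecStalk b p ≠ P.fromSpecStalk b q := fun e =>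
        hpq.ne (DimFun.fromSpecStalk_injective b e)
      have h1 := trd_lt r hs (Subsingleton.elim _ _) hne
      have h2 := h _ (DimFun.fromSpecStalk_specializes_self b p)
      rw [Fin.mk_lt_mk]
      omega
    refine iSup_le fun l => ?_
    have h2 := (l.map _ hmono).length_lt_card
    rw [Fintype.card_fin] at h2
    exact_mod_cast (show l.length ≤ n from Nat.lt_succ_iff.1 h2)

/-- `(R_k)` for a local ring, read at the generizations. -/
theorem hasRk_stalk_iff {P : Scheme.{u}} [IsLocallyNoetherian P] (b : P) (k : ℕ) :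
    LocCoh.HasRk k (P.presheaf.stalk b) ↔ ∀ w, w ⤳ b →
      ringKrullDim (P.presheaf.stalk w) ≤ (k : WithBot ℕ∞) → IsRegularLocalRing (P.presheaf.stalk w) := by
  rw [H18.SerreCrit.hasRk_iff]
  have key : ∀ (p : PrimeSpectrum (P.presheaf.stalk b)) (w : P) (_ : w = P.fromSpecStalk b p),
      Nonempty (Localization.AtPrime p.asIdeal ≃+* P.presheaf.stalk w) := by
    rintro p w rfl
    have h := DimFun.fromSpecStalk_specializes_self b p
    letI := (P.presheaf.stalkSpecializes h).hom.toAlgebra
    haveI := CartierDescent.isLocalization_stalkSpecializes h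
    have hp : CDivInt.Factorial.primeOf h = p.asIdeal := by
      conv_rhs => rw [DimFun.eq_genPrime b p]
      ext a
      exact (IsLocalRing.residue_eq_zero_iff (R := P.presheaf.stalk (P.fromSpecStalk b p)) _).symm
    haveI : IsLocalization p.asIdeal.primeCompl (P.presheaf.stalk (P.fromSpecStalk b p)) := by
      rw [show p.asIdeal.primeCompl = (CDivInt.Factorial.primeOf h).primeCompl from
        SetLike.ext fun a => not_congr (SetLike.ext_iff.1 hp a).symm]
      infer_instance
    exact ⟨(IsLocalization.algEquiv p.asIdeal.primeCompl _ _).toRingEquiv⟩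
  constructor
  · intro h w hw hd
    obtain ⟨e⟩ := key (DimFun.genPrime b w hw) w (DimFun.fromSpecStalk_genPrime b w hw).symm
    have h1 := h (DimFun.genPrime b w hw).asIdeal
    rw [H18.SerreCrit.RkPt, ringKrullDim_eq_of_ringEquiv e] at h1
    haveI := h1 hd
    exact IsRegularLocalRing.of_ringEquiv e
  · intro h p hp
    obtain ⟨e⟩ := key ⟨p, hp⟩ _ rfl
    rw [H18.SerreCrit.RkPt, ringKrullDim_eq_of_ringEquiv e]
    intro hd
    haveI := h _ (DimFun.fromSpecStalk_specializes_self b ⟨p, hp⟩) hd
    exact IsRegularLocalRing.of_ringEquiv e.symm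

/-- A flat local homomorphism does not lower the dimension. -/
theorem stalk_dim_le_of_flat {A B : Scheme.{u}} (j : A ⟶ B) [Flat j] (a : A) :
    ringKrullDim (B.presheaf.stalk (j a)) ≤ ringKrullDim (A.presheaf.stalk a) := by
  let R := B.presheaf.stalk (j a)
  let S := A.presheaf.stalk a
  letI : Algebra R S := (j.stalkMap a).hom.toAlgebra
  haveI : Module.Flat R S := Flat.stalkMap j a
  haveI : IsLocalHom (algebraMap R S) := inferInstanceAs (IsLocalHom (j.stalkMap a).hom)
  haveI : Module.FaithfullyFlat R S := .of_flat_of_isLocalHom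
  haveI : Algebra.HasGoingDown R S := Algebra.HasGoingDown.of_flat
  refine iSup_le fun l => ?_
  obtain ⟨Q, hQ⟩ := PrimeSpectrum.comap_surjective_of_faithfullyFlat (A := R) (B := S) l.last
  haveI : Q.asIdeal.LiesOver l.last.asIdeal := ⟨(congrArg PrimeSpectrum.asIdeal hQ).symm⟩
  obtain ⟨L, hL, -⟩ := Ideal.exists_ltSeries_of_hasGoingDown l Q.asIdeal
  exact le_iSup_of_le L (by rw [hL])

variable {k : Type u} [Field k] {F : Scheme.{u}} (q : F ⟶ Spec (CommRingCat.of k))
  [LocallyOfFinitePresentation q] (a : F) (n : ℕ)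

/-- Every point is smooth where the dimension of the local ring is at most `n`. -/
def SmoothUpTo : Prop :=
  ∀ c, c ⤳ a → (∀ w, w ⤳ c → trd q w ≤ trd q c + n) → c ∈ q.smoothLocus

theorem hasRk_of_smoothUpTo (h : SmoothUpTo q a n) (K : Type u) [Field K] [Algebra k K]
    (x' : ↥(FBase.bc q K)) (hx' : (FBase.bcπ q K).base x' = a) :
    LocCoh.HasRk n ((FBase.bc q K).presheaf.stalk x') := by
  let σ : Spec (CommRingCat.of K) ⟶ Spec (CommRingCat.of k) :=
    Spec.map (CommRingCat.ofHom (algebraMap k K))
  haveI : Flat σ := by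
    rw [HasRingHomProperty.Spec_iff (P := @Flat)]
    exact RingHom.flat_algebraMap_iff.2 inferInstance
  haveI : LocallyOfFinitePresentation (pullback.snd q σ) :=
    MorphismProperty.pullback_snd _ _ inferInstance
  haveI : IsLocallyNoetherian (pullback q σ) :=
    LocallyOfFiniteType.isLocallyNoetherian (pullback.snd q σ)
  haveI : Flat (pullback.fst q σ) := inferInstance
  show LocCoh.HasRk n ((pullback q σ).presheaf.stalk x')
  rw [hasRk_stalk_iff]
  intro w hw hd
  refine JacCrit.OverField.isRegularLocalRing_stalk (pullback.snd q σ) w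
    ((H75.BaseChange.mem_smoothLocus_snd_iff q σ w (Or.inl (JacCrit.OverField.flat_stalkMap q _))).2 ?_)
  refine h _ (hx' ▸ hw.map (pullback.fst q σ).continuous) ?_
  exact (stalk_dim_le_iff q _ n).1 ((stalk_dim_le_of_flat (pullback.fst q σ) w).trans hd)

theorem smoothUpTo_of_hasRk
    (h : ∀ (K : Type u) [Field K] [Algebra k K], Module.Finite k K →
      ∀ x' : ↥(FBase.bc q K), (FBase.bcπ q K).base x' = a →
        LocCoh.HasRk n ((FBase.bc q K).presheaf.stalk x')) : SmoothUpTo q a n := by
  intro c hc hdim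
  letI : F.Over (Spec (CommRingCat.of k)) := ⟨q⟩
  haveI : LocallyOfFinitePresentation (F ↘ Spec (CommRingCat.of k)) :=
    ‹LocallyOfFinitePresentation q›
  haveI : IsLocallyNoetherian F := LocallyOfFiniteType.isLocallyNoetherian q
  haveI := H2.Rigid.GeomRegPt.essFiniteType_O k F c
  show c ∈ (F ↘ Spec (CommRingCat.of k)).smoothLocus
  rw [H2.Rigid.GeomRegPt.mem_smoothLocus_iff,
    JacCrit.SmoothLocal.formallySmooth_iff_isGeometricallyRegular]
  refine H2.Rigid.GeomRegPt.geometricallyRegular_of_pi k F c fun k' _ _ hfin _ y hy => ?_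
  let σ : Spec (CommRingCat.of k') ⟶ Spec (CommRingCat.of k) :=
    Spec.map (CommRingCat.ofHom (algebraMap k k'))
  haveI : IsFinite σ := by
    rw [IsFinite.SpecMap_iff]
    exact RingHom.finite_algebraMap.2 hfin
  haveI : IsFinite (pullback.fst q σ) := MorphismProperty.pullback_fst _ _ inferInstance
  haveI : LocallyOfFiniteType (pullback.snd q σ) := MorphismProperty.pullback_snd _ _ inferInstance
  haveI : IsLocallyNoetherian (pullback q σ) :=
    LocallyOfFiniteType.isLocallyNoetherian (pullback.snd q σ)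
  have hπ : ∀ {A B : Scheme.{u}} (m : A ⟶ B) [IsFinite m] (z : A), trd m z = 0 := by
    intro A B m _ z
    rw [trd, Residue.trdegAt_eq_zero_of_finite z
      (QFin.finite_residueFieldMap m z (isClosed_discrete _))]
    simp
  have htrd : ∀ z : ↥(pullback q σ), trd (pullback.snd q σ) z = trd q (pullback.fst q σ z) := by
    intro z
    have h1 := H54.CMAffine.trd_comp (pullback.fst q σ) q z
    simp only [pullback.condition] at h1
    rw [H54.CMAffine.trd_comp, hπ σ, hπ (pullback.fst q σ)] at h1
    omega
  obtain ⟨x', hx', hxa⟩ : ∃ x', y ⤳ x' ∧ pullback.fst q σ x' = a := by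
    have hmem : a ∈ pullback.fst q σ '' closure {y} :=
      (hc.mem_closed ((pullback.fst q σ).isClosedMap _ isClosed_closure)
        ⟨y, subset_closure rfl, hy⟩)
    obtain ⟨x', hx', e⟩ := hmem
    exact ⟨x', specializes_iff_mem_closure.2 hx', e⟩
  refine (hasRk_stalk_iff (P := pullback q σ) x' n).1 (h k' hfin x' hxa) y hx' ?_
  rw [stalk_dim_le_iff (pullback.snd q σ)]
  intro w hw
  have hy' : pullback.fst q σ y = c := hy
  rw [htrd, htrd]
  have := hdim (pullback.fst q σ w) (by
    have h2 := hw.map (pullback.fst q σ).continuous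
    rwa [hy'] at h2)
  rwa [hy']

end Groth.Agent.H46.FibreProf.GeomRk
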