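import Groth.Agent.H46.FibreProf.Strata
import Groth.Agent.H46.FibreProf.Cons2
import Groth.Agent.H46.FibreProf.AlongCons
import Groth.Agent.H46.FibreProf.PullFP
import Groth.Agent.Lib.Flat55.GenericStrataScheme
import Groth.Agent.Lib.Lim.IdealFP

/-!
# Constructibility of the fibre conditions without flatness, by generic flatness
-/

set_option autoImplicit false
set_option linter.style.haveILetI false

universe u

open CategoryTheory CategoryTheory.Limits AlgebraicGeometry IsLocalRing Topology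
open Groth.Agent.H46.FibreTrdeg Groth.Agent.H46.DimData Groth.Agent.H46.FibreProf.Basic
open Groth.Agent.H46.FibreProf.Open Groth.Agent.H46.FibreProf.Strata

namespace Groth.Agent.H46.FibreProf.StrataCons

open Groth.Agent.Lib
open Groth.Agent.Lib.ProCons45.Basic (isLocallyConstructible_compl)

/-- The inclusion of a stratum is a quasi-compact immersion locally of finite presentation. -/
theorem stratum_props {S : Scheme.{u}} (K K' : S.IdealSheafData) (hK : Lib.Lim.IdealExt.IsFG K)
    (hK' : Lib.Lim.IdealExt.IsFG K') :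
    QuasiCompact (K.subschemeι ⁻¹ᵁ K'.support.compl).ι ∧ LocallyOfFinitePresentation K.subschemeι := by
  refine ⟨?_, Lib.Lim.IdealFP.lfp_subschemeι K hK⟩
  haveI := Lib.Lim.IdealFP.lfp_subschemeι K' hK'
  have h1 : IsLocallyConstructible (K'.support : Set S) := by
    rw [← K'.range_subschemeι, ← Set.image_univ]
    exact K'.subschemeι.isLocallyConstructible_image IsLocallyConstructible.univ
  have h2 := AlongCons.isRetrocompact_of_isLocallyConstructible
    (H47.ConsPreimage.isLocallyConstructible_preimage K.subschemeι (isLocallyConstructible_compl h1))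
  let O := K.subschemeι ⁻¹ᵁ K'.support.compl
  refine ⟨fun W hWo hW => ?_⟩
  rw [O.ι.isEmbedding.isInducing.isCompact_iff, Set.image_preimage_eq_inter_range,
    Scheme.Opens.range_ι, Set.inter_comm]
  exact h2 hW hWo

/-- A set which is constructible on every flat stratum is locally constructible. -/
theorem isLocallyConstructible_of_flat {X S : Scheme.{u}} (f : X ⟶ S) [LocallyOfFinitePresentation f]
    (F : X.Modules) [F.IsQuasicoherent] (hfp : CohB1.IsFP F) (s : Set X)
    (h : ∀ {X₁ S₁ : Scheme.{u}} (f₁ : X₁ ⟶ S₁) (p₁ : X₁ ⟶ X) {X₂ S₂ : Scheme.{u}} (f₂ : X₂ ⟶ S₂)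
      (p₂ : X₂ ⟶ X₁) [LocallyOfFinitePresentation f₁] [LocallyOfFinitePresentation f₂],
      Cmp f f₁ p₁ → Cmp f₁ f₂ p₂ →
      CohB1.IsFP ((Scheme.Modules.pullback p₁).obj F) →
      CohB1.IsFP ((Scheme.Modules.pullback p₂).obj ((Scheme.Modules.pullback p₁).obj F)) →
      FlatMod.IsFlatOver f₂ ((Scheme.Modules.pullback p₂).obj ((Scheme.Modules.pullback p₁).obj F)) →
      IsLocallyConstructible ((p₂ ≫ p₁) ⁻¹' s)) :
    IsLocallyConstructible s := by
  refine Cons.isLocallyConstructible_of_charts fun x₀ => ?_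
  obtain ⟨V, hV, hxV, -⟩ := exists_isAffineOpen_mem_and_subset (X := S) (x := f x₀) (U := ⊤) trivial
  obtain ⟨U, hU, hxU, hUV⟩ := exists_isAffineOpen_mem_and_subset (X := X) (x := x₀) (U := f ⁻¹ᵁ V) hxV
  refine ⟨U, hU, hxU, ?_⟩
  haveI : IsAffine (U : Scheme.{u}) := hU
  haveI : IsAffine (V : Scheme.{u}) := hV
  let g : (U : Scheme.{u}) ⟶ (V : Scheme.{u}) := f.resLE V U hUV
  have hg : U.ι ≫ f = g ≫ V.ι := (Scheme.Hom.resLE_comp_ι f hUV).symm
  haveI : LocallyOfFinitePresentation (g ≫ V.ι) := hg ▸ inferInstance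
  haveI : LocallyOfFinitePresentation g := Lib.Lim.OpenImm.lfp_of_comp g V.ι
  haveI : CompactSpace (V : Scheme.{u}) := inferInstance
  haveI : QuasiCompact g := inferInstance
  let G := (Scheme.Modules.pullback U.ι).obj F
  have hGfp : CohB1.IsFP G := PullFP.isFP_pullback U.ι F hfp
  haveI : G.IsQuasicoherent := H26.FreeCrit.isQuasicoherent_of_isFP hGfp
  have hc₁ : Cmp f g U.ι := Strata.cmp_of_isOpenImmersion (v := V.ι) hg
  obtain ⟨t, I, h0, hl, hfg, hstep⟩ := Flat55.GenericStrataScheme.exists_stratification g G hGfp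
  let T : Fin t → Scheme.{u} := fun i => ((I i.castSucc).subschemeι ⁻¹ᵁ (I i.succ).support.compl : _)
  let v : ∀ i, T i ⟶ (V : Scheme.{u}) := fun i =>
    ((I i.castSucc).subschemeι ⁻¹ᵁ (I i.succ).support.compl).ι ≫ (I i.castSucc).subschemeι
  have hv : ∀ i, IsPreimmersion (v i) ∧ LocallyOfFinitePresentation (v i) ∧ QuasiCompact (v i) :=
    fun i => by
      obtain ⟨h1, h2⟩ := stratum_props (I i.castSucc) (I i.succ) (hfg _) (hfg _)
      exact ⟨inferInstance, inferInstance, inferInstance⟩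
  have hrange : ∀ i z, z ∈ Set.range (v i) ↔ z ∈ (I i.castSucc).support ∧ z ∉ (I i.succ).support := by
    intro i z
    constructor
    · rintro ⟨w, rfl⟩
      exact ⟨(Scheme.IdealSheafData.range_subschemeι _).subset ⟨_, rfl⟩, w.2⟩
    · rintro ⟨hz, hz'⟩
      obtain ⟨w, rfl⟩ := (Scheme.IdealSheafData.range_subschemeι _).ge hz
      exact ⟨⟨w, hz'⟩, rfl⟩
  have hcover : ∀ z : (V : Scheme.{u}), ∃ i, z ∈ Set.range (v i) := by
    intro z
    have hlast : z ∉ (I (Fin.last t)).support := by
      rw [hl, Scheme.IdealSheafData.support_top]; exact id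
    by_contra hno
    push Not at hno
    have : ∀ j : Fin (t + 1), z ∈ (I j).support := by
      intro j
      induction j using Fin.induction with
      | zero => rw [h0, Scheme.IdealSheafData.support_bot]; trivial
      | succ i ih => exact by_contra fun hn => hno i ((hrange i z).2 ⟨ih, hn⟩)
    exact hlast (this _)
  have hgood : ∀ i, IsLocallyConstructible
      (pullback.fst g (v i) '' ((pullback.fst g (v i) ≫ U.ι) ⁻¹' s)) := by
    intro i
    obtain ⟨hv1, hv2, hv3⟩ := hv i
    haveI := hv1; haveI := hv2; haveI := hv3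
    haveI : LocallyOfFinitePresentation (pullback.snd g (v i)) :=
      MorphismProperty.pullback_snd _ _ ‹LocallyOfFinitePresentation g›
    have hc₂ : Cmp g (pullback.snd g (v i)) (pullback.fst g (v i)) :=
      Strata.cmp_of_isPullback (IsPullback.of_hasPullback g (v i))
    exact (pullback.fst g (v i)).isLocallyConstructible_image
      (h g U.ι (pullback.snd g (v i)) (pullback.fst g (v i)) hc₁ hc₂ hGfp
        (PullFP.isFP_pullback _ G hGfp) (hstep i).2.2)
  have hun : U.ι ⁻¹' s = ⋃ i, pullback.fst g (v i) '' ((pullback.fst g (v i) ≫ U.ι) ⁻¹' s) := by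
    ext u
    simp only [Set.mem_iUnion, Set.mem_image]
    constructor
    · intro hu
      obtain ⟨i, w, hw⟩ := hcover (g u)
      obtain ⟨z, hz, -⟩ := Scheme.Pullback.exists_preimage_pullback (f := g) (g := v i) u w hw.symm
      exact ⟨i, z, by rw [Set.mem_preimage, Scheme.Hom.comp_apply, hz]; exact hu, hz⟩
    · rintro ⟨i, z, hz, rfl⟩
      rw [Set.mem_preimage, ← Scheme.Hom.comp_apply]
      exact hz
  have hfin : IsLocallyConstructible (U.ι ⁻¹' s) := hun ▸ IsLocallyConstructible.iUnion hgood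
  have h2 := H47.ConsPreimage.isLocallyConstructible_preimage hU.isoSpec.inv hfin
  refine IsLocallyConstructible.isConstructible ?_
  convert h2 using 1
  ext q
  show hU.fromSpec q ∈ s ↔ U.ι (hU.isoSpec.inv q) ∈ s
  rw [← Scheme.Hom.comp_apply, IsAffineOpen.fromSpec]

variable {X S : Scheme.{u}} (f : X ⟶ S) [LocallyOfFinitePresentation f] (F : X.Modules)
  [F.IsQuasicoherent] (hfp : CohB1.IsFP F)

include hfp

theorem isLocallyConstructible_le_psi (n : ℕ) :
    IsLocallyConstructible {x : X | (n : ℕ∞) ≤ psi f F x} := by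
  refine isLocallyConstructible_of_flat f F hfp _ ?_
  intro X₁ S₁ f₁ p₁ X₂ S₂ f₂ p₂ _ _ hc₁ hc₂ h1 h2 hflat
  convert Cons.isLocallyConstructible_le_psi f₂ _ h2 hflat n using 1
  ext z
  show _ ≤ psi f F ((p₂ ≫ p₁) z) ↔ _
  rw [Scheme.Hom.comp_apply, ← Strata.psi_eq hc₁, ← Strata.psi_eq hc₂]
  rfl

theorem isLocallyConstructible_cop (k : ℕ) : IsLocallyConstructible {x : X | Cop f F k x} := by
  haveI := hfp
  refine isLocallyConstructible_of_flat f F hfp _ ?_
  intro X₁ S₁ f₁ p₁ X₂ S₂ f₂ p₂ _ _ hc₁ hc₂ h1 h2 hflat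
  haveI := h1; haveI := h2
  convert Cons.isLocallyConstructible_cop f₂ _ h2 hflat k using 1
  ext z
  show Cop f F k ((p₂ ≫ p₁) z) ↔ _
  rw [Scheme.Hom.comp_apply, ← Strata.cop_iff hc₁, ← Strata.cop_iff hc₂]
  rfl

theorem isLocallyConstructible_sk (k : ℕ) : IsLocallyConstructible {x : X | Sk f F k x} := by
  haveI := hfp
  refine isLocallyConstructible_of_flat f F hfp _ ?_
  intro X₁ S₁ f₁ p₁ X₂ S₂ f₂ p₂ _ _ hc₁ hc₂ h1 h2 hflat
  haveI := h1; haveI := h2
  convert Cons.isLocallyConstructible_sk f₂ _ h2 hflat k using 1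
  ext z
  show Sk f F k ((p₂ ≫ p₁) z) ↔ _
  rw [Scheme.Hom.comp_apply, ← Strata.sk_iff hc₁, ← Strata.sk_iff hc₂]
  rfl

end Groth.Agent.H46.FibreProf.StrataCons
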