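import Groth.Agent.H46.FibreProf.RkCons
import Groth.Agent.H46.FibreProf.Unit
import Groth.Agent.H46.FibreProf.StrataCons
import Groth.Agent.H52.FBase.StalkBC
import Groth.Agent.Lib.EGA75.FieldExt

/-!
# Geometric normality in the fibres: `(R₁)` and `(S₂)`
-/

set_option autoImplicit false
set_option linter.style.haveILetI false

universe u

open CategoryTheory CategoryTheory.Limits AlgebraicGeometry IsLocalRing Topology TensorProduct
open Groth.Agent.H46.FibreProf.Basic Groth.Agent.H46.FibreProf.Open

namespace Groth.Agent.H46.FibreProf.NormalCons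

open Groth.Agent.Lib Groth.Agent.H52.FBase

theorem hasSk_atPrime_self {R : Type u} [CommRing R] (Q : Ideal R) [Q.IsPrime] (n : ℕ) :
    EGA4.HasSkAt n R R Q ↔ LocCoh.HasSk n (Localization.AtPrime Q) (Localization.AtPrime Q) :=
  ⟨Unit.hasSk_congr (LinearEquiv.refl _ _), Unit.hasSk_congr (LinearEquiv.refl _ _)⟩

section field

variable {k : Type u} [Field k] {F : Scheme.{u}} (q : F ⟶ Spec (CommRingCat.of k))
  [LocallyOfFiniteType q] (a : F)

/-- Serre's conditions are insensitive to field extensions. -/
theorem hasSk_bc_iff (n : ℕ) (K : Type u) [Field K] [Algebra k K] (x' : ↥(FBase.bc q K))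
    (hx' : (FBase.bcπ q K).base x' = a) :
    LocCoh.HasSk n ((FBase.bc q K).presheaf.stalk x') ((FBase.bc q K).presheaf.stalk x') ↔
      LocCoh.HasSk n (F.presheaf.stalk a) (F.presheaf.stalk a) := by
  letI : F.Over (Spec (CommRingCat.of k)) := ⟨q⟩
  haveI : LocallyOfFiniteType (F ↘ Spec (CommRingCat.of k)) := ‹LocallyOfFiniteType q›
  haveI : IsLocallyNoetherian F := LocallyOfFiniteType.isLocallyNoetherian q
  let R := StalkBC.Ox q a
  haveI : Algebra.EssFiniteType k R := H2.Rigid.GeomRegPt.essFiniteType_O k F a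
  obtain ⟨Q, rfl⟩ := StalkBC.exists_j_eq q a K x' (specializes_of_eq hx')
  let T := R ⊗[k] K
  haveI : IsNoetherianRing (K ⊗[k] R) := Algebra.EssFiniteType.isNoetherianRing K _
  haveI : IsNoetherianRing T :=
    isNoetherianRing_of_ringEquiv (K ⊗[k] R) (Algebra.TensorProduct.comm k K R).toRingEquiv
  have hfib : ∀ (p : Ideal R) [p.IsPrime], LocCoh.IsCohenMacaulayRing (p.Fiber T) := by
    intro p _
    haveI : Algebra.EssFiniteType R p.ResidueField := inferInstance
    haveI : Algebra.EssFiniteType k p.ResidueField := Algebra.EssFiniteType.comp k R p.ResidueField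
    exact EGA75.CM.isoInvariant_ring (p.ResidueField ⊗[k] K) _
      (Algebra.TensorProduct.cancelBaseChange k R R p.ResidueField K).symm.toRingEquiv
      (EGA75.CMTensor.isCohenMacaulayRing_tensor k p.ResidueField K)
  have h := (EGA75.FieldExt.of_cm_fibres R T hfib Q.asIdeal n).2
  have hmax : Q.asIdeal.comap (algebraMap R T) = maximalIdeal R :=
    (StalkBC.j_π_eq_iff q a K Q).1 hx'
  simp only [hmax, hasSk_atPrime_self] at h
  let e₁ : R ≃+* Localization.AtPrime (maximalIdeal R) :=
    RingEquiv.ofBijective (algebraMap R (Localization.AtPrime (maximalIdeal R)))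
      (IsLocalization.atUnits R (maximalIdeal R).primeCompl (fun x hx => by
        show IsUnit x
        simpa [mem_nonunits_iff] using hx)).bijective
  constructor
  · intro hS
    exact (EGA75.Sn.isoInvariant_ring n _ _ e₁.symm
      (h.2 (EGA75.Sn.isoInvariant_ring n _ _ (StalkBC.stalkEquiv q a K Q) hS)) :)
  · intro hS
    exact EGA75.Sn.isoInvariant_ring n _ _ (StalkBC.stalkEquiv q a K Q).symm
      (h.1 (EGA75.Sn.isoInvariant_ring n R _ e₁ hS))

theorem exists_point_over (K : Type u) [Field K] [Algebra k K] :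
    ∃ x' : ↥(FBase.bc q K), (FBase.bcπ q K).base x' = a := by
  haveI : Subsingleton ↥(Spec (CommRingCat.of k)) := inferInstanceAs (Subsingleton (PrimeSpectrum k))
  obtain ⟨z, hz, -⟩ := Scheme.Pullback.exists_preimage_pullback (f := q)
    (g := Spec.map (CommRingCat.ofHom (algebraMap k K))) a (closedPoint K) (Subsingleton.elim _ _)
  exact ⟨z, hz⟩

theorem isLocallyNoetherian_bc (K : Type u) [Field K] [Algebra k K] :
    IsLocallyNoetherian (FBase.bc q K) :=
  @LocallyOfFiniteType.isLocallyNoetherian _ _
    (pullback.snd q (Spec.map (CommRingCat.ofHom (algebraMap k K))))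
    (MorphismProperty.pullback_snd q _ ‹LocallyOfFiniteType q›) inferInstance

end field

/-- Normality of a Noetherian local ring. -/
theorem normal_local_iff (A : Type u) [CommRing A] [IsLocalRing A] [IsNoetherianRing A] :
    (IsDomain A ∧ IsIntegrallyClosed A) ↔ LocCoh.HasRk 1 A ∧ LocCoh.HasSk 2 A A := by
  refine ⟨fun ⟨_, _⟩ => H18.SerreCrit.normal_iff.1 fun p _ => ⟨inferInstance, ?_⟩,
    fun ⟨hR, hS⟩ => H18.SerreCrit.isDomain_isIntegrallyClosed A hR hS⟩
  exact isIntegrallyClosed_of_isLocalization _ p.primeCompl p.primeCompl_le_nonZeroDivisors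

variable {X S : Scheme.{u}} (f : X ⟶ S) [LocallyOfFinitePresentation f]

theorem normal_iff (x : X)
    [(Coh.structureModule X).IsQuasicoherent]
    [SheafOfModules.IsFiniteType (R := X.ringCatSheaf) (Coh.structureModule X)] :
    (∀ (K : Type u) [Field K] [Algebra (IsLocalRing.ResidueField (S.presheaf.stalk (f.base x))) K]
        (x' : ↥(FBase.bc (f.fiberToSpecResidueField (f.base x)) K)),
        (FBase.bcπ (f.fiberToSpecResidueField (f.base x)) K).base x' = f.asFiber x →
          (IsDomain ((FBase.bc (f.fiberToSpecResidueField (f.base x)) K).presheaf.stalk x') ∧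
            IsIntegrallyClosed ((FBase.bc (f.fiberToSpecResidueField (f.base x)) K).presheaf.stalk x'))) ↔
      RkCons.Rk f 1 x ∧ Sk f (Coh.structureModule X) 2 x := by
  let s := f.base x
  let κ := IsLocalRing.ResidueField (S.presheaf.stalk s)
  haveI : LocallyOfFiniteType (X := f.fiber s) (Y := Spec (CommRingCat.of κ))
      (f.fiberToSpecResidueField s) := FibreTrdeg.locallyOfFiniteType_fiberTo' f s
  have hSk := Unit.hasSk_iff f s (f.asFiber x) 2
  rw [f.fiberι_asFiber] at hSk
  have hnoeth : ∀ (K : Type u) [Field K] [Algebra κ K],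
      IsLocallyNoetherian (FBase.bc (f.fiberToSpecResidueField s) K) := fun K iF iA =>
    isLocallyNoetherian_bc (k := κ) (f.fiberToSpecResidueField s) K
  rw [RkCons.rk_iff_forall, ← hSk]
  constructor
  · intro h
    refine ⟨fun K _ _ x' hx' => ?_, ?_⟩
    · haveI := hnoeth K
      exact ((normal_local_iff _).1 (h K x' hx')).1
    · letI : Algebra κ κ := Algebra.id κ
      haveI := hnoeth κ
      obtain ⟨x', hx'⟩ := exists_point_over (k := κ) (f.fiberToSpecResidueField s) (f.asFiber x) κ
      exact (hasSk_bc_iff (k := κ) (f.fiberToSpecResidueField s) (f.asFiber x) 2 κ x' hx').1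
        ((normal_local_iff _).1 (h κ x' hx')).2
  · rintro ⟨hR, hS⟩ K iF iA x' hx'
    haveI := hnoeth K
    exact (normal_local_iff _).2 ⟨hR K x' hx',
      (hasSk_bc_iff (k := κ) (f.fiberToSpecResidueField s) (f.asFiber x) 2 K x' hx').2 hS⟩

theorem isLocallyConstructible_normal :
    IsLocallyConstructible {x : X |
      ∀ (K : Type u) [Field K] [Algebra (IsLocalRing.ResidueField (S.presheaf.stalk (f.base x))) K]
        (x' : ↥(FBase.bc (f.fiberToSpecResidueField (f.base x)) K)),
        (FBase.bcπ (f.fiberToSpecResidueField (f.base x)) K).base x' = f.asFiber x →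
          (IsDomain ((FBase.bc (f.fiberToSpecResidueField (f.base x)) K).presheaf.stalk x') ∧
            IsIntegrallyClosed ((FBase.bc (f.fiberToSpecResidueField (f.base x)) K).presheaf.stalk x'))} := by
  haveI := Unit.isFP_structureModule X
  haveI := H26.FreeCrit.isQuasicoherent_of_isFP (Unit.isFP_structureModule X)
  convert (RkCons.isLocallyConstructible_rk f 1).inter
    (StrataCons.isLocallyConstructible_sk f (Coh.structureModule X) (Unit.isFP_structureModule X) 2)
    using 1
  ext x
  exact normal_iff f x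

end Groth.Agent.H46.FibreProf.NormalCons
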