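import Groth.Agent.H46.FibreProf.OpenGeom
import Groth.Agent.H46.NoethModel
import Groth.Agent.H19.IntClosBC.Unibranch
import Groth.Agent.Lib.AlgSpRed.Stalk
import Groth.Agent.H2.Rigid.GeomNormal

/-!
# Geometric unibranchness ascends along morphisms which are normal at a point (EGA IV 14.4.2)
-/

set_option autoImplicit false
set_option linter.style.haveILetI false
universe u

open CategoryTheory CategoryTheory.Limits AlgebraicGeometry TensorProduct
open Groth.Agent.H46.UnivOpenFinite Groth.Agent.H2.Rigid.GeomNormal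

namespace Groth.Agent.H46.FibreProf.NormalUB

variable {X S : Scheme.{u}}

/-- Geometric normality at a point of the fibre, through field valued points of the base. -/
def GN (f : X ⟶ S) (x : X) : Prop :=
  ∀ (K : Type u) [Field K] (t : Spec (CommRingCat.of K) ⟶ S) (z : ↥(pullback f t)),
    pullback.fst f t z = x → NormalAt (pullback f t) z

theorem normalAt_iso {A B : Scheme.{u}} (e : A ≅ B) (a : A) (h : NormalAt A a) : NormalAt B (e.hom a) :=
  normalAt_map e.hom a h

theorem normalAt_of_flat_preimmersion {A B : Scheme.{u}} (j : A ⟶ B) [Flat j] [IsPreimmersion j] (a : A)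
    (h : NormalAt B (j a)) : NormalAt A a :=
  normal_of_equiv (RingEquiv.ofBijective (j.stalkMap a).hom (H52.FBase.StalkBC.bijective_stalkMap j a)) h

theorem exists_algebra_factor (f : X ⟶ S) (x : X) {K : Type u} [Field K]
    (t : Spec (CommRingCat.of K) ⟶ S) (ht : t (IsLocalRing.closedPoint K) = f x) :
    ∃ i : Algebra (IsLocalRing.ResidueField (S.presheaf.stalk (f x))) K, letI := i
      Spec.map (CommRingCat.ofHom (algebraMap (IsLocalRing.ResidueField (S.presheaf.stalk (f x))) K)) ≫
        S.fromSpecResidueField (f x) = t := by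
  obtain ⟨ψ, hψ⟩ : ∃ ψ : S.residueField (f x) ⟶ CommRingCat.of K,
      Spec.map ψ ≫ S.fromSpecResidueField (f x) = t := by
    rw [← ht]
    exact ⟨_, Scheme.descResidueField_stalkClosedPointTo_fromSpecResidueField K S t⟩
  exact ⟨ψ.hom.toAlgebra, hψ⟩

theorem gn_of_forall (f : X ⟶ S) (x : X)
    (h : ∀ (K : Type u) [Field K] [Algebra (IsLocalRing.ResidueField (S.presheaf.stalk (f x))) K]
        (x' : ↥(FBase.bc (f.fiberToSpecResidueField (f x)) K)),
        FBase.bcπ (f.fiberToSpecResidueField (f x)) K x' = f.asFiber x →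
          NormalAt (FBase.bc (f.fiberToSpecResidueField (f x)) K) x') : GN f x := by
  intro K _ t z hz
  obtain ⟨i, hi⟩ := exists_algebra_factor f x t (by
    rw [← hz, ← Scheme.Hom.comp_apply, pullback.condition, Scheme.Hom.comp_apply]
    exact congrArg t (Subsingleton.elim (α := PrimeSpectrum K) _ _))
  letI := i
  subst hi
  let σ := Spec.map (CommRingCat.ofHom (algebraMap (IsLocalRing.ResidueField (S.presheaf.stalk (f x))) K))
  let e := pullbackLeftPullbackSndIso f (S.fromSpecResidueField (f x)) σ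
  have hpt : FBase.bcπ (f.fiberToSpecResidueField (f x)) K (e.inv z) = f.asFiber x := by
    refine (f.fiberι (f x)).isEmbedding.injective ?_
    rw [f.fiberι_asFiber]
    refine Eq.trans ?_ hz
    exact congrArg (fun m => m z) (pullbackLeftPullbackSndIso_inv_fst f (S.fromSpecResidueField (f x)) σ)
  have := normalAt_iso e (e.inv z) (h K (e.inv z) hpt)
  rwa [← Scheme.Hom.comp_apply, e.inv_hom_id] at this

theorem forall_of_gn (f : X ⟶ S) (x : X) (h : GN f x) (K : Type u) [Field K]
    [Algebra (IsLocalRing.ResidueField (S.presheaf.stalk (f x))) K]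
    (x' : ↥(FBase.bc (f.fiberToSpecResidueField (f x)) K))
    (hx' : FBase.bcπ (f.fiberToSpecResidueField (f x)) K x' = f.asFiber x) :
    NormalAt (FBase.bc (f.fiberToSpecResidueField (f x)) K) x' := by
  let σ := Spec.map (CommRingCat.ofHom (algebraMap (IsLocalRing.ResidueField (S.presheaf.stalk (f x))) K))
  let e := pullbackLeftPullbackSndIso f (S.fromSpecResidueField (f x)) σ
  refine normalAt_of_flat_preimmersion e.hom x' (h K (σ ≫ S.fromSpecResidueField (f x)) _ ?_)
  refine Eq.trans (congrArg (fun m => m x')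
    (pullbackLeftPullbackSndIso_hom_fst f (S.fromSpecResidueField (f x)) σ)) ?_
  show f.fiberι (f x) (FBase.bcπ (f.fiberToSpecResidueField (f x)) K x') = x
  rw [hx', f.fiberι_asFiber]

theorem gn_of_isOpenImmersion {U : Scheme.{u}} (i : U ⟶ X) [IsOpenImmersion i] (f : X ⟶ S) (u : U)
    (h : GN f (i u)) : GN (i ≫ f) u := by
  intro K _ t z hz
  let k : pullback (i ≫ f) t ⟶ pullback f t :=
    pullback.lift (pullback.fst _ _ ≫ i) (pullback.snd _ _) (by rw [Category.assoc, pullback.condition])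
  have hk : IsPullback (pullback.fst (i ≫ f) t) k i (pullback.fst f t) :=
    IsPullback.of_bot (h₃₁ := t) (v₂₁ := pullback.snd f t) (v₂₂ := f) (by
      rw [pullback.lift_snd]
      exact IsPullback.of_hasPullback (i ≫ f) t) (pullback.lift_fst _ _ _).symm
      (IsPullback.of_hasPullback f t)
  haveI : IsOpenImmersion k := MorphismProperty.of_isPullback hk inferInstance
  refine normalAt_of_flat_preimmersion k z (h K t _ ?_)
  rw [← Scheme.Hom.comp_apply, pullback.lift_fst, Scheme.Hom.comp_apply, hz]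

/-- Geometric normality at a point descends to any model of which the morphism is a base change. -/
theorem gn_descend {U V X₀ Y₀ : Scheme.{u}} {a : U ⟶ X₀} {f₁ : U ⟶ V} {f₀ : X₀ ⟶ Y₀} {b : V ⟶ Y₀}
    (sq : IsPullback a f₁ f₀ b) (u : U) (h : GN f₁ u) : GN f₀ (a u) := by
  intro K _ t z hz
  let W := pullback (pullback.fst f₀ t) a
  obtain ⟨e, he₁, he₂⟩ := Scheme.Pullback.exists_preimage_pullback (f := pullback.fst f₀ t) (g := a) z u hz
  let e' : Spec (W.residueField e) ⟶ W := W.fromSpecResidueField e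
  let t₁ : Spec (W.residueField e) ⟶ V := e' ≫ pullback.snd _ _ ≫ f₁
  let t₀ : Spec (W.residueField e) ⟶ Spec (CommRingCat.of K) := e' ≫ pullback.fst _ _ ≫ pullback.snd f₀ t
  have htt : t₁ ≫ b = t₀ ≫ t := by
    simp only [t₁, t₀, Category.assoc]
    rw [← pullback.condition (f := f₀) (g := t), ← Category.assoc (pullback.fst (pullback.fst f₀ t) a),
      pullback.condition, Category.assoc, ← sq.w]
  let π : pullback f₁ t₁ ⟶ pullback f₀ t :=
    pullback.lift (pullback.fst _ _ ≫ a) (pullback.snd _ _ ≫ t₀)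
      (by rw [Category.assoc, sq.w, ← Category.assoc, pullback.condition, Category.assoc, htt]; simp only [t₀, Category.assoc])
  have hπ : IsPullback π (pullback.snd f₁ t₁) (pullback.snd f₀ t) t₀ :=
    IsPullback.of_right (h₁₂ := pullback.fst f₀ t) (v₁₃ := f₀) (h₂₂ := t) (by
      rw [pullback.lift_fst, ← htt]
      exact (IsPullback.of_hasPullback f₁ t₁).paste_horiz sq) (pullback.lift_snd _ _ _)
      (IsPullback.of_hasPullback f₀ t)
  haveI : Flat t₀ := by
    obtain ⟨ψ, hψ⟩ := Spec.map_surjective t₀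
    rw [← hψ, HasRingHomProperty.Spec_iff (P := @Flat)]
    letI : Algebra K (W.residueField e) := ψ.hom.toAlgebra
    exact RingHom.flat_algebraMap_iff.2 inferInstance
  haveI : Flat π := MorphismProperty.of_isPullback hπ.flip ‹Flat t₀›
  let w : Spec (W.residueField e) ⟶ pullback f₁ t₁ :=
    pullback.lift (e' ≫ pullback.snd _ _) (𝟙 _) (by rw [Category.assoc, Category.id_comp])
  let p : Spec (W.residueField e) := IsLocalRing.closedPoint (W.residueField e)
  have hw : pullback.fst f₁ t₁ (w p) = u := by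
    rw [← Scheme.Hom.comp_apply, pullback.lift_fst, Scheme.Hom.comp_apply]
    exact (congrArg _ (Scheme.fromSpecResidueField_apply e p)).trans he₂
  have hπw : w ≫ π = e' ≫ pullback.fst _ _ := by
    refine pullback.hom_ext ?_ ?_
    · rw [Category.assoc, pullback.lift_fst, ← Category.assoc, pullback.lift_fst, Category.assoc,
        Category.assoc, ← pullback.condition]
    · rw [Category.assoc, pullback.lift_snd, ← Category.assoc, pullback.lift_snd, Category.id_comp,
        Category.assoc]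
  have hn := normalAt_of_flat π (w p) (h _ t₁ (w p) hw)
  rwa [← Scheme.Hom.comp_apply, hπw, Scheme.Hom.comp_apply,
    show e' p = e from Scheme.fromSpecResidueField_apply e p, he₁] at hn

variable (R₀ A₁ : Type u) [CommRing R₀] [CommRing A₁] [Algebra R₀ A₁]

/-- A flat algebra geometrically normal at every point is a normal homomorphism. -/
theorem isNormalHom_of_gn [Module.Flat R₀ A₁] (h : ∀ Q, GN (sm R₀ A₁) Q) : EGA4.IsNormalHom R₀ A₁ := by
  refine ⟨inferInstance, fun p _ k _ _ _ => ?_⟩
  letI : Algebra R₀ k := ((algebraMap p.ResidueField k).comp (algebraMap R₀ p.ResidueField)).toAlgebra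
  haveI : IsScalarTower R₀ p.ResidueField k := IsScalarTower.of_algebraMap_eq fun _ => rfl
  have hk : EGA4.IsNormalRing (k ⊗[R₀] A₁) := by
    intro P _
    let z : Spec (CommRingCat.of (k ⊗[R₀] A₁)) := (⟨P, ‹_›⟩ : PrimeSpectrum _)
    let e := (isPullback_pr (R₀ := R₀) (A := A₁) k).isoPullback
    have hn := normalAt_of_flat_preimmersion e.hom z (h _ k (sm R₀ k) (e.hom z) rfl)
    exact normal_of_equiv (Spec.stalkIso (CommRingCat.of (k ⊗[R₀] A₁)) z).commRingCatIsoToRingEquiv hn
  exact Lib.NormalTensor.Basic.isNormalRing_congr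
    (Algebra.TensorProduct.cancelBaseChange R₀ p.ResidueField k k A₁).symm.toRingEquiv hk

variable (f : X ⟶ S) [LocallyOfFinitePresentation f]

/-- Geometric unibranchness ascends at a point where the morphism is normal. -/
theorem main (x : X) (hY : CAlg2.IsGeomUnibranch ↑(S.presheaf.stalk (f x)))
    (hflat : (f.stalkMap x).hom.Flat)
    (hnorm : ∀ (K : Type u) [Field K] [Algebra (IsLocalRing.ResidueField ↑(S.presheaf.stalk (f x))) K],
      Module.Finite (IsLocalRing.ResidueField ↑(S.presheaf.stalk (f x))) K →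
      ∀ x' : ↥(FBase.bc (f.fiberToSpecResidueField (f x)) K),
        FBase.bcπ (f.fiberToSpecResidueField (f x)) K x' = f.asFiber x →
        IsDomain ↑((FBase.bc (f.fiberToSpecResidueField (f x)) K).presheaf.stalk x') ∧
          IsIntegrallyClosed ↑((FBase.bc (f.fiberToSpecResidueField (f x)) K).presheaf.stalk x')) :
    CAlg2.IsGeomUnibranch ↑(X.presheaf.stalk x) := by
  haveI := Unit.isFP_structureModule X
  haveI := Groth.Agent.H26.FreeCrit.isQuasicoherent_of_isFP (Unit.isFP_structureModule X)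
  have hgn : GN f x := gn_of_forall f x fun K _ _ x' hx' =>
    (NormalCons.normal_iff f x).2 ((OpenGeom.normal_finite_iff f x).1 hnorm) K x' hx'
  obtain ⟨R, A, R₀, A₀, _, _, _, _, j, v, f₁, a, _, _, ⟨u, rfl⟩, hfac, sq, _, _, _, _, -, -⟩ :=
    NoethModel.exists_model_alg f x hflat
  let f₀ := sm R₀ A₀
  let b := Spec.map (CommRingCat.ofHom (algebraMap R₀ R))
  haveI : LocallyOfFinitePresentation f₀ :=
    (HasRingHomProperty.Spec_iff (P := @LocallyOfFinitePresentation)).2
      (RingHom.finitePresentation_algebraMap.2 ‹_›)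
  haveI : Flat f₀ := (HasRingHomProperty.Spec_iff (P := @Flat)).2 (RingHom.flat_algebraMap_iff.2 ‹_›)
  have hgn₁ : GN f₁ u := by
    have h := gn_of_isOpenImmersion j f u hgn
    rw [hfac] at h
    intro K _ t z hz
    have sqv : IsPullback (pullback.fst f₁ t) (pullback.snd f₁ t) (f₁ ≫ v) (t ≫ v) :=
      (by
        simpa using (IsPullback.of_hasPullback f₁ t).paste_horiz
          ((IsPullback.id_horiz f₁).paste_vert (IsKernelPair.id_of_mono v)))
    let e := sqv.isoPullback
    refine normalAt_of_flat_preimmersion e.hom z (h K (t ≫ v) _ ?_)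
    rw [← Scheme.Hom.comp_apply, sqv.isoPullback_hom_fst, hz]
  have hgn₀ := gn_descend sq u hgn₁
  haveI := Unit.isFP_structureModule (Spec (CommRingCat.of A₀))
  haveI := Groth.Agent.H26.FreeCrit.isQuasicoherent_of_isFP (Unit.isFP_structureModule (Spec (CommRingCat.of A₀)))
  have hx₀ : a u ∈ {x₀ | (f₀.stalkMap x₀).hom.Flat ∧
      ∀ (K : Type u) [Field K] [Algebra (IsLocalRing.ResidueField
          ((Spec (CommRingCat.of R₀)).presheaf.stalk (f₀.base x₀))) K],
        Module.Finite (IsLocalRing.ResidueField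
          ((Spec (CommRingCat.of R₀)).presheaf.stalk (f₀.base x₀))) K →
        ∀ x' : ↥(FBase.bc (f₀.fiberToSpecResidueField (f₀.base x₀)) K),
        (FBase.bcπ (f₀.fiberToSpecResidueField (f₀.base x₀)) K).base x' = f₀.asFiber x₀ →
          (IsDomain ((FBase.bc (f₀.fiberToSpecResidueField (f₀.base x₀)) K).presheaf.stalk x') ∧
            IsIntegrallyClosed ((FBase.bc (f₀.fiberToSpecResidueField (f₀.base x₀)) K).presheaf.stalk x'))} :=
    ⟨Flat.stalkMap f₀ (a u), fun K _ _ _ x' hx' => forall_of_gn f₀ (a u) hgn₀ K x' hx'⟩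
  obtain ⟨_, ⟨g, rfl⟩, hgu, hgO⟩ := PrimeSpectrum.isTopologicalBasis_basic_opens.exists_subset_of_mem_open
    hx₀ (OpenGeom.isOpen_normal f₀)
  let A₁ := Localization.Away g
  let i : Spec (CommRingCat.of A₁) ⟶ Spec (CommRingCat.of A₀) := sm A₀ A₁
  haveI : IsOpenImmersion i := IsOpenImmersion.of_isLocalization g
  have hir : Set.range i = ((PrimeSpectrum.basicOpen g : TopologicalSpace.Opens (PrimeSpectrum A₀)) : Set (PrimeSpectrum A₀)) := PrimeSpectrum.localization_away_comap_range A₁ g
  have hcomp : i ≫ f₀ = sm R₀ A₁ := by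
    show Spec.map _ ≫ Spec.map _ = Spec.map _
    rw [← Spec.map_comp, ← CommRingCat.ofHom_comp, ← IsScalarTower.algebraMap_eq]
  haveI : Module.Flat A₀ A₁ := IsLocalization.flat A₁ (Submonoid.powers g)
  haveI : Module.Flat R₀ A₁ := Module.Flat.trans R₀ A₀ A₁
  haveI : IsNoetherianRing A₁ := IsLocalization.isNoetherianRing (Submonoid.powers g) A₁ ‹_›
  have hN : EGA4.IsNormalHom R₀ A₁ := isNormalHom_of_gn R₀ A₁ fun Q => by
    rw [← hcomp]
    have hm := hgO (hir.le ⟨Q, rfl⟩)
    exact gn_of_isOpenImmersion i f₀ Q (gn_of_forall f₀ _ fun K _ _ x' hx' =>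
      (NormalCons.normal_iff f₀ _).2 ((OpenGeom.normal_finite_iff f₀ _).1 hm.2) K x' hx')
  -- the local chart
  let y := f (j u)
  let B := S.presheaf.stalk y
  have hyv : Set.range (S.fromSpecStalk y) ⊆ Set.range v := by
    rw [Scheme.range_fromSpecStalk]
    rintro y' (hy' : y' ⤳ y)
    refine hy'.mem_open v.isOpenEmbedding.isOpen_range ⟨f₁ u, ?_⟩
    rw [← Scheme.Hom.comp_apply, ← hfac, Scheme.Hom.comp_apply]
  let c := IsOpenImmersion.lift v (S.fromSpecStalk y) hyv
  have hcv : c ≫ v = S.fromSpecStalk y := IsOpenImmersion.lift_fac _ _ _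
  have hcsq : IsPullback (𝟙 _) c (S.fromSpecStalk y) v := by
    have h := (IsPullback.id_horiz c).paste_vert (IsKernelPair.id_of_mono v)
    rw [hcv, Category.comp_id] at h
    exact h
  haveI : Flat (S.fromSpecStalk y) := Lib.AlgSpRed.Stalk.flat_fromSpecStalk S y
  haveI : Flat c := MorphismProperty.of_isPullback hcsq ‹Flat (S.fromSpecStalk y)›
  haveI : IsPreimmersion c := MorphismProperty.of_isPullback hcsq inferInstance
  obtain ⟨φ, hφ⟩ := Spec.map_surjective (R := CommRingCat.of R₀) (S := B) (c ≫ b)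
  letI : Algebra R₀ B := φ.hom.toAlgebra
  have hφ' : sm R₀ B = c ≫ b := hφ
  have sqT : IsPullback (pr R₀ B A₁) (sm B (↑B ⊗[R₀] A₁)) (i ≫ f₀) (c ≫ b) := by
    rw [hcomp, ← hφ']
    exact isPullback_pr (R₀ := R₀) (A := A₁) B
  have sqQ : IsPullback (pullback.fst f₁ c ≫ a) (pullback.snd f₁ c) f₀ (c ≫ b) :=
    (IsPullback.of_hasPullback f₁ c).paste_horiz sq
  let k : Spec (CommRingCat.of (↑B ⊗[R₀] A₁)) ⟶ pullback f₁ c :=
    sqQ.lift (pr R₀ B A₁ ≫ i) (sm B (↑B ⊗[R₀] A₁)) (by rw [Category.assoc]; exact sqT.w)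
  have hk : IsPullback (pr R₀ B A₁) k i (pullback.fst f₁ c ≫ a) :=
    IsPullback.of_bot (h₃₁ := c ≫ b) (v₂₁ := pullback.snd f₁ c) (v₂₂ := f₀) (by
      rw [sqQ.lift_snd]
      exact sqT) (sqQ.lift_fst _ _ _).symm sqQ
  haveI : IsOpenImmersion k := MorphismProperty.of_isPullback hk inferInstance
  haveI : Flat (pullback.fst f₁ c) := MorphismProperty.pullback_fst _ _ inferInstance
  haveI : IsPreimmersion (pullback.fst f₁ c) := MorphismProperty.pullback_fst _ _ inferInstance
  let q₀ : Spec B := IsLocalRing.closedPoint B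
  have hcu : f₁ u = c q₀ := v.isOpenEmbedding.injective (by
    rw [← Scheme.Hom.comp_apply, ← hfac, Scheme.Hom.comp_apply, ← Scheme.Hom.comp_apply c v, hcv]
    exact (Scheme.fromSpecStalk_closedPoint).symm)
  obtain ⟨w, hw₁, hw₂⟩ := Scheme.Pullback.exists_preimage_pullback (f := f₁) (g := c) u q₀ hcu
  obtain ⟨τ, hτ⟩ : w ∈ Set.range k := by
    rw [← Set.image_univ, ← Set.preimage_univ (f := pr R₀ B A₁),
      Scheme.image_preimage_eq_of_isPullback hk, Set.image_univ, Set.mem_preimage, hir,
      Scheme.Hom.comp_apply, hw₁]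
    exact hgu
  let m := k ≫ pullback.fst f₁ c ≫ j
  have hmτ : m τ = j u := by
    rw [Scheme.Hom.comp_apply, hτ, Scheme.Hom.comp_apply, hw₁]
  haveI : Flat m := inferInstance
  haveI : IsPreimmersion m := inferInstance
  have hτc : sm B (↑B ⊗[R₀] A₁) τ = q₀ := by
    rw [← sqQ.lift_snd (pr R₀ B A₁ ≫ i) (sm B (↑B ⊗[R₀] A₁)) (by rw [Category.assoc]; exact sqT.w),
      Scheme.Hom.comp_apply]
    exact (congrArg _ hτ).trans hw₂
  have hq : (PrimeSpectrum.asIdeal τ).comap (algebraMap B (↑B ⊗[R₀] A₁)) = IsLocalRing.maximalIdeal B :=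
    congrArg PrimeSpectrum.asIdeal hτc
  have hloc := (H19.IntClosBC.Unibranch.main (B := B) hN hY (PrimeSpectrum.asIdeal τ) hq).1
  have h1 := Lib.Unram.UnibranchBirationalAlg.isGeomUnibranch_of_ringEquiv
    (Spec.stalkIso (CommRingCat.of (↑B ⊗[R₀] A₁)) τ).commRingCatIsoToRingEquiv.symm hloc
  have h2 := Lib.Unram.UnibranchBirationalAlg.isGeomUnibranch_of_ringEquiv
    (RingEquiv.ofBijective (m.stalkMap τ).hom (H52.FBase.StalkBC.bijective_stalkMap m τ)).symm h1
  rw [hmτ] at h2
  exact h2

end Groth.Agent.H46.FibreProf.NormalUB
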