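import Groth.Agent.H46.FibreProf.NormalCons
import Groth.Agent.H46.FibreProf.Equidim
import Groth.Agent.S2156
import Groth.Agent.H2.Rigid.GeomNormal

/-!
# Openness of geometric `(R_k)` and normality in the fibres of flat morphisms (EGA IV 12.1.6)
-/

set_option autoImplicit false
set_option linter.style.haveILetI false

universe u

open CategoryTheory CategoryTheory.Limits AlgebraicGeometry IsLocalRing Topology
open Groth.Agent.H46.FibreTrdeg Groth.Agent.H46.DimData Groth.Agent.H46.FibreProf.Basic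
open Groth.Agent.H46.FibreProf.Open Groth.Agent.H46.FibreProf.Equidim

namespace Groth.Agent.H46.FibreProf.OpenGeom

open Groth.Agent.Lib

variable {X S : Scheme.{u}} (f : X ⟶ S) [LocallyOfFinitePresentation f]
  [(Coh.structureModule X).IsQuasicoherent]
  [SheafOfModules.IsFiniteType (R := X.ringCatSheaf) (Coh.structureModule X)]

omit [LocallyOfFinitePresentation f] [(Coh.structureModule X).IsQuasicoherent]
  [SheafOfModules.IsFiniteType (R := X.ringCatSheaf) (Coh.structureModule X)] in
theorem mem_support (x : X) : x ∈ CohB1.support (Coh.structureModule X) := by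
  intro hs
  haveI : Subsingleton ((Coh.structureModule X).presheaf.stalk x) := hs
  exact not_subsingleton (X.presheaf.stalk x)
    (BettiExact.TorComp.stalkUnitEquiv X x).symm.toEquiv.subsingleton

/-- Associated primes of the local ring of the fibre. -/
theorem ass_iff (y : S) (a : f.fiber y) (q : PrimeSpectrum ((f.fiber y).presheaf.stalk a)) :
    q.asIdeal ∈ associatedPrimes ((f.fiber y).presheaf.stalk a) ((f.fiber y).presheaf.stalk a) ↔
      CInt.fiberDepth f (Coh.structureModule X) (f.fiberι y ((f.fiber y).fromSpecStalk a q)) = 0 := by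
  haveI := QFin.isLocallyNoetherian_fiber f y
  haveI := isQuasicoherent_fm f (Coh.structureModule X) y
  obtain ⟨e⟩ := Unit.stalk_equiv f y a
  rw [← LinearEquiv.AssociatedPrimes.eq e, StalkLoc.AssStalk.mem_associatedPrimes_stalk_iff, mem_ass_iff]

/-- The fibre is equidimensional at `x` without embedded cycle through `x`. -/
def Good (x : X) : Prop :=
  Sk f (Coh.structureModule X) 1 x ∧
    ∀ w w', FG f x w → FG f x w' → IsMaxSupp f (Coh.structureModule X) w →
      IsMaxSupp f (Coh.structureModule X) w' → trd f w = trd f w'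

theorem good_iff (y : S) (a : f.fiber y) :
    (EGA4.IsEquidim ((f.fiber y).presheaf.stalk a) ∧
      ∀ p ∈ associatedPrimes ((f.fiber y).presheaf.stalk a) ((f.fiber y).presheaf.stalk a),
        p ∈ minimalPrimes ((f.fiber y).presheaf.stalk a)) ↔ Good f (f.fiberι y a) := by
  haveI := QFin.isLocallyNoetherian_fiber f y
  let R := (f.fiber y).presheaf.stalk a
  obtain ⟨e⟩ := Unit.stalk_equiv f y a
  have hann : Module.annihilator R R = ⊥ := Ideal.ext fun r => by
    rw [Module.mem_annihilator, Ideal.mem_bot]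
    exact ⟨fun h => by simpa using h 1, fun h m => by simp [h]⟩
  rw [Good, ← isEquidimModule_iff f (Coh.structureModule X) y a, and_comm (a := EGA4.IsEquidim _)]
  refine and_congr ?_ ?_
  · rw [sk_one_iff]
    constructor
    · intro h w hw h0 w' hw' h0'
      obtain ⟨b, rfl, hb⟩ := fg_exists f hw
      obtain ⟨b', rfl, hb'⟩ := fg_exists f hw'
      let P := Lib.Cyc.DimFun.genPrime a b hb
      let P' := Lib.Cyc.DimFun.genPrime a b' (hb'.trans hb)
      have hP : P.asIdeal ∈ associatedPrimes R R := by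
        rw [ass_iff, Lib.Cyc.DimFun.fromSpecStalk_genPrime]; exact h0
      have hle : P' ≤ P := (Lib.Cyc.DimFun.genPrime_le_iff a b' b (hb'.trans hb) hb).2 hb'
      have heq : P' = P :=
        PrimeSpectrum.ext (le_antisymm hle ((h _ hP).2 ⟨P'.2, bot_le⟩ hle))
      rw [show b' = b from (Lib.Cyc.DimFun.fromSpecStalk_genPrime a b' (hb'.trans hb)).symm.trans
        ((congrArg _ heq).trans (Lib.Cyc.DimFun.fromSpecStalk_genPrime a b hb))]
    · intro h p hp
      haveI := hp.1
      obtain ⟨q, hq, hqp⟩ := Ideal.exists_minimalPrimes_le (bot_le : (⊥ : Ideal R) ≤ p)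
      let P : PrimeSpectrum R := ⟨p, hp.1⟩
      let Q : PrimeSpectrum R := ⟨q, hq.1.1⟩
      have hQ : q ∈ associatedPrimes R R :=
        Module.associatedPrimes.minimalPrimes_annihilator_subset_associatedPrimes R R (hann.symm ▸ hq)
      have hPa := Lib.Cyc.DimFun.fromSpecStalk_specializes_self a P
      have h1 := h _ ((fg_fiberι f).2 hPa) ((ass_iff f y a P).1 hp) _
        ((fg_fiberι f).2 ((Lib.Cyc.DimFun.fromSpecStalk_specializes_iff a Q P).2 hqp))
        ((ass_iff f y a Q).1 hQ)
      have h2 : Q = P := Lib.Cyc.DimFun.fromSpecStalk_injective a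
        ((f.fiberι y).isEmbedding.injective h1)
      rw [show p = q from (congrArg PrimeSpectrum.asIdeal h2).symm]
      exact hq
  · rw [EGA4.IsEquidim, EGA4.IsEquidimModule, LinearEquiv.annihilator_eq e, hann,
      Module.supportDim_eq_of_equiv e, Module.supportDim_self_eq_ringKrullDim]

theorem isMaxSupp_of_ass {x w : X} (hs : Sk f (Coh.structureModule X) 1 x) (hw : FG f x w)
    (h0 : CInt.fiberDepth f (Coh.structureModule X) w = 0) :
    IsMaxSupp f (Coh.structureModule X) w := by
  refine ⟨mem_support w, fun w' hw' hw'w => ?_⟩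
  obtain ⟨w'', hw'', h0''⟩ := exists_ass f (Coh.structureModule X) hw'
  have h1 := (sk_one_iff f (Coh.structureModule X) x).1 hs w hw h0 w''
    ⟨hw''.1.trans hw'w.1, hw''.2.trans hw'w.2⟩ h0''
  exact eq_of_trd_le f hw'w.2 hw'w.1 (h1 ▸ trd_le f hw''.2 hw''.1)

theorem fe_eq_of_good {x y : X} {e : ℕ} (hd : AssDims f (Coh.structureModule X) {e} x) (hy : FG f x y) :
    fe f y = e := by
  obtain ⟨ζ, hζ, hs, hmax, hζe⟩ := exists_fe_eq f y
  obtain ⟨w, hw, h0⟩ := exists_ass f (Coh.structureModule X) (mem_support ζ)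
  have : w = ζ := hmax w hw.1 hw.2
  subst this
  have h := hd w ⟨hζ.trans hy.1, hs.trans hy.2⟩ h0
  rw [Set.mem_singleton_iff] at h
  omega

theorem fibreSmooth_iff_mem_smoothLocus (y : X) (hy : (f.stalkMap y).hom.Flat) :
    RkCons.FibreSmooth f y ↔ y ∈ f.smoothLocus := by
  haveI := RkCons.lfp_fiberTo' f (f.base y)
  exact ((S2156.result f y).trans (and_iff_right hy)).symm

theorem isOpen_rk_good (n : ℕ) :
    IsOpen {x : X | (f.stalkMap x).hom.Flat ∧ RkCons.Rk f n x ∧ Good f x} := by
  have hfp := Unit.isFP_structureModule X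
  rw [isOpen_iff_forall_mem_open]
  rintro x₀ ⟨hx₀, hR, hS, hE⟩
  obtain ⟨w₀, hw₀, h00⟩ := exists_ass f (Coh.structureModule X) (mem_support x₀)
  let e := trd f w₀
  have hd : AssDims f (Coh.structureModule X) {e} x₀ := fun w hw h0 =>
    hE w w₀ hw hw₀ (isMaxSupp_of_ass f hS hw h0) (isMaxSupp_of_ass f hS hw₀ h00)
  refine ⟨{x | x ∈ Unit.flatLocus f ∧ Sk f (Coh.structureModule X) 1 x} ∩
    {x | x ∈ Unit.flatLocus f ∧ AssDims f (Coh.structureModule X) {e} x} ∩
    {x | ∀ w ∈ ((f.smoothLocus : X.Opens) : Set X)ᶜ, FG f x w → trd f w + (n + 1) ≤ e}, ?_,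
    ((isOpen_sk f _ hfp _ (Unit.flat_on_flatLocus f) 1).inter
      (isOpen_assDims f _ hfp _ (Unit.flat_on_flatLocus f) {e})).inter
        (isOpen_trd_add_le f f.smoothLocus.2.isClosed_compl _ e),
    ⟨⟨⟨hx₀, hS⟩, ⟨hx₀, hd⟩⟩, ?_⟩⟩
  · rintro x ⟨⟨⟨hx, hs⟩, ⟨-, hdx⟩⟩, hN⟩
    refine ⟨hx, fun y hy hfe => ?_, hs, fun w w' hw hw' hm hm' => ?_⟩
    · have hyU : y ∈ Unit.flatLocus f := hy.2.mem_open (Unit.flatLocus f).2 hx
      rw [fibreSmooth_iff_mem_smoothLocus f y hyU]
      by_contra hns
      have := hN y hns hy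
      rw [fe_eq_of_good f hdx hy] at hfe
      omega
    · have key : ∀ θ, FG f x θ → IsMaxSupp f (Coh.structureModule X) θ → trd f θ = e := by
        intro θ hθ hmθ
        obtain ⟨v, hv, h0⟩ := exists_ass f (Coh.structureModule X) hmθ.1
        have := hmθ.2 v (mem_support v) hv
        subst this
        exact hdx v hθ h0
      rw [key w hw hm, key w' hw' hm']
  · intro w hw hwx
    have hwU : w ∈ Unit.flatLocus f := hwx.2.mem_open (Unit.flatLocus f).2 hx₀
    by_contra hlt
    refine hw ((fibreSmooth_iff_mem_smoothLocus f w hwU).1 (hR w hwx ?_))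
    rw [fe_eq_of_good f hd hwx]
    omega

theorem normal_finite_iff (x : X) :
    (∀ (K : Type u) [Field K] [Algebra (IsLocalRing.ResidueField (S.presheaf.stalk (f.base x))) K],
        Module.Finite (IsLocalRing.ResidueField (S.presheaf.stalk (f.base x))) K →
        ∀ x' : ↥(FBase.bc (f.fiberToSpecResidueField (f.base x)) K),
        (FBase.bcπ (f.fiberToSpecResidueField (f.base x)) K).base x' = f.asFiber x →
          (IsDomain ((FBase.bc (f.fiberToSpecResidueField (f.base x)) K).presheaf.stalk x') ∧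
            IsIntegrallyClosed ((FBase.bc (f.fiberToSpecResidueField (f.base x)) K).presheaf.stalk x'))) ↔
      RkCons.Rk f 1 x ∧ Sk f (Coh.structureModule X) 2 x := by
  refine ⟨fun h => ?_, fun h K iF iA _ x' hx' => (NormalCons.normal_iff f x).2 h K x' hx'⟩
  let s := f.base x
  let κ := IsLocalRing.ResidueField (S.presheaf.stalk s)
  haveI : LocallyOfFiniteType (X := f.fiber s) (Y := Spec (CommRingCat.of κ))
      (f.fiberToSpecResidueField s) := FibreTrdeg.locallyOfFiniteType_fiberTo' f s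
  refine ⟨(RkCons.rk_iff_forall_finite f 1 x).2 fun K iF iA hK x' hx' => ?_, ?_⟩
  · haveI := NormalCons.isLocallyNoetherian_bc (k := κ) (f.fiberToSpecResidueField s) K
    exact ((NormalCons.normal_local_iff _).1 (h K hK x' hx')).1
  · letI : Algebra κ κ := Algebra.id κ
    haveI := NormalCons.isLocallyNoetherian_bc (k := κ) (f.fiberToSpecResidueField s) κ
    obtain ⟨x', hx'⟩ :=
      NormalCons.exists_point_over (k := κ) (f.fiberToSpecResidueField s) (f.asFiber x) κ
    have h2 := (Unit.hasSk_iff f s (f.asFiber x) 2).1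
      ((NormalCons.hasSk_bc_iff (k := κ) (f.fiberToSpecResidueField s) (f.asFiber x) 2 κ x' hx').1
        ((NormalCons.normal_local_iff _).1 (h κ (Module.Finite.self κ) x' hx')).2)
    rwa [f.fiberι_asFiber] at h2

theorem isDomain_of_normal (x : X) (h : RkCons.Rk f 1 x ∧ Sk f (Coh.structureModule X) 2 x) :
    IsDomain ((f.fiber (f.base x)).presheaf.stalk (f.asFiber x)) := by
  let s := f.base x
  let κ := IsLocalRing.ResidueField (S.presheaf.stalk s)
  letI : Algebra κ κ := Algebra.id κ
  haveI : LocallyOfFiniteType (X := f.fiber s) (Y := Spec (CommRingCat.of κ))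
      (f.fiberToSpecResidueField s) := FibreTrdeg.locallyOfFiniteType_fiberTo' f s
  obtain ⟨x', hx'⟩ :=
    NormalCons.exists_point_over (k := κ) (f.fiberToSpecResidueField s) (f.asFiber x) κ
  let σ : Spec (CommRingCat.of κ) ⟶ Spec (CommRingCat.of κ) :=
    Spec.map (CommRingCat.ofHom (algebraMap κ κ))
  haveI : Flat σ := by
    rw [HasRingHomProperty.Spec_iff (P := @Flat)]
    exact RingHom.flat_algebraMap_iff.2 inferInstance
  have hd := (NormalCons.normal_iff f x).2 h κ x' hx'
  let π : pullback (f.fiberToSpecResidueField s : f.fiber s ⟶ Spec (CommRingCat.of κ)) σ ⟶ f.fiber s :=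
    pullback.fst _ _
  haveI : Flat π := MorphismProperty.pullback_fst _ _ ‹Flat σ›
  have h1 := (H2.Rigid.GeomNormal.normalAt_of_flat π x' hd).1
  rw [show π x' = f.asFiber x from hx'] at h1
  exact h1

theorem isOpen_normal :
    IsOpen {x : X | (f.stalkMap x).hom.Flat ∧
      ∀ (K : Type u) [Field K] [Algebra (IsLocalRing.ResidueField (S.presheaf.stalk (f.base x))) K],
        Module.Finite (IsLocalRing.ResidueField (S.presheaf.stalk (f.base x))) K →
        ∀ x' : ↥(FBase.bc (f.fiberToSpecResidueField (f.base x)) K),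
        (FBase.bcπ (f.fiberToSpecResidueField (f.base x)) K).base x' = f.asFiber x →
          (IsDomain ((FBase.bc (f.fiberToSpecResidueField (f.base x)) K).presheaf.stalk x') ∧
            IsIntegrallyClosed ((FBase.bc (f.fiberToSpecResidueField (f.base x)) K).presheaf.stalk x'))} := by
  convert (isOpen_rk_good f 1).inter
    (isOpen_sk f _ (Unit.isFP_structureModule X) _ (Unit.flat_on_flatLocus f) 2) using 1
  ext x
  show _ ∧ _ ↔ (_ ∧ _ ∧ _) ∧ (_ ∧ _)
  rw [normal_finite_iff]
  refine ⟨fun ⟨hfl, hR, hS⟩ => ⟨⟨hfl, hR, ?_⟩, hfl, hS⟩, fun ⟨⟨hfl, hR, _⟩, _, hS⟩ => ⟨hfl, hR, hS⟩⟩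
  haveI := isDomain_of_normal f x ⟨hR, hS⟩
  haveI := QFin.isLocallyNoetherian_fiber f (f.base x)
  have h := good_iff f (f.base x) (f.asFiber x)
  rw [f.fiberι_asFiber] at h
  refine h.1 ⟨fun p hp => ?_, fun p hp => ?_⟩
  · obtain rfl : p = ⊥ := le_antisymm (hp.2 ⟨Ideal.isPrime_bot, le_rfl⟩ bot_le) bot_le
    exact ringKrullDim_eq_of_ringEquiv (RingEquiv.quotientBot _)
  · obtain ⟨-, z, hz⟩ := (isAssociatedPrime_iff_exists_injective_linearMap _ _).1 hp
    have : p = ⊥ := by
      refine eq_bot_iff.2 fun r hr => ?_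
      have h1 : z (r • (1 : _ ⧸ p)) = 0 := by
        rw [show r • (1 : _ ⧸ p) = 0 from by
          rw [Algebra.smul_def, mul_one, Ideal.Quotient.algebraMap_eq, Ideal.Quotient.eq_zero_iff_mem]
          exact hr, map_zero]
      rw [map_smul, smul_eq_mul, mul_eq_zero] at h1
      refine h1.resolve_right fun hz0 => ?_
      have : (1 : _ ⧸ p) = 0 := hz (by rw [hz0, map_zero])
      exact hp.1.ne_top (Ideal.eq_top_of_isUnit_mem _ (Ideal.Quotient.eq_zero_iff_mem.1 this) isUnit_one)
    exact this ▸ ⟨⟨Ideal.isPrime_bot, le_rfl⟩, fun _ _ _ => bot_le⟩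

end Groth.Agent.H46.FibreProf.OpenGeom
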