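import Groth.Agent.H46.FibreProf.SmoothSpan
import Groth.Agent.H46.FibreProf.Cons
import Groth.Agent.H46.FibreProf.Strata
import Mathlib.AlgebraicGeometry.Morphisms.Smooth

/-!
# The points smooth in their fibre form a locally constructible set
-/

set_option autoImplicit false
set_option linter.style.haveILetI false
set_option backward.isDefEq.respectTransparency false

universe u

open CategoryTheory CategoryTheory.Limits AlgebraicGeometry Topology TensorProduct
open Groth.Agent.H46.FibreTrdeg

namespace Groth.Agent.H46.FibreProf.SmoothCons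

open Groth.Agent.Lib
open Groth.Agent.Lib.ProCons45.Basic (isLocallyConstructible_compl)

theorem mem_smoothLocus_comp_iff {A B C : Scheme.{u}} (e : A ⟶ B) (q : B ⟶ C)
    [LocallyOfFinitePresentation q] [LocallyOfFinitePresentation (e ≫ q)] (a : A)
    [IsIso (e.stalkMap a)] : a ∈ (e ≫ q).smoothLocus ↔ e a ∈ q.smoothLocus := by
  rw [Scheme.Hom.mem_smoothLocus, Scheme.Hom.mem_smoothLocus, Scheme.Hom.stalkMap_comp,
    CommRingCat.hom_comp]
  exact RingHom.FormallySmooth.respectsIso.cancel_right_isIso _ _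

theorem mem_smoothLocus_comp_iso_iff {A B C : Scheme.{u}} (q : A ⟶ B) (i : B ⟶ C) [IsIso i]
    [LocallyOfFinitePresentation q] [LocallyOfFinitePresentation (q ≫ i)] (a : A) :
    a ∈ (q ≫ i).smoothLocus ↔ a ∈ q.smoothLocus := by
  rw [Scheme.Hom.mem_smoothLocus, Scheme.Hom.mem_smoothLocus, Scheme.Hom.stalkMap_comp,
    CommRingCat.hom_comp]
  exact RingHom.FormallySmooth.respectsIso.cancel_left_isIso _ _

theorem mem_smoothLocus_spec_iff (A B : Type u) [CommRing A] [CommRing B] [Algebra A B]
    [LocallyOfFinitePresentation (Spec.map (CommRingCat.ofHom (algebraMap A B)))]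
    (q : PrimeSpectrum B) :
    q ∈ (Spec.map (CommRingCat.ofHom (algebraMap A B))).smoothLocus ↔
      Algebra.IsSmoothAt A q.asIdeal := by
  let φ := CommRingCat.ofHom (algebraMap A B)
  rw [Scheme.Hom.mem_smoothLocus]
  refine (RingHom.FormallySmooth.respectsIso.arrow_mk_iso_iff (Scheme.arrowStalkMapSpecIso φ q)).trans ?_
  show (Localization.localRingHom (q.asIdeal.comap (algebraMap A B)) q.asIdeal (algebraMap A B) rfl).FormallySmooth ↔ _
  let p := q.asIdeal.comap (algebraMap A B)
  haveI : q.asIdeal.LiesOver p := ⟨rfl⟩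
  letI := Localization.AtPrime.algebraOfLiesOver p q.asIdeal
  haveI : Algebra.FormallyEtale A (Localization.AtPrime p) := .of_isLocalization p.primeCompl
  show RingHom.FormallySmooth (algebraMap (Localization.AtPrime p) (Localization.AtPrime q.asIdeal)) ↔ _
  rw [RingHom.formallySmooth_algebraMap]
  exact ⟨fun h => Algebra.FormallySmooth.comp A (Localization.AtPrime p) _,
    fun (h : Algebra.FormallySmooth A (Localization.AtPrime q.asIdeal)) =>
      Algebra.FormallySmooth.of_restrictScalars A _ _⟩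

variable {X S : Scheme.{u}} (f : X ⟶ S) [LocallyOfFinitePresentation f]
  [∀ s : S, LocallyOfFinitePresentation (f.fiberToSpecResidueField s)]

attribute [local instance] Algebra.TensorProduct.rightAlgebra in
theorem mem_fibre_smoothLocus_iff {R A : Type u} [CommRing R] [CommRing A] [Algebra R A]
    [Algebra.FinitePresentation R A] (v : Spec (CommRingCat.of R) ⟶ S) [IsOpenImmersion v]
    (w : Spec (CommRingCat.of A) ⟶ X) [IsOpenImmersion w]
    (hw : Spec.map (CommRingCat.ofHom (algebraMap R A)) ≫ v = w ≫ f) (P : PrimeSpectrum A)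
    (s : S) (b : f.fiber s) (hb : f.fiberι s b = w P) :
    b ∈ (f.fiberToSpecResidueField s).smoothLocus ↔
      ∃ n : ℕ, ¬ Fitt.ideal A (Ω[A⁄R]) n ≤ P.asIdeal ∧
        (n : WithBot ℕ∞) ≤ FlatMor.fibreDimAt f (w P) := by
  let g : Spec (CommRingCat.of A) ⟶ Spec (CommRingCat.of R) :=
    Spec.map (CommRingCat.ofHom (algebraMap R A))
  haveI : LocallyOfFinitePresentation g :=
    (HasRingHomProperty.Spec_iff (P := @LocallyOfFinitePresentation)).2
      (RingHom.finitePresentation_algebraMap.2 inferInstance)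
  let p : PrimeSpectrum R := PrimeSpectrum.comap (algebraMap R A) P
  let κ := p.asIdeal.ResidueField
  let C := p.asIdeal.Fiber A
  let a : Spec (CommRingCat.of C) ⟶ Spec (CommRingCat.of A) :=
    Spec.map (CommRingCat.ofHom (algebraMap A C))
  let q₀ : Spec (CommRingCat.of C) ⟶ Spec (CommRingCat.of κ) :=
    Spec.map (CommRingCat.ofHom (algebraMap κ C))
  have hsq : IsPullback a q₀ g (Spec.map (CommRingCat.ofHom (algebraMap R κ))) := by
    refine (IsPullback.of_iso_pullback ⟨?_⟩ (pullbackSpecIso R κ A).symm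
      (pullbackSpecIso_inv_fst R κ A) (pullbackSpecIso_inv_snd R κ A)).flip
    rw [← Spec.map_comp, ← Spec.map_comp]
    congr 1
    ext r
    change (algebraMap R κ r) ⊗ₜ[R] (1 : A) = 1 ⊗ₜ[R] (algebraMap R A r)
    exact Algebra.TensorProduct.tmul_one_eq_one_tmul r
  let i : Spec (CommRingCat.of κ) ⟶ Spec ((Spec (CommRingCat.of R)).residueField p) :=
    Spec.map (Scheme.Spec.residueFieldIso (CommRingCat.of R) p).hom
  haveI : IsIso i := inferInstance
  have hi : i ≫ (Spec (CommRingCat.of R)).fromSpecResidueField p =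
      Spec.map (CommRingCat.ofHom (algebraMap R κ)) := by
    rw [← Scheme.Spec.map_residueFieldIso_inv_eq_fromSpecResidueField, ← Category.assoc,
      ← Spec.map_comp, Iso.inv_hom_id, Spec.map_id, Category.id_comp]
  have hsq' : IsPullback a (q₀ ≫ i) g ((Spec (CommRingCat.of R)).fromSpecResidueField p) :=
    hsq.of_iso (Iso.refl _) (Iso.refl _) (asIso i) (Iso.refl _) (by simp) (by simp) (by simp [g])
      (by simp [hi])
  let j := hsq'.isoPullback
  have hj1 : j.hom ≫ g.fiberι p = a := hsq'.isoPullback_hom_fst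
  have hj2 : j.hom ≫ g.fiberToSpecResidueField p = q₀ ≫ i := hsq'.isoPullback_hom_snd
  obtain ⟨e, he, hiso⟩ := Strata.exists_fiber_map (p := w) (f := f) (f' := g) (v := v) hw.symm p
  have he2 : e ≫ f.fiberToSpecResidueField (v p) =
      g.fiberToSpecResidueField p ≫ Spec.map (v.residueFieldMap p) := by
    rw [← cancel_mono (S.fromSpecResidueField (v p)), Category.assoc, Category.assoc,
      ← f.fiber_fac, ← Category.assoc, he, Category.assoc, ← hw,
      Scheme.Hom.SpecMap_residueFieldMap_fromSpecResidueField, ← Category.assoc, ← Category.assoc, g.fiber_fac]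
  haveI : IsIso (v.residueFieldMap p) := (ConcreteCategory.isIso_iff_bijective _).2
    ⟨(v.residueFieldMap p).hom.injective, Chart.residueFieldMap_surjective v p⟩
  obtain rfl : s = v p := by
    rw [← Lib.Cyc.FieldDim.apply_fiberι f s b, hb, ← Scheme.Hom.comp_apply, ← hw,
      Scheme.Hom.comp_apply]
    rfl
  let q := PrimeSpectrum.preimageHomeomorphFiber R A p ⟨P, rfl⟩
  have hqP : q.asIdeal.comap (algebraMap A C) = P.asIdeal :=
    congrArg PrimeSpectrum.asIdeal (congrArg Subtype.val
      ((PrimeSpectrum.preimageHomeomorphFiber R A p).symm_apply_apply ⟨P, rfl⟩))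
  have haq : a q = P := PrimeSpectrum.ext hqP
  have hbe : b = (j.hom ≫ e) q := by
    refine (f.fiberι (v p)).isEmbedding.injective ?_
    rw [hb, ← Scheme.Hom.comp_apply, Category.assoc, he, ← Category.assoc, hj1,
      Scheme.Hom.comp_apply, haq]
  haveI : IsIso ((j.hom ≫ e).stalkMap q) := by
    haveI := hiso (j.hom q)
    rw [Scheme.Hom.stalkMap_comp]
    infer_instance
  haveI : LocallyOfFinitePresentation q₀ := by
    haveI : Algebra.FinitePresentation κ C := inferInstance
    exact (HasRingHomProperty.Spec_iff (P := @LocallyOfFinitePresentation)).2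
      (RingHom.finitePresentation_algebraMap.2 inferInstance)
  have htot : (j.hom ≫ e) ≫ f.fiberToSpecResidueField (v p) =
      q₀ ≫ (i ≫ Spec.map (v.residueFieldMap p)) := by
    rw [Category.assoc, he2, ← Category.assoc, hj2, Category.assoc]
  haveI : LocallyOfFinitePresentation ((j.hom ≫ e) ≫ f.fiberToSpecResidueField (v p)) :=
    htot ▸ inferInstance
  rw [hbe, ← mem_smoothLocus_comp_iff]
  simp only [htot]
  rw [mem_smoothLocus_comp_iso_iff, mem_smoothLocus_spec_iff κ C,
    SmoothSpan.isSmoothAt_fiber_iff R A p.asIdeal q.asIdeal]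
  rw [FibreDim.Chart.fibreDimAt_eq_dimAt f v w hw P, hqP]
  simp only [Nat.cast_le]
  rfl

theorem isLocallyConstructible_fibre_smoothLocus :
    IsLocallyConstructible
      {x : X | f.asFiber x ∈ (f.fiberToSpecResidueField (f.base x)).smoothLocus} := by
  refine Cons.isLocallyConstructible_of_charts fun x₀ => ?_
  obtain ⟨V, hV, hxV, -⟩ := exists_isAffineOpen_mem_and_subset (X := S) (x := f x₀) (U := ⊤) trivial
  obtain ⟨U, hU, hxU, hUV⟩ := exists_isAffineOpen_mem_and_subset (X := X) (x := x₀) (U := f ⁻¹ᵁ V) hxV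
  refine ⟨U, hU, hxU, ?_⟩
  let φ := f.appLE V U hUV
  letI : Algebra Γ(S, V) Γ(X, U) := φ.hom.toAlgebra
  haveI : Algebra.FinitePresentation Γ(S, V) Γ(X, U) := f.finitePresentation_appLE hV hU hUV
  haveI : IsOpenImmersion hU.fromSpec := hU.isOpenImmersion_fromSpec
  haveI : IsOpenImmersion hV.fromSpec := hV.isOpenImmersion_fromSpec
  obtain ⟨N, g, hg⟩ := Module.Finite.exists_fin (R := Γ(X, U)) (M := Ω[Γ(X, U)⁄Γ(S, V)])
  have hfg : ∀ n, (Fitt.ideal Γ(X, U) (Ω[Γ(X, U)⁄Γ(S, V)]) n).FG := fun n => by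
    obtain ⟨W, hW⟩ := Module.FinitePresentation.fg_ker (Fintype.linearCombination Γ(X, U) g)
      (by rw [← LinearMap.range_eq_top, Fintype.range_linearCombination, hg])
    rw [H25.Fitting.ideal_eq_of_rel g hg _ hW.symm n]
    exact H25.Fitting.Mn_fg W.finite_toSet _
  let D : ℕ → Set X := fun n => {x | ((n : ℕ) : WithBot ℕ∞) ≤ FlatMor.fibreDimAt f x}
  have hD : ∀ n, IsLocallyConstructible (D n) := by
    rintro (_ | n)
    · convert (IsLocallyConstructible.univ : IsLocallyConstructible (Set.univ : Set X)) using 1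
      ext x
      obtain ⟨e, he⟩ := FibreDim.Chart.exists_fibreDimAt_eq f x
      simp [D, he]
    · convert isLocallyConstructible_compl
        (H69.RelDimLocus.isLocallyConstructible_setOf_fibreDimAt_le f n) using 1
      ext x
      obtain ⟨e, he⟩ := FibreDim.Chart.exists_fibreDimAt_eq f x
      simp only [D, Set.mem_setOf_eq, Set.mem_compl_iff, he, Nat.cast_le]
      omega
  have hcc := IsConstructible.iUnion (f := fun n : Fin (N + 1) =>
    (PrimeSpectrum.zeroLocus (Fitt.ideal Γ(X, U) (Ω[Γ(X, U)⁄Γ(S, V)]) n : Set Γ(X, U)))ᶜ ∩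
      (hU.fromSpec ⁻¹' D n)) (fun n => (ConsFree.isConstructible_zeroLocus (hfg n)).compl.inter
        (Cons.isConstructible_chart (hD n) hU))
  refine Eq.mpr (congrArg IsConstructible (Set.ext fun P => ?_)) hcc
  refine (mem_fibre_smoothLocus_iff f (R := Γ(S, V)) (A := Γ(X, U)) hV.fromSpec hU.fromSpec
    (hV.SpecMap_appLE_fromSpec f hU hUV) P _ (f.asFiber (hU.fromSpec P))
    (f.fiberι_asFiber _)).trans ?_
  simp only [Set.mem_iUnion, Set.mem_inter_iff, Set.mem_compl_iff, PrimeSpectrum.mem_zeroLocus,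
    SetLike.coe_subset_coe, Set.mem_preimage]
  constructor
  · rintro ⟨n, hn, hd⟩
    by_cases hnN : n ≤ N
    · exact ⟨⟨n, by omega⟩, hn, hd⟩
    · refine ⟨⟨N, by omega⟩, fun h => P.isPrime.ne_top (top_le_iff.1 ?_), ?_⟩
      · exact (H25.Fitting.ideal_eq_top g hg le_rfl).symm.le.trans h
      · exact le_trans (by exact_mod_cast (by omega : N ≤ n)) hd
  · rintro ⟨n, hn, hd⟩
    exact ⟨n, hn, hd⟩

end Groth.Agent.H46.FibreProf.SmoothCons
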