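import Groth.Agent.H46.FibreProf.GeomRk
import Groth.Agent.H46.FibreProf.Gen
import Groth.Agent.H46.FibreProf.SmoothCons

/-!
# The geometric condition `(R_k)` on the fibres is constructible
-/

set_option autoImplicit false
set_option linter.style.haveILetI false

universe u

open CategoryTheory AlgebraicGeometry IsLocalRing Topology
open Groth.Agent.H46.FibreTrdeg Groth.Agent.H46.DimData Groth.Agent.H46.FibreProf.Basic

namespace Groth.Agent.H46.FibreProf.RkCons

open Groth.Agent.Lib
open Groth.Agent.Lib.ProCons45.Basic (isLocallyConstructible_compl)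

variable {X S : Scheme.{u}} (f : X ⟶ S) [LocallyOfFinitePresentation f]

instance lfp_fiberTo (s : S) :
    LocallyOfFinitePresentation (X := f.fiber s) (Y := Spec (CommRingCat.of (S.residueField s)))
      (f.fiberToSpecResidueField s) :=
  MorphismProperty.pullback_snd _ _ ‹_›

theorem lfp_fiberTo' (s : S) : LocallyOfFinitePresentation (f.fiberToSpecResidueField s) :=
  MorphismProperty.pullback_snd _ _ ‹_›

/-- `y` is a smooth point of its fibre. -/
def FibreSmooth (y : X) : Prop :=
  haveI := lfp_fiberTo' f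
  f.asFiber y ∈ (f.fiberToSpecResidueField (f.base y)).smoothLocus

theorem fibreSmooth_iff (s : S) (b : f.fiber s) :
    haveI := lfp_fiberTo' f
    FibreSmooth f (f.fiberι s b) ↔ b ∈ (f.fiberToSpecResidueField s).smoothLocus := by
  have key : ∀ (y : X) (s : S) (b : f.fiber s), f.fiberι s b = y →
      (haveI := lfp_fiberTo' f
       FibreSmooth f y ↔ b ∈ (f.fiberToSpecResidueField s).smoothLocus) := by
    intro y s b hb
    obtain rfl : s = f y := by rw [← hb, Lib.Cyc.FieldDim.apply_fiberι]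
    obtain rfl : b = f.asFiber y := (f.fiberι _).isEmbedding.injective (by rw [hb, f.fiberι_asFiber])
    exact Iff.rfl
  exact key _ s b rfl

/-- Geometric `(R_n)` at `x`, read in the total space. -/
def Rk (n : ℕ) (x : X) : Prop :=
  ∀ y, FG f x y → fe f y ≤ trd f y + n → FibreSmooth f y

theorem fe_le_iff (y : X) (m : ℕ) : fe f y ≤ m ↔ ∀ w, FG f y w → trd f w ≤ m := by
  refine ⟨fun h w hw => (trd_le_fe f hw.2).trans h, fun h => ?_⟩
  obtain ⟨ζ, hζ, hs, -, hζe⟩ := exists_fe_eq f y
  exact hζe ▸ h ζ ⟨hζ, hs⟩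

theorem trd_fiber (s : S) (b : f.fiber s) :
    trd (X := f.fiber s) (Y := Spec (CommRingCat.of (S.residueField s))) (f.fiberToSpecResidueField s) b
      = trd f (f.fiberι s b) := by
  rw [trd, trd]
  exact congrArg Cardinal.toNat (Lib.Cyc.FieldDim.trdegAt_fiber f s b)

theorem smoothUpTo_iff (s : S) (a : f.fiber s) (n : ℕ) :
    GeomRk.SmoothUpTo (F := f.fiber s) (k := S.residueField s) (f.fiberToSpecResidueField s) a n ↔
      Rk f n (f.fiberι s a) := by
  constructor
  · intro h y hy hfe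
    obtain ⟨c, rfl, hc⟩ := fg_exists f hy
    refine (fibreSmooth_iff f s c).2 (h c hc fun w hw => ?_)
    rw [trd_fiber, trd_fiber]
    exact (fe_le_iff f _ _).1 hfe _ ((fg_fiberι f).2 hw)
  · intro h c hc hdim
    refine (fibreSmooth_iff f s c).1 (h _ ((fg_fiberι f).2 hc) ((fe_le_iff f _ _).2 fun w hw => ?_))
    obtain ⟨d, rfl, hd⟩ := fg_exists f hw
    have := hdim d hd
    rwa [trd_fiber, trd_fiber] at this

theorem rk_iff_forall (n : ℕ) (x : X) :
    Rk f n x ↔ ∀ (K : Type u) [Field K] [Algebra (IsLocalRing.ResidueField (S.presheaf.stalk (f.base x))) K]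
        (x' : ↥(FBase.bc (f.fiberToSpecResidueField (f.base x)) K)),
        (FBase.bcπ (f.fiberToSpecResidueField (f.base x)) K).base x' = f.asFiber x →
          LocCoh.HasRk n ((FBase.bc (f.fiberToSpecResidueField (f.base x)) K).presheaf.stalk x') := by
  have e := smoothUpTo_iff f (f.base x) (f.asFiber x) n
  rw [f.fiberι_asFiber] at e
  rw [← e]
  exact ⟨fun h K iF iA x' hx' => @GeomRk.hasRk_of_smoothUpTo _ _ _ _ _ _ _ h K iF iA x' hx',
    fun h => GeomRk.smoothUpTo_of_hasRk _ _ _ fun K iF iA _ x' hx' => @h K iF iA x' hx'⟩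

theorem rk_iff_forall_finite (n : ℕ) (x : X) :
    Rk f n x ↔ ∀ (K : Type u) [Field K] [Algebra (IsLocalRing.ResidueField (S.presheaf.stalk (f.base x))) K],
        Module.Finite (IsLocalRing.ResidueField (S.presheaf.stalk (f.base x))) K →
        ∀ x' : ↥(FBase.bc (f.fiberToSpecResidueField (f.base x)) K),
        (FBase.bcπ (f.fiberToSpecResidueField (f.base x)) K).base x' = f.asFiber x →
          LocCoh.HasRk n ((FBase.bc (f.fiberToSpecResidueField (f.base x)) K).presheaf.stalk x') := by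
  have e := smoothUpTo_iff f (f.base x) (f.asFiber x) n
  rw [f.fiberι_asFiber] at e
  rw [← e]
  exact ⟨fun h K iF iA _ x' hx' => @GeomRk.hasRk_of_smoothUpTo _ _ _ _ _ _ _ h K iF iA x' hx',
    fun h => GeomRk.smoothUpTo_of_hasRk _ _ _ h⟩

theorem isLocallyConstructible_rk (n : ℕ) : IsLocallyConstructible {x : X | Rk f n x} := by
  haveI := lfp_fiberTo' f
  refine Cons.isLocallyConstructible_of_local fun x₀ U hU hxU => ?_
  obtain ⟨e, he⟩ := Cons.exists_bound_on f U hU
  let E : ℕ → Set X := fun j => {y | FibreSmooth f y}ᶜ ∩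
    {y | FlatMor.fibreDimAt f y ≤ (j : WithBot ℕ∞)}
  have hE : ∀ j, IsLocallyConstructible (E j) := fun j =>
    (isLocallyConstructible_compl (SmoothCons.isLocallyConstructible_fibre_smoothLocus f)).inter
      (H69.RelDimLocus.isLocallyConstructible_setOf_fibreDimAt_le f j)
  have hEfe : ∀ j y, y ∈ E j ↔ ¬ FibreSmooth f y ∧ fe f y ≤ j := by
    intro j y
    refine and_congr Iff.rfl ?_
    show FlatMor.fibreDimAt f y ≤ _ ↔ _
    rw [fibreDimAt_le_iff, fe_le_iff]
    exact ⟨fun h w hw => h w hw.1 hw.2, fun h ξ h1 h2 => h ξ ⟨h1, h2⟩⟩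
  refine ⟨⋂ j : Fin (e + 1), {x | ∃ y ∈ E j, FG f x y ∧ (j : ℕ) - n ≤ trd f y}ᶜ,
    IsLocallyConstructible.iInter fun j =>
      isLocallyConstructible_compl (Gen.isLocallyConstructible_exists_le_trd f (hE j) _),
    fun x hx => ?_⟩
  simp only [Set.mem_iInter]
  constructor
  · rintro h j ⟨y, hy, hyx, hle⟩
    rw [hEfe] at hy
    exact hy.1 (h y hyx (by omega))
  · intro h y hyx hfe
    by_contra hns
    obtain ⟨ζ, hζ, hs, -, hζe⟩ := exists_fe_eq f y
    have hb := he x hx ζ ⟨hζ.trans hyx.1, hs.trans hyx.2⟩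
    exact h ⟨fe f y, by omega⟩ ⟨y, (hEfe _ y).2 ⟨hns, le_rfl⟩, hyx, by show fe f y - n ≤ _; omega⟩

end Groth.Agent.H46.FibreProf.RkCons
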