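import Groth.Agent.Lib.JacCrit.Minimal
import Groth.Agent.H25.FittingLoc
import Mathlib.RingTheory.Kaehler.TensorProduct
import Mathlib.RingTheory.Jacobson.Ring

/-!
# Smoothness over a field from a bound on the number of generators of the differentials
-/

set_option autoImplicit false
set_option linter.style.haveILetI false

universe u

open IsLocalRing TensorProduct Groth.Agent.Lib.Dim.Local

namespace Groth.Agent.H46.FibreProf.SmoothSpan

open Groth.Agent.Lib Groth.Agent.H25.Fitting

/-- Generators up to a factor stay generators up to that factor after base change. -/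
theorem smul_mem_span_baseChange {R : Type*} [CommRing R] (R' : Type*) [CommRing R'] [Algebra R R']
    {M : Type*} [AddCommGroup M] [Module R M] {ι : Type*} (v : ι → M) (c : R)
    (hv : ∀ y, c • y ∈ Submodule.span R (Set.range v)) (z : R' ⊗[R] M) :
    algebraMap R R' c • z ∈ Submodule.span R' (Set.range fun i => (1 : R') ⊗ₜ[R] v i) := by
  induction z with
  | zero => rw [smul_zero]; exact zero_mem _
  | add a b ha hb => rw [smul_add]; exact add_mem ha hb
  | tmul r y =>
    have h1 : ∀ w ∈ Submodule.span R (Set.range v),
        (1 : R') ⊗ₜ[R] w ∈ Submodule.span R' (Set.range fun i => (1 : R') ⊗ₜ[R] v i) := by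
      intro w hw
      induction hw using Submodule.span_induction with
      | mem w hw => obtain ⟨i, rfl⟩ := hw; exact Submodule.subset_span ⟨i, rfl⟩
      | zero => rw [tmul_zero]; exact zero_mem _
      | add a b _ _ ha hb => rw [tmul_add]; exact add_mem ha hb
      | smul a b _ hb =>
        rw [TensorProduct.tmul_smul, ← algebraMap_smul R' a]
        exact Submodule.smul_mem _ _ hb
    have h2 := Submodule.smul_mem (Submodule.span R' (Set.range fun i => (1 : R') ⊗ₜ[R] v i)) r
      (h1 _ (hv y))
    convert h2 using 1
    rw [TensorProduct.tmul_smul, algebraMap_smul, ← smul_comm c, TensorProduct.smul_tmul' r,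
      smul_eq_mul, mul_one]

/-- The same, transported along an equivalence. -/
theorem smul_mem_span_equiv {R R' : Type*} [CommRing R] [CommRing R'] [Algebra R R']
    {M : Type*} [AddCommGroup M] [Module R M] {N : Type*} [AddCommGroup N] [Module R' N]
    (e : R' ⊗[R] M ≃ₗ[R'] N) {ι : Type*} (v : ι → M) (c : R)
    (hv : ∀ y, c • y ∈ Submodule.span R (Set.range v)) (z : N) :
    algebraMap R R' c • z ∈ Submodule.span R' (Set.range fun i => e ((1 : R') ⊗ₜ[R] v i)) := by
  have h := Submodule.mem_map_of_mem (f := e.toLinearMap) (smul_mem_span_baseChange R' v c hv (e.symm z))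
  rw [Submodule.map_span, ← Set.range_comp] at h
  simpa [Function.comp_def, ← algebraMap_smul R'] using h

theorem span_eq_top_of_unit {R : Type*} [CommRing R] {M : Type*} [AddCommGroup M] [Module R M]
    {s : Set M} {c : R} (hc : IsUnit c) (hv : ∀ y, c • y ∈ Submodule.span R s) :
    Submodule.span R s = ⊤ :=
  eq_top_iff.2 fun y _ => (Submodule.smul_mem_iff_of_isUnit _ hc).1 (hv y)

/-- At a rational point the cotangent space is spanned by the images of generators of the
differentials. -/
theorem spanFinrank_le (k : Type u) [Field k] {R : Type u} [CommRing R] [IsLocalRing R]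
    [IsNoetherianRing R] [Algebra k R] (hk : Function.Surjective (algebraMap k (ResidueField R)))
    {n : ℕ} (v : Fin n → Ω[R⁄k]) (hv : Submodule.span R (Set.range v) = ⊤) :
    (maximalIdeal R).spanFinrank ≤ n := by
  set m := maximalIdeal R
  let e : k ≃+* ResidueField R := RingEquiv.ofBijective (algebraMap k (ResidueField R))
    ⟨(algebraMap k (ResidueField R)).injective, hk⟩
  let c : R →+* k := e.symm.toRingHom.comp (residue R)
  have hc : ∀ x, x - algebraMap k R (c x) ∈ m := fun x => by
    rw [← IsLocalRing.residue_eq_zero_iff, map_sub, sub_eq_zero]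
    exact (e.apply_symm_apply (residue R x)).symm
  have hck : ∀ a : k, c (algebraMap k R a) = a := fun a => e.symm_apply_apply a
  let D : Derivation k R m.Cotangent := Derivation.mk'
    { toFun := fun x => m.toCotangent ⟨x - algebraMap k R (c x), hc x⟩
      map_add' := fun x y => by
        rw [← map_add]
        exact congrArg _ (Subtype.ext (by simp only [map_add, Submodule.coe_add]; ring))
      map_smul' := fun a x => by
        rw [RingHom.id_apply, ← IsScalarTower.algebraMap_smul R a (m.toCotangent _), ← map_smul]
        exact congrArg _ (Subtype.ext (by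
          simp only [Algebra.smul_def, map_mul, hck, SetLike.val_smul,
            Algebra.algebraMap_self, RingHom.id_apply]
          ring)) } fun x y => by
      change m.toCotangent _ = x • m.toCotangent _ + y • m.toCotangent _
      rw [← map_smul, ← map_smul, ← map_add, Ideal.toCotangent_eq]
      have h := Ideal.mul_mem_mul (hc x) (hc y)
      rw [← pow_two, ← neg_mem_iff] at h
      convert h using 1
      simp only [map_mul, Submodule.coe_add, SetLike.val_smul, smul_eq_mul]
      ring
  have hsurj : Function.Surjective D.liftKaehlerDifferential := fun w => by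
    obtain ⟨⟨x, hx⟩, rfl⟩ := m.toCotangent_surjective w
    refine ⟨KaehlerDifferential.D k R x, (Derivation.liftKaehlerDifferential_comp_D D x).trans ?_⟩
    refine congrArg _ (Subtype.ext ?_)
    have : c x = 0 := by
      change e.symm (residue R x) = 0
      rw [(IsLocalRing.residue_eq_zero_iff x).mpr hx, map_zero]
    simp [this]
  rw [spanFinrank_maximalIdeal_eq_finrank_cotangentSpace]
  have hspan : Submodule.span (ResidueField R)
      (Set.range fun i => (D.liftKaehlerDifferential (v i) : CotangentSpace R)) = ⊤ := by
    rw [← Submodule.restrictScalars_eq_top_iff R, eq_top_iff]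
    refine le_trans ?_ (Submodule.span_le_restrictScalars R (ResidueField R) _)
    rw [show (Set.range fun i => (D.liftKaehlerDifferential (v i) : CotangentSpace R)) =
      D.liftKaehlerDifferential '' Set.range v from Set.range_comp D.liftKaehlerDifferential v]
    exact le_of_eq (by
      rw [← Submodule.map_span, hv, Submodule.map_top, LinearMap.range_eq_top.mpr hsurj])
  rw [← finrank_top, ← hspan]
  exact (finrank_range_le_card (fun i => (D.liftKaehlerDifferential (v i) : CotangentSpace R))).trans
    (Fintype.card_fin n).le

variable (K : Type u) [Field K] {B : Type u} [CommRing B] [Algebra K B] [Algebra.FiniteType K B]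

/-- At a closed point over an algebraically closed field. -/
theorem isSmoothAt_closed [IsAlgClosed K] {n : ℕ} (v : Fin n → Ω[B⁄K]) (c : B)
    (hv : ∀ y, c • y ∈ Submodule.span B (Set.range v))
    (m : Ideal B) [m.IsMaximal] (hc : c ∉ m) (hdim : n ≤ dimAt K m) : Algebra.IsSmoothAt K m := by
  let R := Localization.AtPrime m
  haveI : IsNoetherianRing B := Algebra.FiniteType.isNoetherianRing K B
  haveI : IsNoetherianRing R := IsLocalization.isNoetherianRing m.primeCompl R inferInstance
  haveI : Module.Finite K (B ⧸ m) := by
    letI := Ideal.Quotient.field m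
    exact finite_of_finite_type_of_isJacobsonRing K (B ⧸ m)
  have hk : Function.Surjective (algebraMap K m.ResidueField) := by
    have h1 := (Ideal.bijective_algebraMap_quotient_residueField m).2
    have h2 : Function.Surjective (algebraMap K (B ⧸ m)) :=
      (IsAlgClosed.algebraMap_bijective_of_isIntegral (k := K) (K := B ⧸ m)).2
    rw [IsScalarTower.algebraMap_eq K (B ⧸ m) m.ResidueField]
    exact h1.comp h2
  haveI : Algebra.FormallySmooth K m.ResidueField :=
    Algebra.FormallySmooth.of_equiv (AlgEquiv.ofBijective (Algebra.ofId K m.ResidueField)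
      ⟨(algebraMap K m.ResidueField).injective, hk⟩)
  haveI : Algebra.FormallyEtale B R := .of_isLocalization m.primeCompl
  have hle := spanFinrank_le K (R := R) hk _ (span_eq_top_of_unit
    (IsLocalization.map_units R (⟨c, hc⟩ : m.primeCompl))
    (smul_mem_span_equiv (KaehlerDifferential.tensorKaehlerEquivOfFormallyEtale K B R) v c hv))
  haveI : IsRegularLocalRing R := IsRegularLocalRing.of_spanFinrank_maximalIdeal_le R (by
    rw [IsLocalization.AtPrime.ringKrullDim_eq_height m R, height_maximal_eq_dimAt K m]
    exact_mod_cast hle.trans hdim)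
  exact JacCrit.Regular.isSmoothAt K m

include K in
theorem exists_maximal_not_mem (p : Ideal B) [p.IsPrime] {c : B} (hc : c ∉ p) :
    ∃ m : Ideal B, m.IsMaximal ∧ p ≤ m ∧ c ∉ m := by
  haveI : IsJacobsonRing B := isJacobsonRing_of_finiteType (A := K)
  by_contra hh
  push Not at hh
  refine hc ?_
  rw [← IsJacobsonRing.out' p (Ideal.IsPrime.isRadical ‹_›), Ideal.jacobson, Ideal.mem_sInf]
  exact fun {m} ⟨hpm, hm⟩ => hh m hm hpm

variable {A : Type u} [CommRing A]

/-- At most `dimAt` generators of the differentials near a point: smooth there. -/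
theorem isSmoothAt_of_span (k : Type u) [Field k] [Algebra k A] [Algebra.FiniteType k A]
    {n : ℕ} (v : Fin n → Ω[A⁄k]) (c : A) (hv : ∀ y, c • y ∈ Submodule.span A (Set.range v))
    (p : Ideal A) [p.IsPrime] (hc : c ∉ p) (hdim : n ≤ dimAt k p) : Algebra.IsSmoothAt k p := by
  let K := AlgebraicClosure k
  let B := K ⊗[k] A
  letI : Algebra A B := Algebra.TensorProduct.rightAlgebra
  haveI : Algebra.IsPushout k K A B := inferInstance
  haveI : Algebra.FinitePresentation k A := Algebra.FinitePresentation.of_finiteType.mp ‹_›
  -- every prime over `p` is a smooth point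
  have hover : ∀ P : PrimeSpectrum B, PrimeSpectrum.comap (algebraMap A B) P = ⟨p, inferInstance⟩ →
      P ∈ Algebra.smoothLocus K B := by
    intro P hP
    have hcP : algebraMap A B c ∉ P.asIdeal := fun h => hc (by
      have h' : P.asIdeal.comap (algebraMap A B) = p := congrArg PrimeSpectrum.asIdeal hP
      rw [← h']
      exact Ideal.mem_comap.2 h)
    obtain ⟨m, hm, hPm, hcm⟩ := exists_maximal_not_mem K P.asIdeal hcP
    have h1 : dimAt K P.asIdeal = dimAt k p := by
      rw [Dim.FieldExt.dimAt_baseChange]
      congr 1
      exact congrArg PrimeSpectrum.asIdeal hP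
    have h2 : Algebra.IsSmoothAt K m :=
      isSmoothAt_closed K _ _ (smul_mem_span_equiv (KaehlerDifferential.tensorKaehlerEquiv k K A B) v c hv)
        m hcm (hdim.trans (h1.symm.le.trans (dimAt_mono K hPm)))
    exact (Algebra.isOpen_smoothLocus (R := K) (A := B)).stableUnderGeneralization
      ((PrimeSpectrum.le_iff_specializes P ⟨m, hm.isPrime⟩).mp hPm) h2
  haveI : Algebra.IsIntegral A B := Algebra.IsPushout.isIntegral' k A K B
  obtain ⟨_, ⟨g, rfl⟩, hpg, hg⟩ :=
    PrimeSpectrum.isTopologicalBasis_basic_opens.exists_subset_of_mem_open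
      (show (⟨p, inferInstance⟩ : PrimeSpectrum A) ∈
          (PrimeSpectrum.comap (algebraMap A B) '' (Algebra.smoothLocus K B)ᶜ)ᶜ from
        fun ⟨P, hP, hPp⟩ => hP (hover P hPp))
      ((PrimeSpectrum.isClosedMap_comap_of_isIntegral (algebraMap A B)
        (fun x => Algebra.IsIntegral.isIntegral x) _
          (Algebra.isOpen_smoothLocus (R := K) (A := B)).isClosed_compl).isOpen_compl)
  let A' := Localization.Away g
  let B' := K ⊗[k] A'
  let ψ : B →ₐ[K] B' := Algebra.TensorProduct.map (AlgHom.id K K) (IsScalarTower.toAlgHom k A A')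
  letI : Algebra B B' := ψ.toRingHom.toAlgebra
  haveI : IsScalarTower K B B' := IsScalarTower.of_algebraMap_eq fun x => (ψ.commutes x).symm
  haveI : IsLocalization.Away (algebraMap A B g) B' := by
    have := IsLocalization.tensorProduct_tensorProduct_right k K (Submonoid.powers g) A' (by
      ext x; simp [RingHom.algebraMap_toAlgebra, ψ]; rfl)
    rwa [Submonoid.map_powers] at this
  haveI : Algebra.Smooth K B' := by
    haveI : Algebra.FinitePresentation K B' := inferInstance
    refine ⟨Algebra.smoothLocus_eq_univ_iff.mp ?_, inferInstance⟩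
    rw [← Algebra.smoothLocus_comap_of_isLocalization (algebraMap A B g), Set.eq_univ_iff_forall]
    intro P
    by_contra hP
    refine hg (show PrimeSpectrum.comap (algebraMap A B) (PrimeSpectrum.comap (algebraMap B B') P) ∈
      (PrimeSpectrum.basicOpen g : Set (PrimeSpectrum A)) from fun hgP => ?_) ⟨_, hP, rfl⟩
    exact P.isPrime.ne_top (Ideal.eq_top_of_isUnit_mem _ hgP
      (IsLocalization.Away.algebraMap_isUnit (S := B') (algebraMap A B g)))
  haveI : Algebra.Smooth k A' := .of_smooth_tensorProduct_of_faithfullyFlat K
  exact (Algebra.basicOpen_subset_smoothLocus_iff_smooth.mpr this) hpg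

attribute [local instance] Algebra.TensorProduct.rightAlgebra in
/-- Smoothness of the fibre at a point, by the Fitting ideals of the differentials. -/
theorem isSmoothAt_fiber_iff (R S : Type u) [CommRing R] [CommRing S] [Algebra R S]
    [Algebra.FinitePresentation R S] (p : Ideal R) [p.IsPrime] (q : Ideal (p.Fiber S)) [q.IsPrime] :
    Algebra.IsSmoothAt p.ResidueField q ↔
      ∃ n, ¬ Fitt.ideal S (Ω[S⁄R]) n ≤ q.comap (algebraMap S (p.Fiber S)) ∧
        n ≤ dimAt p.ResidueField q := by
  let κ := p.ResidueField
  let C := p.Fiber S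
  let e : C ⊗[S] Ω[S⁄R] ≃ₗ[C] Ω[C⁄κ] := KaehlerDifferential.tensorKaehlerEquiv R κ S C
  constructor
  · intro hs
    obtain ⟨g, hg, hgs⟩ := Algebra.IsSmoothAt.exists_notMem_isStandardSmooth κ q
    let L := Localization.Away g
    obtain ⟨ι, σ, h1, h2, ⟨Q⟩⟩ := hgs.out
    haveI hn : Algebra.IsStandardSmoothOfRelativeDimension Q.dimension κ L :=
      ⟨ι, σ, h1, h2, Q, rfl⟩
    obtain ⟨P', hP'⟩ : ∃ P' : PrimeSpectrum L,
        PrimeSpectrum.comap (algebraMap C L) P' = ⟨q, inferInstance⟩ := by
      have : (⟨q, inferInstance⟩ : PrimeSpectrum C) ∈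
          Set.range (PrimeSpectrum.comap (algebraMap C L)) := by
        rw [PrimeSpectrum.localization_away_comap_range L g]
        exact hg
      exact this
    haveI : Nontrivial L := P'.nontrivial
    haveI : Algebra.FormallyEtale C L := .of_isLocalization (Submonoid.powers g)
    refine ⟨Q.dimension, fun hle => ?_, ?_⟩
    · let bL : Module.Basis (Fin Q.dimension) L (Ω[L⁄κ]) :=
        Module.finBasisOfFinrankEq L _ (Module.finrank_eq_of_rank_eq
          (Algebra.IsStandardSmoothOfRelativeDimension.rank_kaehlerDifferential
            (R := κ) (S := L) Q.dimension))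
      have htop := ideal_eq_top bL bL.span_eq (le_refl Q.dimension)
      rw [← ideal_congr (KaehlerDifferential.tensorKaehlerEquivOfFormallyEtale κ C L),
        ideal_baseChange, ← ideal_congr e, ideal_baseChange] at htop
      refine P'.isPrime.ne_top (top_le_iff.1 ?_)
      rw [← htop, Ideal.map_le_iff_le_comap, Ideal.map_le_iff_le_comap]
      exact hle.trans_eq (congrArg (Ideal.comap (algebraMap S C)) (congrArg PrimeSpectrum.asIdeal hP').symm)
    · have h := JacCrit.Minimal.dimAt_away κ g L P'
      rw [hP', Kaehler.SmoothDim.dimAt_eq (n := Q.dimension) κ P'.asIdeal] at h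
      exact h.ge
  · rintro ⟨n, hn, hdim⟩
    obtain ⟨c, hc, v, hv⟩ := exists_span_of_not_le hn
    exact isSmoothAt_of_span κ _ _ (smul_mem_span_equiv e v c hv) q hc hdim

end Groth.Agent.H46.FibreProf.SmoothSpan
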